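import Cfsg.Agent.H4.Jor
import Cfsg.Agent.H4.Ext1
import Cfsg.Agent.H4.Cen
import Cfsg.Agent.H1.Basic

open Cfsg CfsgH3 Module
open scoped ComplexConjugate Pointwise

namespace CfsgH4.Jor

universe u
variable {G : Type*} [Group G] [Finite G] {χ : G → ℂ}

theorem comm_of_big (hχ : IsCharacter G χ) (hf : ∀ g : G, χ g = χ 1 → g = 1) {H : Subgroup G}
    (hH : ∀ q : ℕ, q.Prime → q ∣ Nat.card H → charDegree χ < q) :
    ∀ x ∈ H, ∀ y ∈ H, x * y = y * x := by
  intro x hx y hy
  haveI := Fintype.ofFinite H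
  have hr := hχ.restrict H
  obtain ⟨m, hm, he⟩ := hr.exists_eq_sum_irr
  set c : H := ⟨x, hx⟩ * ⟨y, hy⟩ * (⟨x, hx⟩ : H)⁻¹ * (⟨y, hy⟩ : H)⁻¹ with hc
  have h1 : χ c = χ (1 : H) := by
    have a1 := congrFun he c
    have a2 := congrFun he 1
    simp only [Finset.sum_apply, Pi.smul_apply, smul_eq_mul] at a1 a2
    rw [a1, a2]
    refine Finset.sum_congr rfl fun φ _ => ?_
    by_cases h0 : m φ = 0
    · simp [h0]
    have b1 : charDegree φ.1 ≤ charDegree χ := deg_le_of_under φ.2 hχ (by rw [hm]; exact_mod_cast h0)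
    have b2 : charDegree φ.1 = 1 := by
      by_contra h2
      have := hH _ (Nat.minFac_prime h2) ((Nat.minFac_dvd _).trans (charDegree_dvd φ.2))
      have := Nat.minFac_le (charDegree_pos φ.2)
      omega
    have b3 := (charDegree_eq_one φ.2.isCharacter).1 b2
    rw [b3, lin_comm φ.2.isCharacter b3 (g := c)]
    exact Subgroup.commutator_mem_commutator (Subgroup.mem_top _) (Subgroup.mem_top _)
  have h2 := hf _ h1
  simp only [hc, Subgroup.coe_mul, Subgroup.coe_inv] at h2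
  rw [mul_inv_eq_one, mul_inv_eq_iff_eq_mul] at h2
  exact h2

/-- a character of small degree which is rational on an element of prime order has it in its kernel -/
theorem ker_of_rat (hχ : IsCharacter G χ) {p : ℕ} (hp : p.Prime) (hd : charDegree χ + 1 < p) {x : G}
    (hx : orderOf x = p) (h : ∀ j : ℕ, ¬ p ∣ j → χ (x ^ j) = χ x) : χ x = χ 1 := by
  classical
  obtain ⟨d, s, h1, h2, -, h3⟩ := hχ.exists_eigenvalues x
  rw [charDegree_eq h1] at hd
  rw [hx] at h2
  set t := (Finset.univ.filter fun i => s i = 1).card with ht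
  have htd : t ≤ d := (Finset.card_filter_le _ _).trans (by simp)
  have a1 : ∑ j ∈ Finset.range p, χ (x ^ j) = p * t := by
    have : ∀ j : ℕ, χ (x ^ j) = ∑ i, s i ^ j := fun j => by simpa using h3 j
    simp only [this]
    rw [Finset.sum_comm, ht, Finset.card_filter]
    push_cast
    rw [Finset.mul_sum]
    refine Finset.sum_congr rfl fun i _ => ?_
    split_ifs with h0
    · simp [h0]
    · have := mul_neg_geom_sum (s i) p
      rw [h2, sub_self] at this
      rw [mul_zero]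
      exact (mul_eq_zero.1 this).resolve_left (sub_ne_zero.2 (Ne.symm h0))
  obtain ⟨r, rfl⟩ : ∃ r, p = r + 1 := ⟨p - 1, by omega⟩
  rw [Finset.sum_range_succ', pow_zero, Finset.sum_congr rfl (fun j hj => h (j + 1)
    (Nat.not_dvd_of_pos_of_lt (by omega) (by simpa using hj))), h1] at a1
  simp only [Finset.sum_const, Finset.card_range, nsmul_eq_mul] at a1
  have hr : (r : ℂ) ≠ 0 := by exact_mod_cast (by omega : r ≠ 0)
  have a2 : (((d - t : ℕ) : ℂ)) / r = t - χ x := by
    rw [Nat.cast_sub htd, div_eq_iff hr]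
    push_cast at a1
    linear_combination a1
  have a3 : r ∣ d - t := nat_dvd_of_isIntegral_div (by omega) (by
    rw [a2]; exact (isIntegral_natCast t).sub (hχ.isIntegral x))
  have a4 : d - t = 0 := Nat.eq_zero_of_dvd_of_lt a3 (by omega)
  have a5 : t = d := by omega
  rw [a4, a5] at a2
  rw [h1]
  simp only [Nat.cast_zero, zero_div] at a2
  linear_combination a2

theorem exists_pw (hχ : IsCharacter G χ) (hf : ∀ g : G, χ g = χ 1 → g = 1) {p : ℕ} (hp : p.Prime)
    (hd : charDegree χ + 1 < p) (hpG : p ∣ Nat.card G) :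
    ∃ k : ℕ, k.Coprime (Nat.card G) ∧ (∀ g : G, ¬ p ∣ orderOf g → g ^ k = g) ∧
      (fun g => χ (g ^ k)) ≠ χ := by
  by_contra hne
  push Not at hne
  haveI := Fact.mk hp
  obtain ⟨x, hx⟩ := exists_prime_orderOf_dvd_card' p hpG
  obtain ⟨a, m, hm, hG⟩ := Nat.exists_eq_pow_mul_and_not_dvd (Nat.card_pos (α := G)).ne' p hp.ne_one
  have h1 : χ x = χ 1 := ker_of_rat hχ hp hd hx fun j hj => by
    obtain ⟨k, hk1, hk2⟩ := Nat.chineseRemainder ((Nat.Prime.coprime_iff_not_dvd hp).2 hm) j 1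
    have b1 : k.Coprime (Nat.card G) := by
      rw [hG]
      refine Nat.Coprime.mul_right (Nat.Coprime.pow_right _ ?_) ?_
      · refine ((Nat.Prime.coprime_iff_not_dvd hp).2 fun h => hj ?_).symm
        exact (hk1.dvd_iff dvd_rfl).1 h
      · exact Nat.coprime_of_mul_modEq_one 1 (by simpa using hk2)
    have b2 := congrFun (hne k b1 fun g hg => by
      have : orderOf g ∣ m := by
        have := orderOf_dvd_natCard g
        rw [hG] at this
        exact (Nat.Coprime.pow_right _ ((Nat.Prime.coprime_iff_not_dvd hp).2 hg).symm).dvd_of_dvd_mul_left this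
      conv_rhs => rw [← pow_one g]
      exact pow_eq_pow_iff_modEq.2 (hk2.of_dvd this)) x
    rw [← b2]
    congr 1
    exact pow_eq_pow_iff_modEq.2 (hx ▸ hk1.symm)
  rw [hf x h1, orderOf_one] at hx
  exact hp.one_lt.ne hx

theorem exists_pq (hχ : IsIrrCharacter G χ) (hf : ∀ g : G, χ g = χ 1 → g = 1) {p q : ℕ}
    (hp : p.Prime) (hq : q.Prime) (hd : charDegree χ + 1 < p) (hd' : charDegree χ + 1 < q)
    (hpG : p ∣ Nat.card G) (hqG : q ∣ Nat.card G) :
    ∃ x y : G, orderOf x = p ∧ orderOf y = q ∧ x * y = y * x := by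
  haveI := Fintype.ofFinite G
  obtain ⟨k, hk, hk1, hk2⟩ := exists_pw hχ.isCharacter hf hp hd hpG
  obtain ⟨l, hl, hl1, hl2⟩ := exists_pw hχ.isCharacter hf hq hd' hqG
  obtain ⟨g, hg1, hg2⟩ : ∃ g : G, p ∣ orderOf g ∧ q ∣ orderOf g := by
    by_contra hne
    push Not at hne
    have h1 : classInner (χ - fun g => χ (g ^ k)) (χ - fun g => χ (g ^ l)) = 0 := by
      rw [classInner, Finset.sum_eq_zero, mul_zero]
      intro g _
      by_cases h : p ∣ orderOf g
      · simp [hl1 g (hne g h)]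
      · simp [hk1 g h]
    have a := hχ.comp_pow hk
    have b := hχ.comp_pow hl
    rw [classInner_sub_left, classInner_sub_right, classInner_sub_right, hχ.classInner_self,
      hχ.classInner_of_ne b hl2.symm, a.classInner_of_ne hχ hk2, a.classInner_eq_ite b] at h1
    split_ifs at h1 <;> norm_num at h1
  have h0 := (orderOf_pos g).ne'
  exact ⟨g ^ (orderOf g / p), g ^ (orderOf g / q), orderOf_pow_orderOf_div h0 hg1,
    orderOf_pow_orderOf_div h0 hg2, (Commute.pow_pow_self g _ _).eq⟩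

theorem exists_twist (hχ : IsIrrCharacter G χ) (hf : ∀ g : G, χ g = χ 1 → g = 1) {p : ℕ}
    (hp : p.Prime) (hd : ¬ p ∣ charDegree χ) {z : G} (hz : z ∈ Subgroup.center G)
    (ho : orderOf z = p) :
    ∃ ψ, IsIrrCharacter G ψ ∧ ψ 1 = χ 1 ∧ z ∈ charKer ψ ∧ IsPGroup p (charKer ψ) := by
  obtain ⟨a, m, hm, hG⟩ := Nat.exists_eq_pow_mul_and_not_dvd (Nat.card_pos (α := G)).ne' p hp.ne_one
  set d := charDegree χ with hdd
  have hd1 : χ 1 = d := (coe_charDegree hχ.isCharacter).symm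
  have hd0 : (d : ℂ) ≠ 0 := hd1 ▸ hχ.apply_one_ne_zero
  have hc : (d * m).Coprime p := (Nat.Coprime.mul_left ((Nat.Prime.coprime_iff_not_dvd hp).2 hd).symm
    ((Nat.Prime.coprime_iff_not_dvd hp).2 hm).symm)
  obtain ⟨t, -, ht⟩ := Nat.exists_mul_mod_eq_one_of_coprime hc hp.one_lt
  set μ : G →* ℂˣ := (dt χ ^ (m * t))⁻¹ with hμ
  have hψ := (irrLin ⟨χ, hχ⟩ μ).2
  have hap : ∀ g, (irrLin ⟨χ, hχ⟩ μ).1 g = χ g * μ g := irrLin_apply _ _
  have h1 : (irrLin ⟨χ, hχ⟩ μ).1 1 = χ 1 := by rw [hap]; simp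
  have scal : ∀ g, ‖χ g‖ = ‖χ 1‖ → ∃ c : ℂ, ‖c‖ = 1 ∧ ∀ k : ℕ, χ (g ^ k) = c ^ k * χ 1 := fun g hg => by
    refine ⟨χ g / χ 1, by rw [norm_div, hg, div_self (norm_ne_zero_iff.2 hχ.apply_one_ne_zero)],
      fun k => ?_⟩
    induction k with
    | zero => simp
    | succ k ih =>
      have := hχ.isCharacter.apply_mul_of_norm_eq hg (g ^ k)
      rw [← pow_succ, ih] at this
      have h0 := hχ.apply_one_ne_zero
      apply mul_left_cancel₀ h0
      rw [this, pow_succ]
      field_simp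
  refine ⟨_, hψ, h1, ?_, ?_⟩
  · rw [hψ.isCharacter.mem_charKer, h1, hap]
    obtain ⟨c, hc1, hc2⟩ := scal z (hχ.norm_apply_of_mem_center hz)
    have b1 := hc2 1
    rw [pow_one, pow_one] at b1
    have b2 := dt_of_scalar hχ.isCharacter hd1 hc1 b1
    have b3 : c ^ p = 1 := by
      have := hc2 p
      rw [← ho, pow_orderOf_eq_one, ho] at this
      exact mul_right_cancel₀ hχ.apply_one_ne_zero (by rw [← this, one_mul])
    have b4 : c ^ (d * m * t) = c := by
      rw [← Nat.div_add_mod (d * m * t) p, ht, pow_add, pow_mul, b3, one_pow, one_mul, pow_one]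
    have b5 : c ≠ 0 := norm_ne_zero_iff.1 (hc1.trans_ne one_ne_zero)
    rw [b1, hμ]
    simp only [MonoidHom.inv_apply, MonoidHom.pow_apply, Units.val_inv_eq_inv_val, Units.val_pow_eq_pow_val, b2]
    rw [← pow_mul, ← mul_assoc, b4]
    field_simp
  · rintro ⟨g, hg⟩
    refine ⟨a, Subtype.ext ?_⟩
    rw [hψ.isCharacter.mem_charKer, h1, hap] at hg
    have b1 : μ g ^ p ^ a = 1 := by
      rw [hμ]
      simp only [MonoidHom.inv_apply, MonoidHom.pow_apply]
      rw [inv_pow, ← pow_mul, show m * t * p ^ a = p ^ a * m * t by ring, pow_mul, ← hG, ← map_pow,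
        pow_card_eq_one', map_one, one_pow, inv_one]
    have b2 : (μ g : ℂ) ^ p ^ a = 1 := by rw [← Units.val_pow_eq_pow_val, b1, Units.val_one]
    have b3 : ‖(μ g : ℂ)‖ = 1 := Complex.norm_eq_one_of_pow_eq_one b2 (pow_pos hp.pos _).ne'
    obtain ⟨c, hc1, hc2⟩ := scal g (by rw [← hg, norm_mul, b3, mul_one])
    have b4 := hc2 1
    rw [pow_one, pow_one] at b4
    have b5 : c * μ g = 1 := mul_right_cancel₀ hχ.apply_one_ne_zero (by
      rw [one_mul]; conv_rhs => rw [← hg, b4]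
      ring)
    have b6 : c ^ p ^ a = 1 := by
      have := congrArg (· ^ p ^ a) b5
      simpa [mul_pow, b2] using this
    apply hf
    simp only [SubmonoidClass.mk_pow]
    rw [hc2, b6, one_mul]

/-- Hall subgroup for the primes `> n + 1` -/
def Hl (n : ℕ) (H : Subgroup G) : Prop :=
  (∀ q : ℕ, q.Prime → q ∣ Nat.card H → n + 1 < q) ∧ ∀ q : ℕ, q.Prime → q ∣ H.index → q ≤ n + 1

theorem Hl.dvd {n m : ℕ} {H : Subgroup G} (h : Hl n H) (hm : m ∣ Nat.card G)
    (h2 : ∀ q : ℕ, q.Prime → q ∣ m → n + 1 < q) : m ∣ Nat.card H := by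
  rw [← H.card_mul_index] at hm
  refine Nat.Coprime.dvd_of_dvd_mul_right ?_ hm
  exact Nat.coprime_of_dvd fun q hq h3 h4 => (h2 q hq h3).not_ge (h.2 q hq h4)

theorem exists_conj_mem {p : ℕ} (hp : p.Prime) {H : Subgroup G} (hH : ¬ p ∣ H.index) {x : G}
    (hx : orderOf x = p) : ∃ g : G, g * x * g⁻¹ ∈ H := by
  haveI := Fact.mk hp
  have h1 : IsPGroup p (Subgroup.zpowers x) := IsPGroup.of_card (n := 1) (by simp [hx])
  obtain ⟨q, hq⟩ := h1.nonempty_fixed_point_of_prime_not_dvd_card (G ⧸ H) hH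
  obtain ⟨g, rfl⟩ := QuotientGroup.mk_surjective q
  have := hq ⟨x⁻¹, inv_mem (Subgroup.mem_zpowers x)⟩
  refine ⟨g⁻¹, ?_⟩
  have h2 : ((x⁻¹ * g : G) : G ⧸ H) = g := this
  simpa [mul_assoc] using QuotientGroup.eq.1 h2

theorem exists_hall_aux (n : ℕ) : ∀ (N : ℕ) (G : Type u) [Group G] [Finite G] (χ : G → ℂ),
    Nat.card G = N → IsCharacter G χ → (∀ g : G, χ g = χ 1 → g = 1) → charDegree χ ≤ n →
      ∃ H : Subgroup G, Hl n H := by
  intro N
  induction N using Nat.strong_induction_on with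
  | _ N ih =>
  intro G _ _ χ hN hχ hf hd
  haveI := Fintype.ofFinite G
  have sub : ∀ K : Subgroup G, K ≠ ⊤ → ∃ H : Subgroup K, Hl n H := fun K hK =>
    ih _ (hN ▸ (K.card_le_card_group.lt_of_ne fun h => hK (Subgroup.eq_top_of_card_eq _ h))) K
      (fun x : K => χ x) rfl (hχ.restrict K) (fun g hg => Subtype.ext (hf g hg)) hd
  have quo : ∀ ψ, IsIrrCharacter G ψ → charDegree ψ ≤ n → charKer ψ ≠ ⊥ →
      ∃ H : Subgroup G, charKer ψ ≤ H ∧ (∀ q : ℕ, q.Prime → q ∣ H.index → q ≤ n + 1) ∧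
        ∀ q : ℕ, q.Prime → q ∣ Nat.card H → n + 1 < q ∨ q ∣ Nat.card (charKer ψ) := by
    intro ψ hψ hd hK
    haveI := hψ.isCharacter.charKer_normal
    obtain ⟨β, hβ, h1, h2, h3, h4⟩ := exists_faithful_quot hψ
    obtain ⟨H, hH⟩ := ih _ (hN ▸ CfsgH1.card_quotient_lt hK) (G ⧸ charKer ψ) β rfl hβ.isCharacter
      h4 (h3 ▸ hd)
    refine ⟨H.comap (QuotientGroup.mk' _), fun x hx => ?_, ?_, fun q hq h => ?_⟩
    · rw [Subgroup.mem_comap, QuotientGroup.mk'_apply, (QuotientGroup.eq_one_iff x).2 hx]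
      exact one_mem _
    · rw [Subgroup.index_comap_of_surjective _ (QuotientGroup.mk'_surjective _)]
      exact hH.2
    · rw [CfsgH1.card_comap_mk'] at h
      rcases (Nat.Prime.dvd_mul hq).1 h with h | h
      exacts [.inr h, .inl (hH.1 q hq h)]
  by_cases hirr : ∃ ψ, IsIrrCharacter G ψ ∧ charDegree ψ ≤ n ∧ charKer ψ = ⊥
  swap
  · push Not at hirr
    by_cases hall : ∀ q : ℕ, q.Prime → q ∣ Nat.card G → n + 1 < q
    · exact ⟨⊤, by simpa using hall, fun q hq h => by simp [hq.ne_one] at h⟩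
    push Not at hall
    obtain ⟨q, hq, hqG, hqn⟩ := hall
    haveI := Fact.mk hq
    obtain ⟨x, hx⟩ := exists_prime_orderOf_dvd_card' q hqG
    obtain ⟨m, hm, he⟩ := hχ.exists_eq_sum_irr
    obtain ⟨φ, h0, hφ⟩ : ∃ φ : IrrCharacter G, m φ ≠ 0 ∧ φ.1 x ≠ φ.1 1 := by
      by_contra hne
      push Not at hne
      have : x = 1 := hf x (by
        rw [he]
        simp only [Finset.sum_apply, Pi.smul_apply, smul_eq_mul]
        refine Finset.sum_congr rfl fun φ _ => ?_
        by_cases h0 : m φ = 0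
        · simp [h0]
        · rw [hne φ h0])
      rw [this, orderOf_one] at hx
      exact hq.one_lt.ne hx
    have hφd : charDegree φ.1 ≤ n := by
      have h1 : IsCharacter G (χ - φ.1) := hχ.sub_of_constituent φ.2 (by rw [hm]; exact_mod_cast h0)
      have h2 := coe_charDegree h1
      rw [Pi.sub_apply, ← coe_charDegree hχ, ← coe_charDegree φ.2.isCharacter, eq_sub_iff_add_eq] at h2
      have h3 : charDegree (χ - φ.1) + charDegree φ.1 = charDegree χ := by exact_mod_cast h2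
      omega
    haveI := φ.2.isCharacter.charKer_normal
    obtain ⟨β, hβ, h1, h2, h3, h4⟩ := exists_faithful_quot φ.2
    obtain ⟨H, hH⟩ := ih _ (hN ▸ CfsgH1.card_quotient_lt (hirr _ φ.2 hφd)) (G ⧸ charKer φ.1) β rfl
      hβ.isCharacter h4 (h3 ▸ hφd)
    have hne : H.comap (QuotientGroup.mk' (charKer φ.1)) ≠ ⊤ := fun h => by
      have a1 : (x : G ⧸ charKer φ.1) ∈ H := by
        have : x ∈ H.comap (QuotientGroup.mk' (charKer φ.1)) := h ▸ Subgroup.mem_top _
        exact this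
      have a2 : orderOf (x : G ⧸ charKer φ.1) ∣ q := hx ▸ orderOf_map_dvd (QuotientGroup.mk' _) x
      rcases (Nat.dvd_prime hq).1 a2 with a3 | a3
      · rw [orderOf_eq_one_iff, QuotientGroup.eq_one_iff, φ.2.isCharacter.mem_charKer] at a3
        exact hφ a3
      · exact (hH.1 q hq (a3 ▸ H.orderOf_dvd_natCard a1)).not_ge hqn
    obtain ⟨L, hL⟩ := sub _ hne
    refine ⟨L.map (Subgroup.subtype _), ?_, fun r hr h => ?_⟩
    · rw [Subgroup.card_map_of_injective (Subgroup.subtype_injective _)]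
      exact hL.1
    · rw [Subgroup.index_map_subtype,
        Subgroup.index_comap_of_surjective _ (QuotientGroup.mk'_surjective _)] at h
      rcases (Nat.Prime.dvd_mul hr).1 h with h | h
      exacts [hL.2 r hr h, hH.2 r hr h]
  obtain ⟨ψ, hψ, hψd, hK⟩ := hirr
  have hψf : ∀ g : G, ψ g = ψ 1 → g = 1 := fun g hg => by
    rw [← hψ.isCharacter.mem_charKer, hK] at hg
    exact hg
  by_cases hz : ∃ z ∈ Subgroup.center G, (orderOf z).Prime ∧ n + 1 < orderOf z
  · obtain ⟨z, hz, hp, hn⟩ := hz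
    haveI := Fact.mk hp
    obtain ⟨φ, hφ, h1, h2, h3⟩ := exists_twist hψ hψf hp
      (Nat.not_dvd_of_pos_of_lt (charDegree_pos hψ) (by omega)) hz rfl
    obtain ⟨H, -, a2, a3⟩ := quo φ hφ (by rwa [charDegree, h1]) fun h => by
      rw [h, Subgroup.mem_bot] at h2
      rw [h2, orderOf_one] at hn
      omega
    refine ⟨H, fun q hq h => (a3 q hq h).elim id fun h => ?_, a2⟩
    obtain ⟨k, hk⟩ := h3.exists_card_eq
    rw [hk] at h
    rwa [(Nat.prime_dvd_prime_iff_eq hq hp).1 (hq.dvd_of_dvd_pow h)]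
  push Not at hz
  obtain ⟨H, hH, hmax⟩ := Set.exists_max_image
    {H : Subgroup G | ∀ q : ℕ, q.Prime → q ∣ Nat.card H → n + 1 < q} (fun H => Nat.card H)
    (Set.toFinite _) ⟨⊥, fun q hq h => by simp [hq.ne_one] at h⟩
  have key : ∀ y : G, (orderOf y).Prime → n + 1 < orderOf y → ∀ m : ℕ,
      m ∣ Nat.card (Subgroup.centralizer ({y} : Set G)) → (∀ q : ℕ, q.Prime → q ∣ m → n + 1 < q) →
      m ≤ Nat.card H := fun y hy hn m hm h2 => by
    obtain ⟨L, hL⟩ := sub (Subgroup.centralizer ({y} : Set G)) fun h => by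
      refine (hz y ?_ hy).not_gt hn
      rw [Subgroup.mem_center_iff]
      intro g
      have : g ∈ Subgroup.centralizer ({y} : Set G) := h ▸ Subgroup.mem_top _
      exact (Subgroup.mem_centralizer_singleton_iff.1 this)
    have a1 := hmax (L.map (Subgroup.subtype _)) (by
      rw [Set.mem_setOf_eq, Subgroup.card_map_of_injective (Subgroup.subtype_injective _)]
      exact hL.1)
    simp only [Subgroup.card_map_of_injective (Subgroup.subtype_injective _)] at a1
    exact (Nat.le_of_dvd Nat.card_pos (hL.dvd hm h2)).trans a1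
  have ab : ∀ K : Subgroup G, (∀ q : ℕ, q.Prime → q ∣ Nat.card K → n + 1 < q) → ∀ y ∈ K,
      Nat.card K ∣ Nat.card (Subgroup.centralizer ({y} : Set G)) := fun K hK y hy =>
    Subgroup.card_dvd_of_le fun x hx => Subgroup.mem_centralizer_singleton_iff.2
      (comm_of_big hχ hf (fun q hq h => by have := hK q hq h; omega) x hx y hy)
  have c1 : ∀ r : ℕ, r.Prime → r ∣ Nat.card H → ¬ r ∣ H.index := fun r hr h => by
    haveI := Fact.mk hr
    obtain ⟨y, hy⟩ := exists_prime_orderOf_dvd_card' r h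
    have hy' : orderOf (y : G) = r := by rw [Subgroup.orderOf_coe, hy]
    have h1 : IsPGroup r (Subgroup.zpowers (y : G)) := IsPGroup.of_card (n := 1) (by rw [Nat.card_zpowers, hy', pow_one])
    obtain ⟨R, hR⟩ := h1.exists_le_sylow
    have hRp : ∀ q : ℕ, q.Prime → q ∣ Nat.card R → n + 1 < q := fun q hq h2 => by
      obtain ⟨k, hk⟩ := R.isPGroup'.exists_card_eq
      rw [hk] at h2
      rw [(Nat.prime_dvd_prime_iff_eq hq hr).1 (hq.dvd_of_dvd_pow h2)]
      exact hH r hr h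
    have a1 := key y (hy' ▸ hr) (hy' ▸ hH r hr h) (Nat.lcm (Nat.card H) (Nat.card R))
      (Nat.lcm_dvd (ab H hH y y.2) (ab R hRp y (hR (Subgroup.mem_zpowers _)))) fun q hq h2 =>
        ((Nat.Prime.dvd_lcm hq).1 h2).elim (hH q hq) (hRp q hq)
    have a2 : Nat.lcm (Nat.card H) (Nat.card R) = Nat.card H :=
      le_antisymm a1 (Nat.le_of_dvd (Nat.lcm_pos Nat.card_pos Nat.card_pos) (Nat.dvd_lcm_left _ _))
    obtain ⟨c, hc⟩ : Nat.card R ∣ Nat.card H := a2 ▸ Nat.dvd_lcm_right _ _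
    intro h3
    apply R.not_dvd_index
    have a3 := H.card_mul_index
    rw [← (R : Subgroup G).card_mul_index, hc, mul_assoc] at a3
    rw [← Nat.eq_of_mul_eq_mul_left Nat.card_pos a3]
    exact h3.mul_left _
  refine ⟨H, hH, fun q hq h => ?_⟩
  by_contra hn
  push Not at hn
  haveI := Fact.mk hq
  have hqH : ¬ q ∣ Nat.card H := fun h2 => c1 q hq h2 h
  have hqG : q ∣ Nat.card G := h.trans H.index_dvd_card
  by_cases h1 : Nat.card H = 1
  · obtain ⟨y, hy⟩ := exists_prime_orderOf_dvd_card' q hqG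
    have := key y (hy ▸ hq) (hy ▸ hn) q (hy ▸ Subgroup.orderOf_dvd_natCard _
      (Subgroup.mem_centralizer_singleton_iff.2 rfl)) fun r hr h2 => by
        rwa [(Nat.prime_dvd_prime_iff_eq hr hq).1 h2]
    omega
  have hp := Nat.minFac_prime h1
  have hpH := Nat.minFac_dvd (Nat.card H)
  set p := (Nat.card H).minFac
  have hpn := hH p hp hpH
  obtain ⟨x, y, hx, hy, hxy⟩ := exists_pq hψ hψf hp hq (by omega) (by omega)
    (hpH.trans H.card_subgroup_dvd_card) hqG
  obtain ⟨g, hg⟩ := exists_conj_mem hp (c1 p hp hpH) hx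
  have hx' : orderOf (g * x * g⁻¹) = p := by
    rw [← hx]; exact (MulAut.conj g).orderOf_eq x
  have hy' : orderOf (g * y * g⁻¹) = q := by
    rw [← hy]; exact (MulAut.conj g).orderOf_eq y
  have a1 := key _ (hx' ▸ hp) (hx' ▸ hpn) (Nat.card H * q)
    (Nat.Coprime.mul_dvd_of_dvd_of_dvd ((Nat.Prime.coprime_iff_not_dvd hq).2 hqH).symm
      (ab H hH _ hg) (hy' ▸ Subgroup.orderOf_dvd_natCard _
        (Subgroup.mem_centralizer_singleton_iff.2 (by
          calc g * y * g⁻¹ * (g * x * g⁻¹) = g * (y * x) * g⁻¹ := by group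
            _ = _ := by rw [← hxy]; group)))) fun r hr h2 =>
      ((Nat.Prime.dvd_mul hr).1 h2).elim (hH r hr) fun h3 => by
        rwa [(Nat.prime_dvd_prime_iff_eq hr hq).1 h3]
  have := Nat.card_pos (α := H)
  have := hq.two_le
  nlinarith

theorem blichfeldt (hχ : IsCharacter G χ) (hf : ∀ g : G, χ g = χ 1 → g = 1) :
    ∃ A : Subgroup G, (∀ x ∈ A, ∀ y ∈ A, x * y = y * x) ∧ Hl (charDegree χ) A := by
  obtain ⟨H, hH⟩ := exists_hall_aux (charDegree χ) _ G χ rfl hχ hf le_rfl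
  exact ⟨H, comm_of_big hχ hf fun q hq h => by have := hH.1 q hq h; omega, hH⟩

end CfsgH4.Jor
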