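import Cfsg.Agent.H3.Dg
import Cfsg.Agent.S3909
import Cfsg.Agent.S4022

/-! Groups in which abelian subgroups of equal order are conjugate: passage to quotients. -/

set_option autoImplicit false

namespace CfsgH4.Bgr

open Subgroup CfsgH1 Pointwise Cfsg
open Cfsg.Agent.S4022 (hall_card hall_sup)
open scoped commutatorElement

universe u

/-- Abelian subgroups of equal order are conjugate. -/
def BB (G : Type*) [Group G] : Prop :=
  ∀ A B : Subgroup G, IsMulCommutative ↥A → IsMulCommutative ↥B → Nat.card ↥A = Nat.card ↥B →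
    ∃ g : G, B = A.map (MulAut.conj g).toMonoidHom

theorem BB.cj {G : Type*} [Group G] (h : BB G) {A B : Subgroup G} (a : IsMulCommutative A)
    (b : IsMulCommutative B) (e : Nat.card A = Nat.card B) : ∃ g : G, MulAut.conj g • A = B := by
  obtain ⟨g, hg⟩ := h A B a b e
  exact ⟨g, by rw [hg, conj_smul_eq_map]⟩

theorem BB.of_equiv {G G' : Type*} [Group G] [Group G'] (h : BB G) (e : G ≃* G') : BB G' := by
  intro A B a b c
  have hs : ∀ X : Subgroup G', (X.map e.symm.toMonoidHom).map e.toMonoidHom = X := fun X => by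
    rw [map_map]; convert map_id X; ext; simp
  obtain ⟨g, hg⟩ := h.cj (A := A.map e.symm.toMonoidHom) (B := B.map e.symm.toMonoidHom) inferInstance
    inferInstance (by rw [card_map_of_injective e.symm.injective, card_map_of_injective e.symm.injective, c])
  exact ⟨e.toMonoidHom g, by rw [← conj_smul_eq_map, ← hs A, ← hs B, ← hg, map_conj_smul]⟩

variable {G : Type u} [Group G] [Finite G]

theorem mem_of_ord (h : BB G) (M : Subgroup G) [M.Normal] {a m : G} (hm : m ∈ M) (e : orderOf m = orderOf a) :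
    a ∈ M := (Cfsg.Agent.S3909.result h M).1 a ⟨m, hm, e⟩

theorem gq_one (h : BB G) [Group.IsSolvable G] {S : Subgroup G} {a b : G} {m : ℕ} (g : GQ S a b m) : m = 1 := by
  by_contra hm
  obtain ⟨k, rfl⟩ : ∃ k, m = k + 2 := ⟨m - 2, by have := g.pos; omega⟩
  have z1 : a ^ 2 ^ (k + 2) ≠ 1 := fun e => by
    have := orderOf_dvd_of_pow_eq_one e
    rw [g.ord, Nat.pow_dvd_pow_iff_le_right one_lt_two] at this; omega
  have o4 : ∀ y : G, y ^ 2 = a ^ 2 ^ (k + 2) → orderOf y = 2 ^ 2 := fun y hy =>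
    orderOf_eq_prime_pow (p := 2) (n := 1) (by rwa [pow_one, hy]) (by
      rw [show 2 ^ (1 + 1) = 2 * 2 from rfl, pow_mul, hy, ← pow_mul, ← pow_succ, ← g.ord, pow_orderOf_eq_one])
  have ob := o4 b g.sq'
  have oab := o4 (a * b) (by
    rw [← g.sq']
    calc (a * b) ^ 2 = a * (b * a * b⁻¹) * b ^ 2 := by simp only [pow_two]; group
      _ = _ := by rw [g.inv]; group)
  have oa := o4 ((a ^ 2) ^ 2 ^ k) (by rw [← pow_mul, ← pow_mul]; congr 1; ring)
  have key : ∀ n, b ∈ derivedSeries G n := by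
    intro n
    induction n with
    | zero => exact mem_top _
    | succ n ih =>
      have h1 : a * b ∈ derivedSeries G n := mem_of_ord h _ ih (ob.trans oab.symm)
      have h2 : a ∈ derivedSeries G n := by simpa using mul_mem h1 (inv_mem ih)
      have h3 : ⁅a, b⁆ ∈ derivedSeries G (n + 1) := commutator_mem_commutator h2 ih
      have h4 : ⁅a, b⁆ = a ^ 2 := by
        calc ⁅a, b⁆ = a * (b * a * b⁻¹)⁻¹ := by rw [commutatorElement_def]; group
          _ = _ := by rw [g.inv, inv_inv, pow_two]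
      exact mem_of_ord h _ (pow_mem (h4 ▸ h3) _) (oa.trans ob.symm)
  obtain ⟨n, hn⟩ := Group.IsSolvable.solvable (G := G)
  have := key n
  rw [hn, mem_bot] at this
  rw [this, orderOf_one] at ob
  omega

theorem step (h : BB G) (M : Subgroup G) [hMn : M.Normal] {p : ℕ} (hp : p.Prime) (h0 : M ≠ ⊥)
    (hab : IsMulCommutative M) (hMp : IsPGroup p M) (hexp : ∀ x ∈ M, x ^ p = 1)
    (hs : p ≠ 2 ∨ Group.IsSolvable G) : BB (G ⧸ M) := by
  haveI := Fact.mk hp
  have str : ∀ X : Subgroup (G ⧸ M), IsMulCommutative X → ∃ P Q : Subgroup G,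
      HallIn {p} P (X.comap (QuotientGroup.mk' M)) ∧ HallIn {p}ᶜ Q (X.comap (QuotientGroup.mk' M)) ∧
      M ≤ P ∧ IsMulCommutative Q ∧ Q ≤ normalizer (P : Set G) ∧ ⁅P, Q⁆ ≤ M := by
    intro X hX
    set A := X.comap (QuotientGroup.mk' M)
    have hMA : M ≤ A := fun x hx => by
      change QuotientGroup.mk' M x ∈ X
      rw [show QuotientGroup.mk' M x = 1 from (QuotientGroup.eq_one_iff x).2 hx]; exact one_mem _
    have hcm : ∀ x ∈ A, ∀ y ∈ A, ⁅x, y⁆ ∈ M := fun x hx y hy => by
      rw [← QuotientGroup.ker_mk' M, MonoidHom.mem_ker, map_commutatorElement,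
        commutatorElement_eq_one_iff_mul_comm]
      exact isMulCommutative_iff'.1 hX _ hx _ hy
    haveI : Group.IsSolvable M := isSolvable_of_isMulCommutative
    haveI : Group.IsSolvable X := isSolvable_of_isMulCommutative
    haveI : Group.IsSolvable A := Group.isSolvable_of_ker_le_range (inclusion hMA)
      ((QuotientGroup.mk' M).subgroupComap X) fun x hx =>
        ⟨⟨x, (QuotientGroup.eq_one_iff (x : G)).1 (congrArg Subtype.val hx)⟩, rfl⟩
    obtain ⟨P, hP⟩ := exists_hallIn {p} A
    obtain ⟨Q, hQ⟩ := exists_hallIn {p}ᶜ A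
    have hMP := hP.ge_of_le_normalizer (piNum_singleton_card_iff.2 hMp) hMA le_normalizer_of_normal
    refine ⟨P, Q, hP, hQ, hMP, isMulCommutative_iff'.2 fun x hx y hy => ?_,
      le_normalizer_iff.2 fun g hg x hx => ?_, commutator_le.2 fun x hx y hy => hcm x (hP.le hx) y (hQ.le hy)⟩
    · rw [← commutatorElement_eq_one_iff_mul_comm]
      exact eq_one_of_mem_of_coprime ((piNum_singleton_card_iff.2 hMp).coprime hQ.piNum)
        (hcm x (hQ.le hx) y (hQ.le hy)) (mul_mem (mul_mem (mul_mem hx hy) (inv_mem hx)) (inv_mem hy))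
    · have := mul_mem (hMP (hcm g (hQ.le hg) x (hP.le hx))) hx
      rwa [commutatorElement_def, inv_mul_cancel_right] at this
  intro X Y hX hY hXY
  obtain ⟨P, Q, hP, hQ, hMP, aQ, nQ, cQ⟩ := str X hX
  obtain ⟨P', Q', hP', hQ', hMP', aQ', nQ', cQ'⟩ := str Y hY
  have hc : Nat.card (X.comap (QuotientGroup.mk' M)) = Nat.card (Y.comap (QuotientGroup.mk' M)) := by
    rw [card_comap_mk', card_comap_mk', hXY]
  suffices ∃ g : G, MulAut.conj g • X.comap (QuotientGroup.mk' M) = Y.comap (QuotientGroup.mk' M) by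
    obtain ⟨g, hg⟩ := this
    refine ⟨QuotientGroup.mk' M g, ?_⟩
    rw [← conj_smul_eq_map, ← map_comap_eq_self_of_surjective (QuotientGroup.mk'_surjective M) Y, ← hg,
      map_conj_smul, map_comap_eq_self_of_surjective (QuotientGroup.mk'_surjective M)]
  have cP := hall_card hP hP' hc
  obtain ⟨g, hg⟩ := h.cj aQ aQ' (hall_card hQ hQ' hc)
  have pP := piNum_singleton_card_iff.1 hP.piNum
  have pP' := piNum_singleton_card_iff.1 hP'.piNum
  rw [← hall_sup hP hQ nQ, ← hall_sup hP' hQ' nQ']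
  by_cases hPM : P = M
  · have : M = P' := eq_of_le_of_card_ge hMP' (by rw [← cP, hPM])
    exact ⟨g, by rw [smul_sup, hg, hPM, ← this,
      conj_smul_eq_of_mem_normalizer (le_normalizer_of_normal (mem_top g))]⟩
  have hPM' : P' ≠ M := fun e => hPM (eq_of_le_of_card_ge hMP (by rw [cP, e])).symm
  have cM : Nat.card M = p := by
    obtain ⟨t, ht⟩ := hMp.exists_card_eq
    rcases t with _ | _ | t
    · exact absurd (card_eq_one.1 ht) h0
    · rw [ht, zero_add, pow_one]
    · obtain ⟨S, hS⟩ := pP.exists_le_sylow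
      exact absurd (le_antisymm (hS.trans ((Cfsg.Agent.S3909.result h M).2 p _ (by omega) ht ⟨hab, hexp⟩ S).le)
        hMP) hPM
  have hall : ∀ x : G, x ^ p = 1 → x ∈ M := fun x hx => by
    by_cases e : x = 1
    · exact e ▸ one_mem _
    obtain ⟨m, hm⟩ := exists_prime_orderOf_dvd_card' (G := M) p cM.symm.dvd
    exact mem_of_ord h M m.2 (by rw [orderOf_coe, hm, orderOf_eq_prime hx e])
  have cen : ∀ P Q : Subgroup G, IsPGroup p P → PiNum {p}ᶜ (Nat.card Q) → M ≤ P → P ≠ M →
      Q ≤ normalizer (P : Set G) → ⁅P, Q⁆ ≤ M → Q ≤ centralizer (P : Set G) := by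
    intro P Q pP hQ hMP hne nQ cQ
    refine CfsgH2.coprime_le_cent_of_phi nQ ((piNum_singleton_card_iff.2 pP).coprime hQ).symm (cQ.trans ?_)
    obtain ⟨x, hx, hxM⟩ := SetLike.exists_of_lt (lt_of_le_of_ne hMP hne.symm)
    have h1 : frattiniOf P ≠ ⊥ := fun e => hxM (hall x (by
      have := CfsgH2.pow_mem_phi pP hx
      rwa [e, mem_bot] at this))
    have h2 : IsPGroup p (frattiniOf P) := pP.to_le (map_subtype_le _)
    obtain ⟨y, hy⟩ := exists_prime_orderOf_dvd_card' (G := frattiniOf P) p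
      (h2.card_eq_or_dvd.resolve_left (mt card_eq_one.1 h1))
    have hy' : orderOf (y : G) = p := by rw [orderOf_coe, hy]
    have : zpowers (y : G) = M := eq_of_le_of_card_ge (zpowers_le.2 (hall _ (hy' ▸ pow_orderOf_eq_one _)))
      (by rw [cM, Nat.card_zpowers, hy'])
    exact this ▸ zpowers_le.2 y.2
  have c1 := cen P Q pP hQ.piNum hMP hPM nQ cQ
  have c2 := cen P' Q' pP' hQ'.piNum hMP' hPM' nQ' cQ'
  have ab : ∀ P Q : Subgroup G, IsMulCommutative P → IsMulCommutative Q → Q ≤ centralizer (P : Set G) →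
      IsMulCommutative (P ⊔ Q : Subgroup G) := fun P Q a b c =>
    le_centralizer_iff_isMulCommutative.1 (sup_le
      (le_centralizer_iff.1 (sup_le (le_centralizer_iff_isMulCommutative.2 a) c))
      (le_centralizer_iff.1 (sup_le (le_centralizer_iff.1 c) (le_centralizer_iff_isMulCommutative.2 b))))
  by_cases ha : IsMulCommutative P ∧ IsMulCommutative P'
  · exact h.cj (ab P Q ha.1 aQ c1) (ab P' Q' ha.2 aQ' c2) (by
      rw [hall_sup hP hQ nQ, hall_sup hP' hQ' nQ', hc])
  have nab : ∀ R : Subgroup G, IsPGroup p R → ¬ IsMulCommutative R → HallIn {p} R ⊤ ∧ Group.IsSolvable G := by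
    intro R pR nR
    obtain ⟨S, hS⟩ := pR.exists_le_sylow
    rcases CfsgDg.tri S.isPGroup' with e | ⟨rfl, a, b, m, e⟩ | ⟨E, -, e, cE⟩
    · exact absurd (isCyclic_of_le hS).isMulCommutative nR
    · haveI := hs.resolve_left (not_not.2 rfl)
      obtain rfl := gq_one h e
      have cS := e.toCy2.card
      obtain ⟨j, hj⟩ := pR.exists_card_eq
      have : R = S := eq_of_le_of_card_ge hS (by
        rw [cS, hj]
        refine Nat.pow_le_pow_right two_pos (not_lt.1 fun hlt => nR ?_)
        rcases j with _ | _ | _ | j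
        · rw [card_eq_one.1 hj]; infer_instance
        · haveI := isCyclic_of_prime_card hj; infer_instance
        · exact IsPGroup.isMulCommutative_of_card_eq_prime_sq hj
        · omega)
      refine ⟨⟨le_top, piNum_singleton_card_iff.2 pR, ?_⟩, inferInstance⟩
      rw [relIndex_top_right, this]
      exact fun q _ hd e => S.not_dvd_index (Set.mem_singleton_iff.1 e ▸ hd)
    · have := card_le_of_le (show E ≤ M from fun x hx => hall x (e.2 x hx))
      rw [cE, cM] at this
      nlinarith [hp.two_le]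
  obtain ⟨s1, s2, s3⟩ : HallIn {p} P ⊤ ∧ HallIn {p} P' ⊤ ∧ Group.IsSolvable G := by
    rcases not_and_or.1 ha with e | e
    · exact ⟨(nab P pP e).1, (nab P pP e).1.of_card_eq le_top cP.symm, (nab P pP e).2⟩
    · exact ⟨(nab P' pP' e).1.of_card_eq le_top cP, (nab P' pP' e).1, (nab P' pP' e).2⟩
  have t1 : HallIn {p} (MulAut.conj g • P) (centralizer (Q' : Set G)) := (s1.smul_of_mem (mem_top g)).mono (by
    rw [← hg, centralizer_conj_smul]; exact conj_smul_mono g (le_centralizer_iff.1 c1)) le_top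
  obtain ⟨c, hc1, hc2⟩ := t1.exists_conj (hallSep_of_isSolvable _) (s2.mono (le_centralizer_iff.1 c2) le_top)
  exact ⟨c * g, by rw [← conj_smul_conj_smul, smul_sup, smul_sup, hc2, hg,
    conj_smul_eq_of_mem_normalizer (centralizer_le_normalizer _ hc1)]⟩

theorem quo (n : ℕ) : ∀ (G : Type u) [Group G] [Finite G] (M : Subgroup G) [M.Normal], Nat.card M = n → BB G →
    (Group.IsSolvable G ∨ (Group.IsSolvable M ∧ Odd (Nat.card M))) → BB (G ⧸ M) := by
  induction n using Nat.strong_induction_on with | _ n ih => ?_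
  intro G _ _ M _ hn h hs
  by_cases h0 : M = ⊥
  · subst h0
    exact h.of_equiv QuotientGroup.quotientBot.symm
  haveI : Group.IsSolvable M := hs.elim (fun _ => inferInstance) (·.1)
  obtain ⟨N, p, hNn, hN0, hNM, hp, hab, hNp, hexp, -⟩ := exists_elementary_normal_le M h0
  haveI := Fact.mk hp
  have hpN : p ∣ Nat.card N := (hNp.card_eq_or_dvd).resolve_left (mt card_eq_one.1 hN0)
  have h1 := step h N hp hN0 hab hNp hexp (hs.symm.imp_left fun e => by
    rintro rfl
    exact (Nat.not_even_iff_odd.2 e.2) (even_iff_two_dvd.2 (hpN.trans (card_dvd_of_le hNM))))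
  haveI := normal_map_mk' N M
  have hc := card_mul_relIndex hNM
  rw [← card_map_mk'] at hc
  have h2 := ih (Nat.card (M.map (QuotientGroup.mk' N))) (by
    rw [← hn, ← hc]
    exact lt_mul_of_one_lt_left Nat.card_pos (hp.one_lt.trans_le (Nat.le_of_dvd Nat.card_pos hpN)))
    (G ⧸ N) _ rfl h1 (hs.imp (fun e => by haveI := e; infer_instance) fun e =>
      ⟨Group.isSolvable_of_surjective (MonoidHom.subgroupMap_surjective _ M),
        e.2.of_dvd_nat (Dvd.intro_left _ hc)⟩)
  exact h2.of_equiv (QuotientGroup.quotientQuotientEquivQuotient N M hNM)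

end CfsgH4.Bgr
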