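import Cfsg.Agent.H4.Cy7
import Cfsg.Agent.H4.Ch1
import Cfsg.Agent.H4.Ext1
import Cfsg.Agent.L0.Conj

/-! The principal block for a Sylow subgroup of prime order, in elementary terms. -/

set_option autoImplicit false
open Cfsg MonoidAlgebra CfsgL0 CfsgH1 CfsgH4
open CfsgH3 hiding cj cj_cj
open scoped ComplexConjugate Pointwise

namespace CfsgH4

local notation "C[" Q "]" => Subgroup.centralizer (SetLike.coe (Q : Subgroup _))
local notation "N[" Q "]" => Subgroup.normalizer (SetLike.coe (Q : Subgroup _))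
local notation "Z[" u "]" => Subgroup.zpowers u
local notation "C1[" u "]" => Subgroup.centralizer (singleton u)

section Fib
variable {A ι : Type*} [Group A] [Finite A]

open Classical in
/-- The fibre of the parametrization of the exceptional characters. -/
noncomputable def fib (y : (A →* ℂˣ) → ι) (x : ι) : Finset (A →* ℂˣ) :=
  Finset.univ.filter fun l => l ≠ 1 ∧ y l = x

theorem mem_fib {y : (A →* ℂˣ) → ι} {x : ι} {l : A →* ℂˣ} : l ∈ fib y x ↔ l ≠ 1 ∧ y l = x := by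
  simp [fib]

/-- Sum of the linear characters in a fibre. -/
noncomputable def eta (y : (A →* ℂˣ) → ι) (x : ι) (a : A) : ℂ := ∑ l ∈ fib y x, (l a : ℂ)

open Classical in
theorem sum_fib (y : (A →* ℂˣ) → ι) (f : (A →* ℂˣ) → ℂ) :
    ∑ x ∈ exc y, ∑ l ∈ fib y x, f l = ∑ l with l ≠ 1, f l := by
  rw [← Finset.sum_fiberwise_of_maps_to (s := Finset.univ.filter (· ≠ 1)) (t := exc y) (g := y)
    fun l hl => mem_exc.2 ⟨l, by simpa using hl, rfl⟩]
  exact Finset.sum_congr rfl fun x _ => Finset.sum_congr (by ext; simp [mem_fib]) fun _ _ => rfl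

theorem sum_eta (h : ∀ a b : A, a * b = b * a) (y : (A →* ℂˣ) → ι) {a : A} (ha : a ≠ 1) :
    ∑ x ∈ exc y, eta y x a = -1 := (sum_fib y _).trans (by convert sum_lin_ne h ha)

theorem eta_one (y : (A →* ℂˣ) → ι) (x : ι) : eta y x 1 = (fib y x).card := by simp [eta]

theorem conj_eta (y : (A →* ℂˣ) → ι) (x : ι) (a : A) : conj (eta y x a) = eta y x a⁻¹ := by
  simp only [eta, map_sum, conj_lin]

theorem isCharacter_eta (y : (A →* ℂˣ) → ι) (x : ι) : IsCharacter A (eta y x) := by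
  convert isCharacter_sum (fib y x) (fun l a => (l a : ℂ)) fun l _ => (isIrr_of_unitsHom l).isCharacter
  ext; simp [eta]

open Classical in
theorem sum_eta_mul_lin [Fintype A] (y : (A →* ℂˣ) → ι) (x : ι) (m : A →* ℂˣ) :
    ∑ a, eta y x a * conj (m a : ℂ) = if m ∈ fib y x then (Nat.card A : ℂ) else 0 := by
  simp only [eta, Finset.sum_mul]
  rw [Finset.sum_comm, Finset.sum_congr rfl fun l _ => sum_lin_mul_conj l m]
  convert Finset.sum_ite_eq' _ _ _

theorem sum_eta_self [Fintype A] (y : (A →* ℂˣ) → ι) (x : ι) : ∑ a, eta y x a = 0 := by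
  simpa [mem_fib] using sum_eta_mul_lin y x 1

open Classical in
theorem sum_eta_mul [Fintype A] (y : (A →* ℂˣ) → ι) (x x' : ι) :
    ∑ a, eta y x a * conj (eta y x' a) =
      if x = x' then (Nat.card A : ℂ) * (fib y x).card else 0 := by
  simp only [eta.eq_def y x', map_sum, Finset.mul_sum]
  rw [Finset.sum_comm, Finset.sum_congr rfl fun l _ => sum_eta_mul_lin y x l]
  split_ifs with h
  · subst h; rw [Finset.sum_congr rfl fun l hl => if_pos hl]; simp [mul_comm]
  · exact Finset.sum_eq_zero fun l hl => if_neg fun e => h ((mem_fib.1 e).2.symm.trans (mem_fib.1 hl).2)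

end Fib

variable {G : Type*} [Group G]

section Sharp
variable [Fintype G] {u : G} {a b : G → ℂ}

open Classical in
/-- Sum over the nonidentity elements of `⟨u⟩`. -/
noncomputable def sS (u : G) (a : G → ℂ) : ℂ := ∑ g with g ∈ Z[u] ∧ g ≠ 1, a g

theorem sS_congr (h : ∀ v ∈ Z[u], v ≠ 1 → a v = b v) : sS u a = sS u b :=
  Finset.sum_congr rfl fun v hv => by simp at hv; exact h v hv.1 hv.2

theorem sS_eq [Fintype Z[u]] (a : G → ℂ) : a 1 + sS u a = ∑ v : Z[u], a v := by
  classical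
  rw [sum_subgroup_eq, sS, ← Finset.add_sum_erase (Finset.univ.filter (· ∈ Z[u])) _ (a := 1) (by simp)]
  congr 2; ext; simp [and_comm]

theorem sS_const (c : ℂ) : sS u (fun _ => c) = (orderOf u - 1) * c := by
  have := Fintype.ofFinite Z[u]
  have h := sS_eq (u := u) fun _ => c
  rw [Finset.sum_const, Finset.card_univ, ← Nat.card_eq_fintype_card, Nat.card_zpowers,
    nsmul_eq_mul] at h
  linear_combination h

theorem sS_add (a b : G → ℂ) : sS u (fun g => a g + b g) = sS u a + sS u b := Finset.sum_add_distrib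

theorem sS_mul (c : ℂ) (a : G → ℂ) : sS u (fun g => c * a g) = c * sS u a :=
  (Finset.mul_sum _ _ _).symm

theorem sS_sum {ι : Type*} (s : Finset ι) (f : ι → G → ℂ) :
    sS u (fun g => ∑ i ∈ s, f i g) = ∑ i ∈ s, sS u (f i) := Finset.sum_comm

theorem conj_sS (a : G → ℂ) : conj (sS u a) = sS u fun g => conj (a g) := map_sum _ _ _

theorem sS_sub (f : Z[u] → ℂ) [Fintype Z[u]] (h : ∀ v : Z[u], v ≠ 1 → a v = f v) :
    sS u a = ∑ v, f v - f 1 := by
  classical
  have := sS_eq (u := u) a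
  rw [← Finset.add_sum_erase _ _ (Finset.mem_univ 1), Finset.sum_congr rfl fun v hv =>
    h v (Finset.ne_of_mem_erase hv)] at this
  rw [← Finset.add_sum_erase _ _ (Finset.mem_univ 1)]
  simpa using this

theorem exists_sS (ha : IsCharacter G a) (u : G) : ∃ l : ℕ, a 1 + sS u a = orderOf u * l := by
  have := Fintype.ofFinite Z[u]
  obtain ⟨l, hl⟩ := (ha.restrict Z[u]).exists_nat_classInner isCharacter_one
  refine ⟨l, ?_⟩
  rw [sS_eq, ← hl, classInner_one_right, Nat.card_zpowers, mul_inv_cancel_left₀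
    (Nat.cast_ne_zero.2 (orderOf_pos u).ne')]

end Sharp

variable [Finite G] (M : Ideal AlgInt) (p : ℕ) [Fact p.Prime] in
/-- The principal block when the Sylow `p`-subgroup `⟨u⟩` has order `p`. -/
structure PB (u : G) (e : ℕ) (X : Finset (IrrCharacter G)) (y : (Z[u] →* ℂˣ) → IrrCharacter G)
    (ε : IrrCharacter G → ℤ) (δ : ℤ) : Prop where
  ord : orderOf u = p
  syl : ¬ p ∣ (Z[u]).index
  idx : C[Z[u]].relIndex N[Z[u]] = e
  eq : principalBlock M G = ↑X ∪ ↑(exc y)
  cardX : X.card = e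
  cardY : e * (exc y).card + 1 = p
  disj : Disjoint X (exc y)
  one : irrOne G ∈ X
  sgn : ∀ χ, ε χ = 1 ∨ ε χ = -1
  sgn' : δ = 1 ∨ δ = -1
  valX : ∀ χ ∈ X, ∀ g, ppart p g ∈ Z[u] → p ∣ orderOf g → χ.1 g = ε χ
  cardF : ∀ ψ ∈ exc y, (fib y ψ).card = e
  valY : ∀ ψ ∈ exc y, ∀ (g : G) (v : Z[u]), ppart p g = v → v ≠ 1 → ψ.1 g = -δ * eta y ψ v
  rel : ∀ ψ ∈ exc y, ∀ g, ¬ p ∣ orderOf g → δ * ψ.1 g + ∑ χ ∈ X, ε χ * χ.1 g = 0

variable [Finite G] {M : Ideal AlgInt} {p : ℕ} [hM : PMod p M] [hp : Fact p.Prime] {u : G} {e : ℕ}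
  {X : Finset (IrrCharacter G)} {y : (Z[u] →* ℂˣ) → IrrCharacter G} {ε : IrrCharacter G → ℤ} {δ : ℤ}

omit hM [Finite G] in
theorem dvd_ord_of_mem (hu : orderOf u = p) {v : G} (hv : v ∈ Z[u]) (h1 : v ≠ 1) : orderOf v = p :=
  ((Nat.dvd_prime hp.out).1 (hu ▸ orderOf_dvd_of_mem_zpowers hv)).resolve_left (by simpa using h1)

theorem exists_pb (hu : orderOf u = p) (hs : ¬ p ∣ (Z[u]).index) :
    ∃ e X y ε δ, PB M p u e X y ε δ := by
  classical
  have hZ : IsPGroup p Z[u] := isPGroup_zpowers_of_pelt ⟨1, by simpa using hu⟩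
  have hm := maxPr_principal (M := M) (P := Z[u]) (isSylowIn_top (hZ.toSylow hs))
  have := Fintype.ofFinite C[Z[u]]
  have := Fintype.ofFinite Z[u]
  obtain ⟨β, e', Φ, X, y, ε, δ, h⟩ := MaxPr.exists_d1 (u := u) hm isPBlock_principal hu
  have c1 := h.s.card.trans h.card_aut
  have c2 := h.s.card_exc h.d
  rw [h.card_aut, h.card] at c2
  have f1 : ∀ l, l ≠ 1 → ∀ f : (Z[u] →* ℂˣ) → ℂ, ∑ σ : autE Z[u] (ie M C[Z[u]] (principalBlock M _)),
      f (l.comp σ.1.toMonoidHom) = ∑ l' ∈ fib y (y l), f l' := fun l hl f => by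
    rw [h.d.toCyL.sum_ite hl, ← Finset.sum_filter]
    congr 1
    ext l'
    simp only [Finset.mem_filter, Finset.mem_univ, true_and, mem_fib]
    exact ⟨fun h' => ⟨h'.ne_one hl, ((h.s.eq_iff _ _ hl (h'.ne_one hl)).2 h').symm⟩,
      fun h' => (h.s.eq_iff _ _ hl h'.1).1 h'.2.symm⟩
  have c3 : ∀ ψ ∈ exc y, (fib y ψ).card = C[Z[u]].relIndex N[Z[u]] := fun ψ hψ => by
    obtain ⟨l, hl, rfl⟩ := mem_exc.1 hψ
    have := f1 l hl fun _ => 1
    simp only [Finset.sum_const, Finset.card_univ, ← Nat.card_eq_fintype_card, h.card_aut,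
      nsmul_eq_mul, mul_one, Nat.cast_inj] at this
    exact this.symm
  have c4 : ∀ ψ ∈ exc y, ∀ (g : G) (v : Z[u]), ppart p g = v → v ≠ 1 → ψ.1 g = δ * eta y ψ v :=
    fun ψ hψ g v h1 h2 => by
      obtain ⟨l, hl, rfl⟩ := mem_exc.1 hψ
      rw [h.prY hl h1 h2, eta, ← f1 l hl fun l => l v]; rfl
  have c5 : ∀ ψ ∈ exc y, ∀ g, ¬ p ∣ orderOf g → δ * ψ.1 g + ∑ χ ∈ X, ε χ * χ.1 g = 0 :=
    fun ψ hψ g hg => by
      obtain ⟨l, hl, rfl⟩ := mem_exc.1 hψ
      exact h.s.rel l hl g hg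
  have s1 : ∀ χ, -ε χ = 1 ∨ -ε χ = -1 := fun χ => by rcases h.s.sgn χ with h | h <;> simp [h]
  by_cases h1 : irrOne G ∈ X
  · exact ⟨_, X, y, fun χ => -ε χ, -δ, hu, hs, rfl, h.s.eq_union, c1, c2, h.s.disjoint, h1, s1,
      by rcases h.s.sgn' with h | h <;> simp [h], fun χ a g b c => by simpa using h.prX a b c, c3,
      by simpa using c4, fun ψ a g b => by
        have := c5 ψ a g b
        simp only [Int.cast_neg, neg_mul, Finset.sum_neg_distrib]; linear_combination -this⟩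
  have h2 : irrOne G ∈ exc y := (h.s.mem_iff.1 irrOne_mem_principal).resolve_left h1
  have := Fintype.ofFinite G
  have h3 := sS_sub (u := u) (a := fun _ => 1) (fun v => δ * eta y (irrOne G) v) fun v hv =>
    c4 _ h2 v v (ppart_of_pelt (pelt_of_mem hZ v.2)) hv
  rw [sS_const, ← Finset.mul_sum, sum_eta_self, eta_one, c3 _ h2, hu, ← c2] at h3
  set e := C[Z[u]].relIndex N[Z[u]]
  have he : 0 < e := c1 ▸ h.s.nonempty.card_pos
  have h4 : (e : ℤ) * ((exc y).card + δ) = 0 := by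
    have : ((e : ℤ) * ((exc y).card + δ) : ℤ) = (0 : ℂ) := by push_cast at h3 ⊢; linear_combination h3
    exact_mod_cast this
  have ⟨h5, h6⟩ : (exc y).card = 1 ∧ δ = -1 := by
    have := (mul_eq_zero.1 h4).resolve_left (by omega)
    rcases h.s.sgn' with h | h <;> omega
  obtain ⟨χ, hχ⟩ := h.s.nonempty
  have h7 : exc y = {irrOne G} := (Finset.eq_singleton_iff_unique_mem.2
    ⟨h2, fun x hx => Finset.card_le_one.1 h5.le _ hx _ h2⟩)
  have h8 : exc (fun _ : Z[u] →* ℂˣ => χ) = {χ} := by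
    obtain ⟨l, hl, -⟩ := mem_exc.1 h2
    ext; simp only [mem_exc, Finset.mem_singleton]
    exact ⟨fun ⟨_, _, h⟩ => h.symm, fun h => ⟨l, hl, h.symm⟩⟩
  have h9 : fib (fun _ : Z[u] →* ℂˣ => χ) χ = fib y (irrOne G) := by
    ext l; simp only [mem_fib, and_true, iff_self_and]
    exact fun hl => Finset.mem_singleton.1 (h7 ▸ mem_exc.2 ⟨l, hl, rfl⟩)
  have h0 : ∀ ψ ∈ X.erase χ, ψ ≠ irrOne G := fun ψ a b => h1 (b ▸ Finset.mem_of_mem_erase a)
  refine ⟨e, insert (irrOne G) (X.erase χ), fun _ => χ, fun ψ => if ψ = irrOne G then 1 else -ε ψ,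
    -ε χ, hu, hs, rfl, ?_, ?_, by rw [h8]; rwa [h5] at c2, ?_, by simp, fun ψ => ?_, s1 χ,
    fun ψ a g b c => ?_, by simpa [h8, h9] using c3 _ h2, fun ψ a g v b c => ?_, fun ψ a g b => ?_⟩
  · rw [h.s.eq_union, h7, h8]; ext x
    by_cases hx : x = χ <;> simp [hx, hχ, or_comm]
  · rw [Finset.card_insert_of_notMem fun a => h0 _ a rfl, Finset.card_erase_add_one hχ, c1]
  · simpa [h8] using fun e : χ = irrOne G => h1 (e ▸ hχ)
  · split_ifs; exacts [.inl rfl, s1 ψ]
  · rcases Finset.mem_insert.1 a with rfl | a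
    · simp [irrOne]
    · simpa [h0 _ a] using h.prX (Finset.mem_of_mem_erase a) b c
  · obtain rfl : ψ = χ := by simpa [h8] using a
    have := c4 _ h2 g v b c
    rw [h.prX hχ (b ▸ v.2) (by_contra fun e => c (Subtype.ext (b ▸ ppart_eq_one_iff.2 e))), eta, h9]
    rw [h6, eta, show (irrOne G).1 g = 1 from rfl] at this
    push_cast at this ⊢
    linear_combination (-ε ψ : ℂ) * this
  · obtain rfl : ψ = χ := by simpa [h8] using a
    have := c5 _ h2 g b
    rw [h6, ← Finset.add_sum_erase _ _ hχ] at this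
    rw [Finset.sum_insert fun a => h0 _ a rfl, Finset.sum_congr rfl fun x hx => by rw [if_neg (h0 x hx)]]
    simp only [Int.cast_neg, neg_mul, Finset.sum_neg_distrib, if_true] at this ⊢
    linear_combination -this

omit hM hp in
theorem sum_pow_div {m : ℕ} {s ζ : ℂ} (hs : s ^ m = 1) (hζ : ζ ^ m = 1) (hm : m ≠ 0)
    [Decidable (s = ζ)] : ∑ j ∈ Finset.range m, s ^ j / ζ ^ j = if s = ζ then (m : ℂ) else 0 := by
  have h0 : ζ ≠ 0 := by rintro rfl; simp [hm] at hζ
  split_ifs with h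
  · simp [h, h0]
  · simp only [← div_pow]
    rw [geom_sum_eq (by rwa [Ne, div_eq_one_iff_eq h0]), div_pow, hs, hζ]; simp

include hM in
theorem principal_InP {χ : IrrCharacter G} (hχ : χ ∈ principalBlock M G) {g : G}
    (hg : ¬ p ∣ (C1[g]).index) : MemLocalIdeal M (χ.1 g - χ.1 1) := by
  have := InP.mul_left (mul_mem (irr_mem_Loc χ 1) (inv_natCast_mem_Loc hg)) (InP.symm (hχ g))
  have h0 : ((C1[g]).index : ℂ) ≠ 0 := Nat.cast_ne_zero.2 Subgroup.index_ne_zero_of_finite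
  have h1 := χ.2.apply_one_ne_zero
  convert this using 1
  simp only [centralChar]; field_simp

include hM in
/-- Small characters in the principal block kill `p'`-elements centralizing a Sylow subgroup. -/
theorem principal_ker_of_cent {χ : IrrCharacter G} (hχ : χ ∈ principalBlock M G) {k : G}
    (hk : ¬ p ∣ orderOf k) (hg : ¬ p ∣ (C1[k]).index)
    (h : charDegree χ.1 < p ∨ charDegree χ.1 < 2 * p ∧ commutator G = ⊤) : χ.1 k = χ.1 1 := by
  classical
  obtain ⟨n, s, h1, h2, -, h3, h4⟩ := exists_eigen_dt χ.2.isCharacter k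
  obtain rfl : charDegree χ.1 = n := by simp [charDegree, h1]
  have h5 : ∀ i, s i ≠ 1 → p ∣ (Finset.univ.filter fun j => s j = s i).card := fun i hi => by
    have a := InP.sum (Finset.range (orderOf k)) (fun j => (χ.1 (k ^ j) - χ.1 1) * (s i ^ j)⁻¹)
      fun j _ => InP.mul_right (principal_InP hχ fun e => hg (e.trans (Subgroup.index_dvd_of_le
        fun x hx => Subgroup.mem_centralizer_singleton_iff.2 ((Commute.pow_right
          (Subgroup.mem_centralizer_singleton_iff.1 hx) j))))) (mem_Loc_of_isIntegral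
        (IsIntegral.of_pow (orderOf_pos k) (by rw [inv_pow, ← pow_mul, mul_comm, pow_mul, h2]; simpa using isIntegral_one)))
    have b := fun j : ℕ => h3 j
    simp only [zpow_natCast] at b
    have c := sum_pow_div (one_pow _) (h2 i) (orderOf_pos k).ne'
    simp only [one_pow, one_div, if_neg hi.symm] at c
    simp only [sub_mul, Finset.sum_sub_distrib, ← Finset.mul_sum, c, b, Finset.sum_mul] at a
    simp only [← div_eq_mul_inv] at a
    rw [Finset.sum_comm, Finset.sum_congr rfl fun j _ => sum_pow_div (h2 j) (h2 i) (orderOf_pos k).ne',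
      ← Finset.sum_filter, Finset.sum_const, nsmul_eq_mul, mul_zero, sub_zero, ← Nat.cast_mul,
      InP_natCast_iff] at a
    exact (hp.out.dvd_mul.1 a).resolve_right hk
  suffices ∀ i, s i = 1 by simpa [this, h1] using h3 1
  by_contra! h6
  obtain ⟨i, hi⟩ := h6
  have h7 : ∀ i, s i ≠ 1 → p ≤ (Finset.univ.filter fun j => s j = s i).card := fun i hi =>
    Nat.le_of_dvd (Finset.card_pos.2 ⟨i, by simp⟩) (h5 i hi)
  have h8 : ∀ t : Finset (Fin (charDegree χ.1)), t.card ≤ charDegree χ.1 := fun t => by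
    simpa using t.card_le_univ
  obtain h | ⟨h, hc⟩ := h
  · exact absurd ((h7 i hi).trans (h8 _)) h.not_ge
  have h9 : ∀ j, s j ≠ 1 → s j = s i := fun j hj => by
    by_contra e
    have := h8 ((Finset.univ.filter fun l => s l = s j) ∪ Finset.univ.filter fun l => s l = s i)
    rw [Finset.card_union_of_disjoint (Finset.disjoint_filter.2 fun l _ a b => e (a.symm.trans b))] at this
    have := h7 i hi; have := h7 j hj; omega
  obtain ⟨c, hc'⟩ := h5 i hi
  obtain rfl : c = 1 := by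
    have := h7 i hi; have := h8 (Finset.univ.filter fun l => s l = s i)
    have := hp.out.pos
    rcases c with _ | _ | c <;> nlinarith
  rw [← Finset.prod_filter_mul_prod_filter_not _ fun l => s l = s i, Finset.prod_congr rfl fun l hl =>
    (Finset.mem_filter.1 hl).2, Finset.prod_eq_one (f := s) (s := Finset.univ.filter fun l => ¬ s l = s i)
      fun l hl => of_not_not fun e => (Finset.mem_filter.1 hl).2 (h9 l e), Finset.prod_const, hc', mul_one, mul_one,
    (Abelianization.commutator_subset_ker (dt χ.1) (hc ▸ Subgroup.mem_top k) : dt χ.1 k = 1)] at h4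
  exact hi (by
    rw [← pow_one (s i), ← (hp.out.coprime_iff_not_dvd.2 hk).gcd_eq_one]
    exact pow_gcd_eq_one.2 ⟨h4.symm, h2 i⟩)

namespace PB
variable (h : PB M p u e X y ε δ)
include h
omit hM

theorem pgrp : IsPGroup p Z[u] := isPGroup_zpowers_of_pelt ⟨1, by simpa using h.ord⟩

theorem card : Nat.card Z[u] = p := by rw [Nat.card_zpowers, h.ord]

/-- The Sylow subgroup. -/
noncomputable def sy : Sylow p G := h.pgrp.toSylow h.syl

theorem coe_sy : (h.sy : Subgroup G) = Z[u] := rfl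

theorem ne_one : u ≠ 1 := fun e => hp.out.one_lt.ne' (by rw [← h.ord, e, orderOf_one])

theorem cent_eq {v : G} (hv : v ∈ Z[u]) (h1 : v ≠ 1) : C1[v] = C[Z[u]] := by
  rw [← zpowers_eq_of_mem h.ord hv h1, centralizer_zpowers]

theorem mem_norm {v g : G} (hv : v ∈ Z[u]) (h1 : v ≠ 1) (h2 : g * v * g⁻¹ ∈ Z[u]) : g ∈ N[Z[u]] := by
  have e := zpowers_eq_of_mem h.ord h2 (by simpa [mul_inv_eq_iff_eq_mul] using h1)
  rw [mem_normalizer_iff_cj, ← zpowers_eq_of_mem h.ord hv h1, cj_zpowers, e,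
    zpowers_eq_of_mem h.ord hv h1]

theorem exists_conj (g : G) : ∃ x, ppart p (x * g * x⁻¹) ∈ Z[u] := by
  obtain ⟨k, hk⟩ := pelt_ppart p g
  simpa [ppart_conj, h.coe_sy] using exists_conj_mem_sylow h.sy (hk ▸ pow_orderOf_eq_one _)

theorem card_syl : Nat.card (Sylow p G) = (N[Z[u]]).index := h.sy.card_eq_index_normalizer

theorem exists_n : ∃ n, (N[Z[u]]).index = n * p + 1 := by
  have := card_sylow_modEq_one p G
  rw [h.card_syl] at this
  exact ⟨_, by rw [← Nat.div_add_mod' (N[Z[u]]).index p, this, Nat.mod_eq_of_lt hp.out.one_lt]⟩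

theorem index_C : (C[Z[u]]).index = e * (N[Z[u]]).index := by
  rw [← h.idx, Subgroup.relIndex_mul_index (Subgroup.centralizer_le_normalizer _)]

theorem pos : 0 < e := h.cardX ▸ Finset.card_pos.2 ⟨_, h.one⟩

theorem pos' : 0 < (exc y).card := by
  have := h.cardY; have := hp.out.one_lt
  by_contra! h0; simp [Nat.le_zero.1 h0] at *; omega

theorem ne_of_perfect (hc : commutator G = ⊤) : e ≠ 1 := fun h1 => by
  have h2 : N[(h.sy : Subgroup G)] ≤ C[(h.sy : Subgroup G)] :=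
    Subgroup.relIndex_eq_one.1 (h.idx.trans h1)
  have h3 := (MonoidHom.ker_transferSylow_isComplement' h.sy h2).symm.index_eq_card
  have : IsMulCommutative (h.sy : Subgroup G) := inferInstanceAs (IsMulCommutative Z[u])
  have : commutator G ≤ (MonoidHom.transferSylow h.sy h2).ker :=
    Subgroup.commutator_le.2 fun a _ b _ => by
      rw [MonoidHom.mem_ker, map_commutatorElement, commutatorElement_eq_one_iff_mul_comm, mul_comm']
  rw [hc, top_le_iff] at this
  rw [this, Subgroup.index_top] at h3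
  exact hp.out.one_lt.ne (h3.trans h.card)

theorem sq (χ : IrrCharacter G) : (ε χ : ℂ) * ε χ = 1 := by rcases h.sgn χ with h | h <;> simp [h]

theorem sq' : (δ : ℂ) * δ = 1 := by rcases h.sgn' with h | h <;> simp [h]

theorem memX {χ : IrrCharacter G} (hχ : χ ∈ X) : χ ∈ principalBlock M G := h.eq ▸ .inl hχ

theorem memY {χ : IrrCharacter G} (hχ : χ ∈ exc y) : χ ∈ principalBlock M G := h.eq ▸ .inr hχ

theorem vX {χ : IrrCharacter G} (hχ : χ ∈ X) {v : G} (hv : v ∈ Z[u]) (h1 : v ≠ 1) : χ.1 v = ε χ :=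
  h.valX χ hχ v (ppart_mem p hv) (dvd_ord_of_mem h.ord hv h1).symm.dvd

theorem vY {ψ : IrrCharacter G} (hψ : ψ ∈ exc y) {v : Z[u]} (h1 : v ≠ 1) :
    ψ.1 v = -δ * eta y ψ v := h.valY ψ hψ v v (ppart_of_pelt (pelt_of_mem h.pgrp v.2)) h1

theorem eps_one : ε (irrOne G) = 1 := by
  have : (1 : ℂ) = _ := h.vX h.one (Subgroup.mem_zpowers u) h.ne_one
  exact_mod_cast this.symm

theorem ne_oneY {ψ : IrrCharacter G} (hψ : ψ ∈ exc y) : ψ ≠ irrOne G := fun e =>
  Finset.disjoint_left.1 h.disj h.one (e ▸ hψ)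

theorem regY {ψ ψ' : IrrCharacter G} (hψ : ψ ∈ exc y) (hψ' : ψ' ∈ exc y) {g : G}
    (hg : ¬ p ∣ orderOf g) : ψ.1 g = ψ'.1 g := by
  linear_combination δ * h.rel ψ hψ g hg - δ * h.rel ψ' hψ' g hg - (ψ.1 g - ψ'.1 g) * h.sq'

theorem degY_eq {ψ ψ' : IrrCharacter G} (hψ : ψ ∈ exc y) (hψ' : ψ' ∈ exc y) :
    charDegree ψ.1 = charDegree ψ'.1 := by
  rw [charDegree, h.regY hψ hψ' (by simpa using hp.out.one_lt.ne'), charDegree]

theorem rel_deg {ψ : IrrCharacter G} (hψ : ψ ∈ exc y) :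
    δ * charDegree ψ.1 + ∑ χ ∈ X, ε χ * charDegree χ.1 = 0 := by
  have := h.rel ψ hψ 1 (by simpa using hp.out.one_lt.ne')
  simp only [← coe_charDegree (CfsgH3.Cfsg.IsIrrCharacter.isCharacter (Subtype.prop _))] at this
  exact_mod_cast this

theorem sumY {v : G} (hv : v ∈ Z[u]) (h1 : v ≠ 1) : ∑ ψ ∈ exc y, ψ.1 v = δ := by
  have h2 : (⟨v, hv⟩ : Z[u]) ≠ 1 := by simpa using h1
  rw [Finset.sum_congr rfl fun ψ hψ => h.vY hψ h2, ← Finset.mul_sum,
    sum_eta (fun a b => mul_comm' a b) y h2]; ring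

theorem dvdX {χ : IrrCharacter G} (hχ : χ ∈ X) : charDegree χ.1 ∣ e * (N[Z[u]]).index := by
  have := (isIntegral_centralChar χ.2 u).mul (isIntegral_algebraMap (x := ε χ))
  rw [centralChar, h.cent_eq (Subgroup.mem_zpowers u) h.ne_one, h.vX hχ (Subgroup.mem_zpowers u)
    h.ne_one, h.index_C, ← coe_charDegree χ.2.isCharacter, eq_intCast, div_mul_eq_mul_div,
    mul_assoc, h.sq, mul_one] at this
  exact nat_dvd_of_isIntegral_div (charDegree_pos χ.2).ne' this

theorem dvdY {ψ : IrrCharacter G} (hψ : ψ ∈ exc y) : charDegree ψ.1 ∣ e * (N[Z[u]]).index := by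
  have := (IsIntegral.sum (s := exc y) _ fun χ _ => isIntegral_centralChar χ.2 u).mul
    (isIntegral_algebraMap (x := δ))
  rw [Finset.sum_congr rfl fun χ hχ => by
    rw [centralChar, h.regY hχ hψ (g := 1) (by simpa using hp.out.one_lt.ne')], ← Finset.sum_div,
    ← Finset.mul_sum, h.cent_eq (Subgroup.mem_zpowers u) h.ne_one, h.sumY (Subgroup.mem_zpowers u)
    h.ne_one, h.index_C, ← coe_charDegree ψ.2.isCharacter, eq_intCast, div_mul_eq_mul_div,
    mul_assoc, h.sq', mul_one] at this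
  exact nat_dvd_of_isIntegral_div (charDegree_pos ψ.2).ne' this

variable [Fintype G]

theorem sX {χ : IrrCharacter G} (hχ : χ ∈ X) : sS u χ.1 = (p - 1) * ε χ := by
  rw [sS_congr fun v => h.vX hχ, sS_const, h.ord]

theorem sY {ψ : IrrCharacter G} (hψ : ψ ∈ exc y) : sS u ψ.1 = δ * e := by
  have := Fintype.ofFinite Z[u]
  rw [sS_sub (fun v => -δ * eta y ψ v) fun v => h.vY hψ, ← Finset.mul_sum, sum_eta_self, eta_one,
    h.cardF ψ hψ]; ring

open Classical in
theorem sYY {ψ ψ' : IrrCharacter G} (hψ : ψ ∈ exc y) (hψ' : ψ' ∈ exc y) :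
    sS u (fun g => ψ.1 g * conj (ψ'.1 g)) = (if ψ = ψ' then (p : ℂ) * e else 0) - e * e := by
  have := Fintype.ofFinite Z[u]
  rw [sS_sub (fun v => eta y ψ v * conj (eta y ψ' v)) fun v hv => by
    rw [h.vY hψ hv, h.vY hψ' hv, map_mul, map_neg, map_intCast]
    linear_combination (eta y ψ v * conj (eta y ψ' v)) * h.sq', sum_eta_mul, eta_one, eta_one,
    h.cardF ψ hψ, h.cardF ψ' hψ', h.card, map_natCast]
  congr

omit [Fintype G]

theorem degX {χ : IrrCharacter G} (hχ : χ ∈ X) :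
    ∃ l : ℕ, charDegree χ.1 + (p - 1 : ℤ) * ε χ = p * l := by
  have := Fintype.ofFinite G
  obtain ⟨l, hl⟩ := exists_sS χ.2.isCharacter u
  rw [h.sX hχ, h.ord, ← coe_charDegree χ.2.isCharacter] at hl
  exact ⟨l, by exact_mod_cast hl⟩

theorem degY {ψ : IrrCharacter G} (hψ : ψ ∈ exc y) :
    ∃ l : ℕ, charDegree ψ.1 + δ * e = p * l := by
  have := Fintype.ofFinite G
  obtain ⟨l, hl⟩ := exists_sS ψ.2.isCharacter u
  rw [h.sY hψ, h.ord, ← coe_charDegree ψ.2.isCharacter] at hl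
  exact ⟨l, by exact_mod_cast hl⟩

include hM in
theorem cent_eq_of_small {χ : IrrCharacter G} (hχ : χ ∈ principalBlock M G)
    (hf : ∀ g, ¬ p ∣ orderOf g → χ.1 g = χ.1 1 → g = 1)
    (hd : charDegree χ.1 < p ∨ charDegree χ.1 < 2 * p ∧ commutator G = ⊤) : C[Z[u]] = Z[u] := by
  refine le_antisymm (fun c hc => ?_) zpowers_le_cent
  have h1 := rpart_mem p hc
  have h2 := hf _ (reg_rpart p c) (principal_ker_of_cent hχ (reg_rpart p c) (fun e => h.syl (e.trans
    (Subgroup.index_dvd_of_le fun x hx => Subgroup.mem_centralizer_singleton_iff.2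
      (Subgroup.mem_centralizer_iff.1 h1 x hx)))) hd)
  rw [← ppart_mul_rpart p c, h2, mul_one]
  exact Subgroup.zpowers_le.1 (le_sylow_of_le_normalizer h.sy (isPGroup_zpowers_of_pelt
    (pelt_ppart p c)) (Subgroup.zpowers_le.2 (Subgroup.centralizer_le_normalizer _ (ppart_mem p hc))))

end PB

end CfsgH4
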