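import Cfsg.Agent.H4.Br1
import Cfsg.Agent.H3.Apps2
import Cfsg.Agent.H1.SS

/-! Groups with a self-centralizing Sylow subgroup of prime order. -/

set_option autoImplicit false
open Cfsg MonoidAlgebra CfsgL0 CfsgH1 CfsgH4
open CfsgH3 hiding cj cj_cj
open scoped ComplexConjugate Pointwise

namespace CfsgH4

local notation "C[" Q "]" => Subgroup.centralizer (SetLike.coe (Q : Subgroup _))
local notation "N[" Q "]" => Subgroup.normalizer (SetLike.coe (Q : Subgroup _))
local notation "Z[" u "]" => Subgroup.zpowers u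
local notation "C1[" u "]" => Subgroup.centralizer (singleton u)

variable {G : Type*} [Group G]

theorem coe_deg (φ : IrrCharacter G) : (charDegree φ.1 : ℂ) = φ.1 1 := coe_charDegree φ.2.isCharacter

theorem deg_irrOne [Finite G] : charDegree (irrOne G).1 = 1 := by simp [irrOne, charDegree]

theorem exists_decomp [Fintype G] {Φ : G → ℂ} (hΦ : IsCharacter G Φ) (u : G) :
    ∃ n l : IrrCharacter G → ℕ, (∀ φ : IrrCharacter G, classInner Φ φ.1 = n φ) ∧
      (∀ φ, φ.1 1 + sS u φ.1 = orderOf u * l φ) ∧ Φ 1 = (∑ φ, n φ * charDegree φ.1 : ℕ) ∧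
      Φ 1 + sS u Φ = orderOf u * (∑ φ, n φ * l φ : ℕ) := by
  obtain ⟨n, h1, h2⟩ := hΦ.exists_eq_sum_irr
  choose l hl using fun φ : IrrCharacter G => exists_sS φ.2.isCharacter u
  have h3 : ∀ g, Φ g = ∑ φ, n φ * φ.1 g := fun g => by rw [h2]; simp
  refine ⟨n, l, h1, hl, by simp [h3, coe_deg], ?_⟩
  rw [funext h3, sS_sum, ← Finset.sum_add_distrib]
  simp only [sS_mul, ← mul_add, hl, Nat.cast_sum, Finset.mul_sum, Nat.cast_mul, mul_left_comm]

theorem exists_int_sS [Fintype G] {Φ : G → ℂ} (hΦ : IsCharacter G Φ) (u : G) :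
    ∃ k : ℤ, sS u Φ = k := by
  obtain ⟨l, hl⟩ := exists_sS hΦ u
  exact ⟨orderOf u * l - charDegree Φ, by push_cast; rw [coe_charDegree hΦ, ← hl]; ring⟩

theorem sq_eq_one_of_index [Finite G] {E : Subgroup G} (h : ∀ g, g ∉ E → g * g = 1) (h1 : E ≠ ⊤)
    (h2 : E.index ≠ 2) (g : G) : g * g = 1 := by
  by_cases hg : g ∈ E
  swap; · exact h g hg
  have a : ∀ x, x ∉ E → x * g * x⁻¹ = g⁻¹ := fun x hx => by
    have := h (x * g) fun e => hx (by simpa using E.mul_mem e (E.inv_mem hg))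
    rw [inv_eq_of_mul_eq_one_right (h x hx), eq_inv_iff_mul_eq_one, mul_assoc _ x, this]
  obtain ⟨x, hx⟩ : ∃ x, x ∉ E := by simpa [Subgroup.eq_top_iff'] using h1
  obtain ⟨z, hz, h3⟩ : ∃ z, z ∉ E ∧ z * x ∉ E := by
    by_contra! h3
    exact h2 (Subgroup.index_eq_two_iff.2 ⟨x, fun b => by
      by_cases hb : b ∈ E
      · exact .inr ⟨hb, fun e => hx (by simpa using E.mul_mem (E.inv_mem hb) e)⟩
      · exact .inl ⟨h3 b hb, hb⟩⟩)
  have b := a _ h3
  have c := congrArg Inv.inv (a z hz)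
  rw [mul_inv_rev, show z * x * g * (x⁻¹ * z⁻¹) = z * (x * g * x⁻¹) * z⁻¹ by group, a x hx] at b
  rw [← eq_inv_iff_mul_eq_one, ← b]
  simpa [mul_assoc] using c.symm

open Classical in
/-- The elements conjugating `g` into `D`. -/
noncomputable def fx [Fintype G] (D : G → Prop) (g : G) : Finset G :=
  Finset.univ.filter fun x => D (x * g * x⁻¹)

theorem mem_fx [Fintype G] {D : G → Prop} {g x : G} : x ∈ fx D g ↔ D (x * g * x⁻¹) := by simp [fx]

open Classical in
theorem sum_fx [Fintype G] (D : G → Prop) {a : G → ℝ} (ha : ∀ x g, a (x * g * x⁻¹) = a g) :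
    ∑ g, (fx D g).card * a g = Nat.card G * ∑ g with D g, a g := by
  simp only [fx, Finset.card_filter, Nat.cast_sum, Finset.sum_mul]
  rw [Finset.sum_comm, Finset.sum_congr rfl fun x _ => Fintype.sum_equiv (MulAut.conj x).toEquiv _
    (fun g => if D g then a g else 0) fun g => by simp [ha], Finset.sum_filter]
  simp

theorem card_fx_conj [Fintype G] (D : G → Prop) (x g : G) :
    (fx D (x * g * x⁻¹)).card = (fx D g).card :=
  Finset.card_equiv (Equiv.mulRight x) fun z => by simp [mem_fx, mul_assoc]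

variable [Finite G] {M : Ideal AlgInt} {p : ℕ} [hM : PMod p M] [hp : Fact p.Prime] {u : G} {e : ℕ}
  {X : Finset (IrrCharacter G)} {y : (Z[u] →* ℂˣ) → IrrCharacter G} {ε : IrrCharacter G → ℤ} {δ : ℤ}

namespace PB
variable (h : PB M p u e X y ε δ) (hC : C[Z[u]] = Z[u])
include h hC

include hM in
theorem out {χ : IrrCharacter G} (h1 : χ ∉ X) (h2 : χ ∉ exc y) {v : G} (hv : v ∈ Z[u]) (h0 : v ≠ 1) :
    χ.1 v = 0 := by
  classical
  have e1 : C1[v] = Z[u] := (h.cent_eq hv h0).trans hC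
  have e2 : Nat.card C1[v] = p := by rw [e1, h.card]
  have a := colB_principal_pelt (M := M) (pelt_of_mem h.pgrp hv)
  rw [colB_principal_of_npc (npc_iff_index.2 (IsPGroup.index (e1 ▸ h.pgrp) _)), e2,
    hp.out.factorization_self, pow_one, colB_apply] at a
  have b := column_orthogonality_self v
  rw [e2, ← Finset.sum_filter_add_sum_filter_not _ (· ∈ principalBlock M G)] at b
  simp only [Complex.mul_conj', ← Finset.sum_filter] at a
  rw [show ∑ χ with χ ∈ principalBlock M G, ‖χ.1 v‖ ^ 2 = (p : ℝ) by exact_mod_cast a, add_eq_left,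
    Finset.sum_eq_zero_iff_of_nonneg fun _ _ => by positivity] at b
  simpa using b χ (by simp [h.eq, h1, h2])

omit hM

theorem cent {v : G} (hv : v ∈ Z[u]) (h0 : v ≠ 1) : C1[v] = Z[u] := (h.cent_eq hv h0).trans hC

theorem mem_of_comm {v g : G} (hv : v ∈ Z[u]) (h0 : v ≠ 1) (hg : g * v = v * g) : g ∈ Z[u] :=
  (h.cent hC hv h0).le (Subgroup.mem_centralizer_singleton_iff.2 hg)

theorem sing_conj {g : G} (hg : p ∣ orderOf g) : ∃ x, x * g * x⁻¹ ∈ Z[u] := by
  obtain ⟨x, hx⟩ := h.exists_conj g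
  exact ⟨x, h.mem_of_comm hC hx (fun e => ppart_eq_one_iff.1 e (by rwa [orderOf_conj]))
    (commute_ppart p (Commute.refl _))⟩

theorem ord_eq {g : G} (hg : p ∣ orderOf g) : orderOf g = p := by
  obtain ⟨x, hx⟩ := h.sing_conj hC hg
  rw [← orderOf_conj x, dvd_ord_of_mem h.ord hx fun e => ?_]
  rw [← orderOf_conj x, e, orderOf_one] at hg
  exact hp.out.one_lt.ne' (Nat.dvd_one.1 hg)

theorem card_N : Nat.card N[Z[u]] = e * p := by
  rw [← h.idx, ← h.card, hC, Subgroup.relIndex, ← Subgroup.index_mul_card (Z[u].subgroupOf N[Z[u]]),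
    Nat.card_congr (Subgroup.subgroupOfEquivOfLe Subgroup.le_normalizer).toEquiv]

theorem card_G : Nat.card G = (N[Z[u]]).index * (e * p) := by
  rw [← h.card_N hC, Subgroup.index_mul_card]

theorem notMem_iff {g : G} (hg : g ∈ N[Z[u]]) : g ∉ Z[u] ↔ g ≠ 1 ∧ ¬ p ∣ orderOf g := by
  refine ⟨fun h1 => ⟨fun e => h1 (e ▸ one_mem _), fun h2 => h1 (Subgroup.zpowers_le.1
    (le_sylow_of_le_normalizer h.sy (isPGroup_zpowers_of_pelt ⟨1, by simpa using h.ord_eq hC h2⟩)
      (Subgroup.zpowers_le.2 hg)))⟩, fun h1 h2 => h1.2 (dvd_ord_of_mem h.ord h2 h1.1).symm.dvd⟩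

theorem card_le {L : Subgroup G} (h1 : L ≤ N[Z[u]]) (h2 : ∀ v ∈ L, v ∈ Z[u] → v = 1) :
    Nat.card L ≤ e := by
  have := Subgroup.relIndex_le_of_le_right (H := Z[u]) h1 Subgroup.index_ne_zero_of_finite
  have e1 := h.idx
  rw [hC] at e1
  rwa [e1, Subgroup.relIndex, (Subgroup.subgroupOf_eq_bot.2
    (Subgroup.disjoint_def.2 fun a b => h2 _ b a)), Subgroup.index_bot] at this

theorem comm_of {L : Subgroup G} (h1 : L ≤ N[Z[u]]) (h2 : ∀ v ∈ L, v ∈ Z[u] → v = 1) {a b : G}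
    (ha : a ∈ L) (hb : b ∈ L) : a * b = b * a := commutatorElement_eq_one_iff_mul_comm.1 (h2 _
  (mul_mem (mul_mem (mul_mem ha hb) (inv_mem ha)) (inv_mem hb))
  (hC.le (commutator_le_centralizer_of_isCyclic h1 (Subgroup.commutator_mem_commutator ha hb))))

theorem conj_coset {g v : G} (hg : g ∈ N[Z[u]]) (h1 : g ∉ Z[u]) (hv : v ∈ Z[u]) :
    IsConj g (v * g) := by
  have : Function.Surjective fun x : Z[u] => (⟨x * (g * (x : G)⁻¹ * g⁻¹),
      mul_mem x.2 ((Subgroup.mem_normalizer_iff.1 hg _).1 (inv_mem x.2))⟩ : Z[u]) :=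
    Finite.surjective_of_injective fun a b hab => by
      by_contra e
      refine h1 (h.mem_of_comm hC (b⁻¹ * a).2 (by simpa [inv_mul_eq_one, eq_comm] using e) ?_)
      have := congrArg Subtype.val hab
      simp only [← mul_assoc, mul_left_inj] at this
      simp only [Subgroup.coe_mul, Subgroup.coe_inv]
      calc g * ((b : G)⁻¹ * a) = (b : G)⁻¹ * (b * g * (b : G)⁻¹) * a := by group
        _ = _ := by rw [← this]; group
  obtain ⟨x, hx⟩ := this ⟨v, hv⟩
  exact isConj_iff.2 ⟨x, by rw [← show _ = v from congrArg Subtype.val hx]; group⟩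

variable [Fintype G]

theorem exists_loc {χ : G → ℂ} (hχ : IsCharacter G χ) {l : ℕ} (hl : χ 1 + sS u χ = p * l) :
    ∃ μ, IsCharacter N[Z[u]] μ ∧ μ 1 = l ∧ ∀ g : N[Z[u]], (g : G) ∉ Z[u] → χ g = μ g := by
  have := Fintype.ofFinite (Z[u].subgroupOf N[Z[u]])
  have := Fintype.ofFinite Z[u]
  have e := (Subgroup.subgroupOfEquivOfLe (Subgroup.le_normalizer (H := Z[u]))).toEquiv
  have h0 : (p : ℂ) ≠ 0 := Nat.cast_ne_zero.2 hp.out.ne_zero
  have hc : Nat.card (Z[u].subgroupOf N[Z[u]]) = p := by rw [Nat.card_congr e, h.card]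
  refine ⟨_, isCharacter_avg (N := Z[u].subgroupOf N[Z[u]]) (hχ.restrict _), ?_, fun g hg => ?_⟩
  · rw [avg, hc, Fintype.sum_equiv (Subgroup.subgroupOfEquivOfLe Subgroup.le_normalizer).toEquiv _
      (fun v => χ v) fun _ => by simp, ← sS_eq, hl, inv_mul_cancel_left₀ h0]
  · have : ∀ n : Z[u].subgroupOf N[Z[u]], χ (n * g : N[Z[u]]) = χ g := fun n =>
      (hχ.isClassFunction.eq_of_isConj (h.conj_coset hC g.2 hg n.2)).symm
    rw [avg, Finset.sum_congr rfl fun n _ => this n, Finset.sum_const, Finset.card_univ,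
      ← Nat.card_eq_fintype_card, hc, nsmul_eq_mul, inv_mul_cancel_left₀ h0]

open Classical in
theorem sum_sing {a : G → ℂ} (ha : IsClassFunction G a) :
    ∑ g with p ∣ orderOf g, a g = (N[Z[u]]).index * sS u a := by
  refine Eq.trans ?_ ((sum_conj_tiset (S := {g | g ∈ Z[u] ∧ g ≠ 1})
    (fun g hg => Subgroup.le_normalizer hg.1)
    (fun n hn s hs => ⟨(Subgroup.mem_normalizer_iff.1 hn _).1 hs.1,
      by simpa [mul_inv_eq_iff_eq_mul] using hs.2⟩)
    (fun g hg s hs e => hg (h.mem_norm hs.1 hs.2 e.1)) ha).trans (by rw [sS]; congr))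
  refine Finset.sum_congr (Finset.ext fun g => ?_) fun _ _ => rfl
  simp only [Finset.mem_filter, Finset.mem_univ, true_and]
  refine ⟨fun hg => ?_, fun ⟨x, hx⟩ => ?_⟩
  · obtain ⟨x, hx⟩ := h.sing_conj hC hg
    refine ⟨x, hx, fun e => ?_⟩
    rw [← orderOf_conj x, e, orderOf_one] at hg
    exact hp.out.one_lt.ne' (Nat.dvd_one.1 hg)
  · rw [← orderOf_conj x, dvd_ord_of_mem h.ord hx.1 hx.2]

open Classical in
theorem sum_split {a : G → ℂ} (ha : IsClassFunction G a) : ∑ g, a g =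
    a 1 + (N[Z[u]]).index * sS u a + ∑ g with g ≠ 1 ∧ ¬ p ∣ orderOf g, a g := by
  rw [← h.sum_sing hC ha, ← Finset.sum_filter_add_sum_filter_not _ fun g => p ∣ orderOf g,
    ← Finset.add_sum_erase (Finset.univ.filter fun g => ¬ p ∣ orderOf g) _ (a := 1)
      (by simpa using hp.out.one_lt.ne'), Finset.filter_and, Finset.filter_ne', Finset.erase_inter,
    Finset.univ_inter]
  ring

include hM in
theorem sOut {χ : IrrCharacter G} (h1 : χ ∉ X) (h2 : χ ∉ exc y) : sS u χ.1 = 0 := by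
  rw [sS_congr fun v => h.out hC h1 h2, sS_const, mul_zero]

include hM in
/-- An exceptional character of degree `e`. -/
theorem caseB {n : ℕ} (he : e ≠ 1) (hX : ∀ χ ∈ X, χ ≠ irrOne G →
      ε χ = 1 ∧ charDegree χ.1 = n * p + 1 ∨ ε χ = -1 ∧ charDegree χ.1 + 1 = p)
    {ψ : IrrCharacter G} (hψ : ψ ∈ exc y) (hd : charDegree ψ.1 = e) (hδ : δ = -1)
    (ht : 2 ≤ (exc y).card) (hn : 0 < n) : n = 1 ∧ 2 * e + 1 = p := by
  classical
  obtain ⟨a, l, h1, h2, h3, h4⟩ := exists_decomp (ψ.2.isCharacter.mul ψ.2.isCharacter.conj) u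
  have h5 : a (irrOne G) = 1 := by
    have := h1 (irrOne G)
    rw [← classInner_mul_right, show ψ.1 * (irrOne G).1 = ψ.1 from mul_one _,
      ψ.2.classInner_self] at this
    exact_mod_cast this.symm
  have h0 : (p : ℂ) ≠ 0 := Nat.cast_ne_zero.2 hp.out.ne_zero
  have hs := h.sYY hψ hψ
  simp only [Pi.mul_apply, ← coe_charDegree ψ.2.isCharacter, hd, map_natCast] at h3 h4
  rw [show (ψ.1 * fun g => conj (ψ.1 g)) = fun g => ψ.1 g * conj (ψ.1 g) from rfl, hs, if_pos rfl,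
    add_sub_cancel, h.ord, mul_right_inj' h0, Nat.cast_inj] at h4
  rw [← Nat.cast_mul, Nat.cast_inj] at h3
  have h6 : ∀ φ, (charDegree φ.1 : ℂ) + sS u φ.1 = p * l φ := fun φ => by
    rw [coe_charDegree φ.2.isCharacter, h2, h.ord]
  have h7 : l (irrOne G) = 1 := by
    have := h6 (irrOne G)
    rw [h.sX h.one, h.eps_one, deg_irrOne] at this
    exact_mod_cast mul_left_cancel₀ h0 (show (p : ℂ) * l _ = p * 1 by rw [← this]; push_cast; ring)
  have h8 : ∀ φ ∈ Finset.univ.erase (irrOne G), a φ * l φ * (n * p + 1) ≤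
      a φ * charDegree φ.1 * (n + 1) := fun φ hφ => by
    rw [mul_assoc, mul_assoc]
    refine Nat.mul_le_mul_left _ ?_
    have := h6 φ
    by_cases c1 : φ ∈ X
    · rw [h.sX c1] at this
      rcases hX φ c1 (Finset.ne_of_mem_erase hφ) with ⟨c, d⟩ | ⟨c, d⟩
      · rw [c, d] at this
        have : l φ = n + 1 := by exact_mod_cast mul_left_cancel₀ h0 (show (p : ℂ) * l _ = p * (n + 1) by
          rw [← this]; push_cast; ring)
        rw [this, d, mul_comm]
      · have : l φ = 0 := by exact_mod_cast mul_left_cancel₀ h0 (show (p : ℂ) * l _ = p * 0 by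
          rw [← this, c, ← d]; push_cast; ring)
        simp [this]
    by_cases c2 : φ ∈ exc y
    · have : l φ = 0 := by exact_mod_cast mul_left_cancel₀ h0 (show (p : ℂ) * l _ = p * 0 by
        rw [← this, h.sY c2, h.degY_eq c2 hψ, hd, hδ]; push_cast; ring)
      simp [this]
    · rw [h.sOut hC c1 c2, add_zero, ← Nat.cast_mul, Nat.cast_inj] at this
      rw [this]; have := hp.out.pos; nlinarith [Nat.zero_le (l φ), Nat.zero_le n]
  have h9 := Finset.sum_le_sum h8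
  rw [← Finset.add_sum_erase _ _ (Finset.mem_univ (irrOne G)), h5] at h3 h4
  rw [← Finset.sum_mul, ← Finset.sum_mul] at h9
  rw [h7] at h4
  rw [deg_irrOne] at h3
  have c1 := h.cardY
  have c2 := h.pos
  generalize ∑ x ∈ Finset.univ.erase (irrOne G), a x * l x = A at *
  generalize ∑ x ∈ Finset.univ.erase (irrOne G), a x * charDegree x.1 = B at *
  obtain rfl : e = A + 1 := by omega
  obtain rfl : B = A * (A + 2) := by nlinarith
  rw [mul_assoc] at h9
  have c3 := Nat.le_of_mul_le_mul_left h9 (by omega)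
  have c4 : 2 * (A + 1) + 1 ≤ p := by nlinarith
  obtain rfl : n = 1 := by nlinarith
  omega

omit [Fintype G] in
theorem card_pairs_le {a b x : G} (ha : a * a = 1) (hb : b * b = 1) (hx : x ∈ Z[u]) (h1 : x ≠ 1) :
    Nat.card {z : G × G // IsConj a z.1 ∧ IsConj b z.2 ∧ z.1 * z.2 = x} ≤ p ∧
    ∀ z : G × G, IsConj a z.1 ∧ IsConj b z.2 ∧ z.1 * z.2 = x → z.1 * x * z.1⁻¹ = x⁻¹ := by
  have h2 : ∀ {a c : G}, a * a = 1 → IsConj a c → c * c = 1 := fun ha hc => by
    obtain ⟨g, rfl⟩ := isConj_iff.1 hc; rw [conj_mul, ha]; simp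
  have h3 : ∀ z : G × G, IsConj a z.1 ∧ IsConj b z.2 ∧ z.1 * z.2 = x → z.1 * x * z.1⁻¹ = x⁻¹ :=
    fun z hz => by
      rw [← hz.2.2, ← mul_assoc, h2 ha hz.1, one_mul, mul_inv_rev,
        inv_eq_of_mul_eq_one_right (h2 hb hz.2.1)]
  refine ⟨?_, h3⟩
  cases isEmpty_or_nonempty {z : G × G // IsConj a z.1 ∧ IsConj b z.2 ∧ z.1 * z.2 = x} with
  | inl _ => rw [Nat.card_of_isEmpty]; exact Nat.zero_le _
  | inr h4 =>
    obtain ⟨z0⟩ := h4
    rw [← h.card]
    refine Nat.card_le_card_of_injective (fun z => (⟨z0.1.1⁻¹ * z.1.1, h.mem_of_comm hC hx h1 (by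
      have e1 := (h3 _ z.2).trans (h3 _ z0.2).symm
      calc _ = z0.1.1⁻¹ * (z.1.1 * x * z.1.1⁻¹) * z.1.1 := by group
        _ = _ := by rw [e1]; group)⟩ : Z[u])) fun z w e => ?_
    have e1 : z.1.1 = w.1.1 := by simpa using e
    exact Subtype.ext (Prod.ext e1 (mul_left_cancel (a := w.1.1) (by rw [w.2.2.2, ← e1, z.2.2.2])))

theorem sS_pairs (a b : G) : sS u (fun x => Nat.card {z : G × G // IsConj a z.1 ∧ IsConj b z.2 ∧
    z.1 * z.2 = x}) * Nat.card G = (C1[a]).index * (C1[b]).index *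
      ∑ χ : IrrCharacter G, χ.1 a * χ.1 b * sS u χ.1 / χ.1 1 := by
  rw [mul_comm, ← sS_mul, sS_congr fun x _ _ => by rw [mul_comm, card_class_pairs], sS_mul, sS_sum]
  congr 1
  refine Finset.sum_congr rfl fun χ _ => ?_
  obtain ⟨k, hk⟩ := exists_int_sS χ.2.isCharacter u
  simp only [div_eq_inv_mul]
  rw [sS_mul, sS_mul, ← conj_sS, hk, map_intCast]

section CaseA
variable {q m : ℕ} (hq : q + 1 = p) (hm : Nat.card G = p * q * m)
  (hB : ∀ χ, χ ∈ X ∨ χ ∈ exc y → χ ≠ irrOne G →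
    m ∣ charDegree χ.1 ∧ 0 ≤ (sS u χ.1).re ∨ charDegree χ.1 = q)
include hq hm hB

omit hC hq hm in
theorem cop : m.Coprime q := by
  classical
  obtain ⟨ψ, hψ⟩ := Finset.card_pos.1 h.pos'
  have a := h.rel_deg hψ
  have b : ∀ χ, χ ∈ X ∨ χ ∈ exc y → χ ≠ irrOne G → ((m.gcd q : ℕ) : ℤ) ∣ charDegree χ.1 :=
    fun χ c d => Int.natCast_dvd_natCast.2 ((hB χ c d).elim (fun e => (Nat.gcd_dvd_left ..).trans e.1)
      fun e => e ▸ Nat.gcd_dvd_right ..)
  rw [← Finset.add_sum_erase _ _ h.one, h.eps_one, deg_irrOne, add_left_comm, Nat.cast_one, one_mul,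
    add_eq_zero_iff_eq_neg] at a
  have := a ▸ (dvd_add ((b ψ (.inr hψ) (h.ne_oneY hψ)).mul_left δ) (Finset.dvd_sum fun χ hχ =>
    (b χ (.inl (Finset.mem_of_mem_erase hχ)) (Finset.ne_of_mem_erase hχ)).mul_left (ε χ))).neg_right
  exact Nat.dvd_one.1 (by exact_mod_cast this)

omit hq hB hC [Fintype G] in
theorem not_dvd : ¬ p ∣ q * m := fun e => h.syl (by
  have := Z[u].card_mul_index
  rw [h.card, hm, mul_assoc, Nat.mul_right_inj hp.out.ne_zero] at this
  rwa [this])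

omit hC hq hB [Fintype G] in
theorem vanM (hc : m.Coprime q) {χ : IrrCharacter G} (h1 : m ∣ charDegree χ.1) {g : G} {r : ℕ}
    (hr : r.Prime) (h2 : r ∣ m) (h3 : r ∣ orderOf g) : χ.1 g = 0 := by
  refine χ.2.eq_zero_of_defect_zero hr (coe_deg χ).symm (fun e => ?_) h3
  obtain ⟨c, hc'⟩ := h1
  obtain ⟨k, hk⟩ := charDegree_dvd χ.2
  have h0 := charDegree_pos χ.2
  rw [hk, Nat.mul_div_cancel_left _ h0] at e
  rw [hm, hc', mul_assoc m, mul_comm m, Nat.mul_left_inj (by rintro rfl; simp [hc'] at h0)] at hk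
  rcases hr.dvd_mul.1 (hk ▸ e.mul_left c) with e | e
  · exact h.not_dvd hm ((Nat.prime_dvd_prime_iff_eq hr hp.out).1 e ▸ h2.mul_left q)
  · exact hr.one_lt.ne' (Nat.eq_one_of_dvd_coprimes hc h2 e)

omit hC hq hB [Fintype G] in
theorem vanQ (hc : m.Coprime q) {χ : IrrCharacter G} (h1 : charDegree χ.1 = q) {g : G} {r : ℕ}
    (hr : r.Prime) (h2 : r ∣ q) (h3 : r ∣ orderOf g) : χ.1 g = 0 := by
  refine χ.2.eq_zero_of_defect_zero hr (coe_deg χ).symm (fun e => ?_) h3
  rw [h1, hm, mul_right_comm, Nat.mul_div_cancel _ (h1 ▸ charDegree_pos χ.2)] at e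
  rcases hr.dvd_mul.1 e with e | e
  · exact h.not_dvd hm ((Nat.prime_dvd_prime_iff_eq hr hp.out).1 e ▸ h2.mul_right m)
  · exact hr.one_lt.ne' (Nat.eq_one_of_dvd_coprimes hc e h2)

omit hq in
theorem nomix {g : G} {r s : ℕ} (hr : r.Prime) (hs : s.Prime) (h1 : r ∣ p * m) (h2 : s ∣ q)
    (h3 : r ∣ orderOf g) (h4 : s ∣ orderOf g) : False := by
  classical
  have hc := h.cop hB
  have hg : ¬ p ∣ orderOf g := fun e => h.not_dvd hm
    ((Nat.prime_dvd_prime_iff_eq hs hp.out).1 (h.ord_eq hC e ▸ h4) ▸ h2.mul_right m)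
  replace h1 := (hr.dvd_mul.1 h1).resolve_left fun e =>
    hg ((Nat.prime_dvd_prime_iff_eq hr hp.out).1 e ▸ h3)
  have b : ∀ χ, χ ∈ X ∨ χ ∈ exc y → χ ≠ irrOne G → χ.1 g = 0 := fun χ c d =>
    (hB χ c d).elim (fun e => h.vanM hm hc e.1 hr h1 h3) fun e => h.vanQ hm hc e hs h2 h4
  obtain ⟨ψ, hψ⟩ := Finset.card_pos.1 h.pos'
  have a := h.rel ψ hψ g hg
  rw [← Finset.add_sum_erase _ _ h.one, h.eps_one, b ψ (.inr hψ) (h.ne_oneY hψ),
    Finset.sum_eq_zero fun χ hχ => by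
      rw [b χ (.inl (Finset.mem_of_mem_erase hχ)) (Finset.ne_of_mem_erase hχ), mul_zero]] at a
  simp [irrOne] at a

omit hq in
theorem card_cent_dvd (h2 : 2 ∣ q) {v : G} (hv : orderOf v = 2) : Nat.card C1[v] ∣ q := by
  refine Nat.Coprime.dvd_of_dvd_mul_left (Nat.coprime_of_dvd fun r hr h3 (h4 : r ∣ p * m) => ?_)
    (by rw [← mul_right_comm, ← hm]; exact Subgroup.card_subgroup_dvd_card _)
  have : Fact r.Prime := ⟨hr⟩
  obtain ⟨c, hc⟩ := exists_prime_orderOf_dvd_card' r h3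
  rw [← Subgroup.orderOf_coe] at hc
  by_cases h5 : r = 2
  · exact h.nomix hC hm hB hr hr h4 (h5 ▸ h2) hc.symm.dvd hc.symm.dvd
  have := (show Commute (c : G) v from Subgroup.mem_centralizer_singleton_iff.1 c.2
    ).orderOf_mul_eq_mul_orderOf_of_coprime (by
      rw [hc, hv]; exact (Nat.coprime_primes hr Nat.prime_two).2 h5)
  exact h.nomix hC hm hB hr Nat.prime_two h4 h2 (this ▸ hc.symm.dvd.mul_right _)
    (this ▸ hv.symm.dvd.mul_left _)

include hM in
theorem invol (h2 : 2 ∣ q) {v : G} (hv : orderOf v = 2) :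
    q * m ≤ Nat.card C1[v] ^ 2 ∧ ∃ x, x * v * x⁻¹ ∈ N[Z[u]] := by
  classical
  have hvv : v * v = 1 := by rw [← pow_two, ← hv, pow_orderOf_eq_one]
  have a := congrArg Complex.re (h.sS_pairs hC v v)
  have b : ∀ χ : IrrCharacter G, χ ≠ irrOne G → 0 ≤ (χ.1 v * χ.1 v * sS u χ.1 / χ.1 1).re :=
    fun χ h1 => by
      by_cases h3 : χ ∈ X ∨ χ ∈ exc y
      · rcases hB χ h3 h1 with e | e
        · obtain ⟨k, hk⟩ := exists_int_sS χ.2.isCharacter u
          have := χ.2.isCharacter.apply_inv v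
          rw [inv_eq_of_mul_eq_one_right hvv] at this
          nth_rw 2 [this]
          have e2 := e.2
          rw [hk, Complex.intCast_re] at e2
          rw [Complex.mul_conj, hk, ← coe_deg]
          norm_cast
          have := Complex.normSq_nonneg (χ.1 v)
          positivity
        · simp [h.vanQ hm (h.cop hB) e Nat.prime_two h2 hv.symm.dvd]
      · simp [h.sOut hC (not_or.1 h3).1 (not_or.1 h3).2]
  have c : (q : ℝ) ≤ (∑ χ : IrrCharacter G, χ.1 v * χ.1 v * sS u χ.1 / χ.1 1).re := by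
    rw [Complex.re_sum, ← Finset.add_sum_erase _ _ (Finset.mem_univ (irrOne G)), h.sX h.one,
      h.eps_one, ← hq]
    have := Finset.sum_nonneg (s := Finset.univ.erase (irrOne G)) fun χ hχ =>
      b χ (Finset.ne_of_mem_erase hχ)
    simp only [show ∀ g, (irrOne G).1 g = 1 from fun _ => rfl]
    norm_num at this ⊢; exact this
  rw [← Nat.cast_mul, ← Complex.ofReal_natCast (_ * _), Complex.re_ofReal_mul, sS, ← Nat.cast_sum, ← Nat.cast_mul,
    Complex.natCast_re] at a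
  have d := Nat.cast_le.1 (((Nat.cast_mul _ q).trans_le (mul_le_mul_of_nonneg_left c (Nat.cast_nonneg _))).trans a.symm.le)
  have hq0 : 0 < q := by have := hp.out.one_lt; omega
  have hi := Nat.pos_of_ne_zero (Subgroup.index_ne_zero_of_finite (H := C1[v]))
  refine ⟨?_, ?_⟩
  · have e1 := Finset.sum_le_card_nsmul (Finset.univ.filter fun g => g ∈ Z[u] ∧ g ≠ 1) _ p fun x hx =>
      (h.card_pairs_le hC hvv hvv (Finset.mem_filter.1 hx).2.1 (Finset.mem_filter.1 hx).2.2).1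
    have e2 := sS_const (u := u) 1
    rw [sS, Finset.sum_const, h.ord, ← hq] at e2
    rw [show (Finset.univ.filter fun g => g ∈ Z[u] ∧ g ≠ 1).card = q by simpa using e2,
      smul_eq_mul] at e1
    have e3 := d.trans (Nat.mul_le_mul_right _ e1)
    have e4 := (C1[v]).index_mul_card
    rw [← e4] at e3
    rw [hm] at e4
    have e5 : (C1[v]).index ≤ p * Nat.card C1[v] := by
      refine Nat.le_of_mul_le_mul_left (Nat.le_of_mul_le_mul_left (c := q) ?_ hq0) hi
      nlinarith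
    refine Nat.le_of_mul_le_mul_left (c := p) ?_ hp.out.pos
    nlinarith [Nat.mul_le_mul_right (Nat.card C1[v]) e5]
  · by_contra! h3
    rw [Finset.sum_eq_zero fun x hx => ?_] at d
    · exact absurd d (by simp [hi.ne', hq0.ne'])
    obtain ⟨-, h4, h5⟩ := Finset.mem_filter.1 hx
    rw [Nat.card_eq_zero]
    refine .inl ⟨fun z => ?_⟩
    obtain ⟨g, hg⟩ := isConj_iff.1 z.2.1
    exact h3 g (hg ▸ h.mem_norm h4 h5 (by
      rw [(h.card_pairs_le hC hvv hvv h4 h5).2 _ z.2]; exact inv_mem h4))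

end CaseA

set_option maxHeartbeats 1600000 in
theorem geom {θ : IrrCharacter G} (hθ : θ ∈ exc y) (hδ : δ = 1) {m : ℕ} (hd : charDegree θ.1 = m)
    (hme : m + e = p) (hN : (N[Z[u]]).index = (exc y).card * m) (ht : 2 ≤ (exc y).card)
    (hc : m.Coprime (e * (exc y).card)) {v : G} (hv : orderOf v = 2) (hvN : v ∈ N[Z[u]])
    (hH : Nat.card C1[v] = e * (exc y).card) (h2 : p ≠ 2) :
    (e = 2 ∨ (exc y).card ≠ 2) → ∀ k ∈ C1[v], k * k = 1 := by
  classical
  have hY := h.cardY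
  generalize (exc y).card = t at *
  obtain ⟨D, hD⟩ : ∃ D : G → Prop, ∀ g, D g ↔ g ∈ N[Z[u]] ∧ g ∉ Z[u] := ⟨_, fun _ => Iff.rfl⟩
  have hD' : ∀ g, D g ↔ g ∈ N[Z[u]] ∧ g ≠ 1 ∧ ¬ p ∣ orderOf g := fun g =>
    (hD g).trans (and_congr_right fun a => h.notMem_iff hC a)
  have hp' : (p : ℝ) = e * t + 1 := by exact_mod_cast hY.symm
  have hm' : (m : ℝ) = e * t + 1 - e := by rw [← hp', ← hme]; push_cast; ring
  have hG : (Nat.card G : ℝ) = t * m * (e * p) := by exact_mod_cast hN ▸ h.card_G hC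
  have cN : ((Finset.univ.filter (· ∈ N[Z[u]])).card : ℝ) = e * p := by
    rw [← Fintype.card_subtype, ← Nat.card_eq_fintype_card]; exact_mod_cast h.card_N hC
  have cD : ((Finset.univ.filter D).card : ℝ) = e * p - p := by
    rw [← cN, ← h.card, Nat.card_eq_fintype_card, Fintype.card_subtype, eq_sub_iff_add_eq,
      ← Finset.card_filter_add_card_filter_not (s := Finset.univ.filter (· ∈ N[Z[u]])) (· ∉ Z[u]),
      Finset.filter_filter, Finset.filter_filter]
    rw [Nat.cast_add]; congr 3 <;> ext g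
    · simp only [Finset.mem_filter, hD]
    simpa [-Subgroup.coe_zpowers] using fun a => Subgroup.le_normalizer a
  obtain ⟨R, hR⟩ : ∃ R : Finset G, ∀ g, g ∈ R ↔ (fx D g).Nonempty :=
    ⟨Finset.univ.filter fun g => (fx D g).Nonempty, fun _ => by simp⟩
  obtain ⟨μ, m1, m2, m3⟩ := h.exists_loc hC θ.2.isCharacter (l := 1) (by
    rw [h.sY hθ, ← coe_deg, hd, hδ, ← hme]; push_cast; ring)
  have r1 : ∀ g ∈ R, (g ≠ 1 ∧ ¬ p ∣ orderOf g) ∧ ‖θ.1 g‖ = 1 := fun g hg => by
    obtain ⟨x, hx⟩ := (hR g).1 hg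
    rw [mem_fx] at hx
    refine ⟨by simpa [mul_inv_eq_iff_eq_mul, orderOf_conj] using ((hD' _).1 hx).2, ?_⟩
    rw [hD] at hx
    rw [← θ.2.isClassFunction g x, m3 ⟨_, hx.1⟩ hx.2, norm_eq_one_of_lin m1 (by simpa using m2)]
  set T := Finset.univ.filter fun g : G => (g ≠ 1 ∧ ¬ p ∣ orderOf g) ∧ g ∉ R with hT
  have r2 : R.card + ∑ g ∈ T, ‖θ.1 g‖ ^ 2 = p * m * (e - 1) := by
    have a := h.sum_split hC (θ.2.isClassFunction.mul θ.2.isClassFunction.conj)
    rw [show (θ.1 * fun g => conj (θ.1 g)) = fun g => θ.1 g * conj (θ.1 g) from rfl, h.sYY hθ hθ,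
      if_pos rfl, ← Finset.sum_filter_add_sum_filter_not (Finset.filter _ _) (· ∈ R), hN] at a
    simp only [Complex.mul_conj', norm_one_eq θ.2.isCharacter, hd, Finset.filter_filter] at a
    have b := sum_norm_sq_of_irr θ.2
    rw [show Finset.univ.filter (fun g => (g ≠ 1 ∧ ¬ p ∣ orderOf g) ∧ g ∈ R) = R from
      Finset.ext fun g => by simpa using fun a => (r1 g a).1, Finset.sum_congr (s₁ := R) rfl fun g hg => by
        rw [(r1 g hg).2], Finset.sum_const] at a
    have a' : ∑ g, ‖θ.1 g‖ ^ 2 = m ^ 2 + t * m * (p * e - e * e) + (R.card + ∑ g ∈ T, ‖θ.1 g‖ ^ 2) := by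
      apply Complex.ofReal_injective
      simpa using a
    rw [b, hG] at a'
    rw [← sub_eq_iff_eq_add'.2 a', hp', hm']; ring
  set S : G → Subgroup G := fun x => N[Z[u]] ⊓ N[Z[u]].comap (MulAut.conj x).toMonoidHom with hS
  have s1 : ∀ x, x ∉ N[Z[u]] → ∀ g ∈ S x, g ∈ Z[u] → g = 1 := fun x hx g a b => by
    by_contra e
    refine hx (h.mem_norm b e (by_contra fun c => ((hD' _).1 ((hD _).2 ⟨a.2, c⟩)).2.2 ?_))
    rw [show orderOf ((MulAut.conj x).toMonoidHom g) = orderOf g from orderOf_conj .., dvd_ord_of_mem h.ord b e]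
  obtain ⟨w, hw⟩ : ∃ w : G → ℕ, ∀ x, w x =
    (Finset.univ.filter fun g => D g ∧ D (x * g * x⁻¹)).card := ⟨_, fun _ => rfl⟩
  have s2 : ∀ x, w x + 1 ≤ Nat.card (S x) := fun x => by
    rw [Nat.card_eq_fintype_card, Fintype.card_subtype, hw, ← Finset.card_insert_of_notMem (a := 1)
      (by simp [hD])]
    exact Finset.card_le_card fun g hg => by
      simp only [Finset.mem_insert, Finset.mem_filter, Finset.mem_univ, true_and, hD] at hg ⊢
      rcases hg with rfl | hg; exacts [one_mem _, ⟨hg.1.1, hg.2.1⟩]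
  have s3 : ∀ x ∈ Finset.univ.filter (· ∉ N[Z[u]]), (0 : ℝ) ≤ e - 1 - w x := fun x hx => by
    have := (s2 x).trans (h.card_le hC inf_le_left (s1 x (by simpa using hx)))
    have : (w x + 1 : ℝ) ≤ e := by exact_mod_cast this
    linarith
  have f0 : ∀ a : G → ℝ, ∑ g ∈ R, (fx D g).card * a g = ∑ g, (fx D g).card * a g := fun a =>
    Finset.sum_subset (Finset.subset_univ _) fun g _ hg => by
      rw [Finset.not_nonempty_iff_eq_empty.1 (mt (hR g).2 hg)]; simp
  have f1 := (f0 _).trans (sum_fx D (a := fun _ => 1) fun _ _ => rfl)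
  have f2 := (f0 _).trans (sum_fx D (a := fun g => (fx D g).card) fun x g => by rw [card_fx_conj])
  have f3 : ∑ g with D g, ((fx D g).card : ℝ) = e * p * (e * p - p) + (Nat.card G - e * p) * (e - 1) -
      ∑ x with x ∉ N[Z[u]], ((e : ℝ) - 1 - w x) := by
    have : ∑ g with D g, ((fx D g).card : ℝ) = ∑ x, (w x : ℝ) := by
      simp only [fx, hw, Finset.card_filter, Nat.cast_sum, Finset.sum_filter, ite_and]
      rw [Finset.sum_comm]
      exact Finset.sum_congr rfl fun g _ => by split_ifs <;> simp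
    have cN' := Finset.card_filter_add_card_filter_not (s := Finset.univ) (· ∈ N[Z[u]])
    rw [Finset.card_univ, ← Nat.card_eq_fintype_card] at cN'
    have c : ∀ x ∈ Finset.univ.filter (· ∈ N[Z[u]]), (w x : ℝ) = e * p - p := fun x hx => by
      rw [← cD, hw]; congr 2; ext g
      have hx := (Finset.mem_filter.1 hx).2
      simpa [hD, -Subgroup.coe_zpowers] using fun a b => ⟨mul_mem (mul_mem hx a) (inv_mem hx),
        fun c => b ((Subgroup.mem_normalizer_iff.1 hx g).2 c)⟩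
    rw [this, ← Finset.sum_filter_add_sum_filter_not _ (· ∈ N[Z[u]]), Finset.sum_congr rfl c,
      Finset.sum_sub_distrib (f := fun _ => (e : ℝ) - 1), ← cN', Finset.sum_const, Finset.sum_const, nsmul_eq_mul, nsmul_eq_mul,
      Nat.cast_add, cN]
    ring
  have key : ∑ g ∈ R, ((fx D g).card - e * p * t : ℝ) ^ 2 + Nat.card G *
      ∑ x with x ∉ N[Z[u]], ((e : ℝ) - 1 - w x) + (e * p * t) ^ 2 * ∑ g ∈ T, ‖θ.1 g‖ ^ 2 = 0 := by
    simp only [mul_one, Finset.sum_const, nsmul_eq_mul, cD] at f1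
    rw [f3] at f2
    generalize ∑ x with x ∉ N[Z[u]], ((e : ℝ) - 1 - w x) = A at *
    simp only [sub_sq, Finset.sum_add_distrib, Finset.sum_sub_distrib, pow_two ((fx D _).card : ℝ),
      f2, ← Finset.sum_mul, ← Finset.mul_sum, f1, Finset.sum_const, nsmul_eq_mul,
      ← sub_eq_iff_eq_add.2 r2.symm, hG, hm', hp']
    ring
  have p1 := Finset.sum_nonneg (s := R) fun g _ => sq_nonneg ((fx D g).card - e * p * t : ℝ)
  have p2 := Finset.sum_nonneg s3
  have p3 := Finset.sum_nonneg (s := T) fun g _ => sq_nonneg ‖θ.1 g‖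
  have g0 : (0 : ℝ) < Nat.card G := Nat.cast_pos.2 Nat.card_pos
  have g1 : (0 : ℝ) < (e * p * t) ^ 2 := by have := h.pos; have := hp.out.pos; positivity
  have p4 := mul_nonneg g0.le p2
  have p5 := mul_nonneg g1.le p3
  have k1 : ∀ g ∈ R, (fx D g).card = e * p * t := fun g hg => by
    have := (Finset.sum_eq_zero_iff_of_nonneg fun g _ => sq_nonneg _).1 (show ∑ g ∈ R,
      ((fx D g).card - e * p * t : ℝ) ^ 2 = 0 by linarith) g hg
    exact_mod_cast sub_eq_zero.1 (pow_eq_zero_iff two_ne_zero |>.1 this)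
  have k2 : ∀ x, x ∉ N[Z[u]] → e ≤ Nat.card (S x) := fun x hx => by
    have := (Finset.sum_eq_zero_iff_of_nonneg s3).1
      ((mul_eq_zero.1 (by linarith : _ = (0 : ℝ))).resolve_left g0.ne') x (by simpa using hx)
    have : e = w x + 1 := by exact_mod_cast (by linarith : (e : ℝ) = w x + 1)
    exact this ▸ s2 x
  have k3 : ∀ g ∈ T, θ.1 g = 0 := fun g hg => by
    simpa using (Finset.sum_eq_zero_iff_of_nonneg fun g _ => sq_nonneg ‖θ.1 g‖).1
      ((mul_eq_zero.1 (by linarith : _ = (0 : ℝ))).resolve_left g1.ne') g hg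
  have k4 : ∀ n (g : G), orderOf g = n → n ∣ e * t → g ≠ 1 → g ∈ R := fun n => by
    induction n using Nat.strong_induction_on with | _ n ih => ?_
    rintro g rfl a b
    by_contra c
    obtain ⟨r, hr, d⟩ := Nat.exists_prime_and_dvd (mt orderOf_eq_one_iff.1 b)
    have : Fact r.Prime := ⟨hr⟩
    obtain ⟨M', _⟩ := exists_pmod r
    have e1 := char_mul_InP (M := M') (p := r) θ.2.isCharacter g
    rw [k3 g (Finset.mem_filter.2 ⟨Finset.mem_univ _, ⟨b, fun e => hp.out.one_lt.ne' (Nat.dvd_one.1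
      ((Nat.dvd_add_right (e.trans a)).1 hY.symm.dvd))⟩, c⟩), zero_sub] at e1
    replace e1 := InP.neg e1
    rw [neg_neg] at e1
    have e2 := orderOf_dvd_of_mem_zpowers (rpart_mem_zpowers r g)
    by_cases e3 : rpart r g = 1
    · rw [e3, ← coe_deg, hd, InP_natCast_iff (p := r)] at e1
      exact hr.one_lt.ne' (Nat.eq_one_of_dvd_coprimes hc e1 (d.trans a))
    have := InP.mul_right e1 (conj_irr_mem_Loc θ (rpart r g))
    rw [Complex.mul_conj', (r1 _ (ih _ (lt_of_le_of_ne (Nat.le_of_dvd (orderOf_pos g) e2)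
      fun e => reg_rpart r g (e ▸ d)) _ rfl (e2.trans a) e3)).2] at this
    exact not_InP_one (by simpa using this)
  have k5 : ∀ g ∈ C1[v], g ≠ 1 → (fx D g).card = e * p * t := fun g a b =>
    k1 g (k4 _ g rfl (hH ▸ Subgroup.orderOf_dvd_natCard _ a) b)
  have v1 : v ≠ 1 := by rintro rfl; simp at hv
  have vC : v ∈ C1[v] := Subgroup.mem_centralizer_singleton_iff.2 rfl
  have vv : v * v = 1 := by rw [← pow_two, ← hv, pow_orderOf_eq_one]
  have l1 : ∀ {z}, D z → ∀ g ∈ C1[z], g ∈ Z[u] → g = 1 := fun hz g a b => of_not_not fun c =>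
    ((hD _).1 hz).2 (h.mem_of_comm hC b c (Subgroup.mem_centralizer_singleton_iff.1 a).symm)
  have vD : D v := (hD' v).2 ⟨hvN, v1, fun e =>
    h2 ((Nat.prime_dvd_prime_iff_eq hp.out Nat.prime_two).1 (hv ▸ e))⟩
  set E := C1[v] ⊓ N[Z[u]] with hE
  have l2 : Nat.card E ≤ e := h.card_le hC inf_le_right fun g a => l1 vD g a.1
  have l3 : ∀ x ∈ fx D v, x ∉ N[Z[u]] → S x = E := fun x a b => Subgroup.eq_of_le_of_card_ge
    (fun g c => ⟨Subgroup.mem_centralizer_singleton_iff.2 (h.comm_of hC inf_le_left (s1 x b) c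
      ⟨hvN, ((hD _).1 (mem_fx.1 a)).1⟩), c.1⟩) (l2.trans (k2 x b))
  obtain ⟨x0, x1, x2⟩ : ∃ x ∈ fx D v, x ∉ N[Z[u]] := by
    by_contra! c
    have := Finset.card_le_card (t := Finset.univ.filter (· ∈ N[Z[u]])) fun x a => by simpa using c x a
    have cN2 : (Finset.univ.filter (· ∈ N[Z[u]])).card = e * p := by exact_mod_cast cN
    rw [k5 v vC v1, cN2] at this
    nlinarith [Nat.mul_pos h.pos hp.out.pos]
  have l4 : Nat.card E = e := l2.antisymm (l3 x0 x1 x2 ▸ k2 x0 x2)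
  have l5 : ∀ k ∈ C1[v], ∀ x ∈ fx D v, x ∈ fx D k → k ∈ E := fun k a x b c => by
    have e1 : E ≤ C1[v] ⊓ N[Z[u]].comap (MulAut.conj x).toMonoidHom := fun g d => ⟨d.1, by
      by_cases e : x ∈ N[Z[u]]
      exacts [mul_mem (mul_mem e d.2) (inv_mem e), ((l3 x b e).ge d).2]⟩
    refine (Subgroup.eq_of_le_of_card_ge e1 ?_).ge ⟨a, ((hD _).1 (mem_fx.1 c)).1⟩
    rw [l4, ← Subgroup.card_map_of_injective (f := (MulAut.conj x).toMonoidHom) (MulAut.conj x).injective]
    refine h.card_le hC (Subgroup.map_le_iff_le_comap.2 inf_le_right) ?_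
    rintro _ ⟨g, d, rfl⟩
    refine l1 (mem_fx.1 b) _ (Subgroup.mem_centralizer_singleton_iff.2 ?_)
    simp [conj_mul, Subgroup.mem_centralizer_singleton_iff.1 d.1]
  have l6 : ∀ k ∈ C1[v], k ∉ E → k * k = 1 := fun k a b => by
    by_contra c
    have e1 : ∀ k ∈ C1[v], k * k ≠ 1 → fx D k = fx D (k * k) := fun k a c =>
      Finset.eq_of_subset_of_card_le (fun x hx => by
        have d := (hD' _).1 (mem_fx.1 hx)
        rw [mem_fx, ← conj_mul]
        exact (hD' _).2 ⟨mul_mem d.1 d.1, by rwa [conj_mul, Ne, conj_eq_one_iff], fun e => d.2.2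
          (e.trans (orderOf_dvd_of_mem_zpowers (mul_mem (Subgroup.mem_zpowers _) (Subgroup.mem_zpowers _))))⟩)
        (by rw [k5 _ (mul_mem a a) c, k5 k a (by rintro rfl; simp at c)])
    have e2 : k * v * (k * v) = k * k := by
      rw [mul_assoc, ← mul_assoc v, ← Subgroup.mem_centralizer_singleton_iff.1 a, mul_assoc k v, vv, mul_one]
    have e3 := e1 _ (mul_mem a vC) (e2 ▸ c)
    rw [e2, ← e1 k a c] at e3
    obtain ⟨x, hx⟩ : (fx D k).Nonempty := Finset.card_pos.1 (by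
      rw [k5 k a (by rintro rfl; simp at c)]; have := h.pos; have := hp.out.pos; positivity)
    refine b (l5 k a x (mem_fx.2 ((hD' _).2 ⟨?_, by simpa [mul_inv_eq_iff_eq_mul] using v1,
      orderOf_conj x v ▸ ((hD' v).1 vD).2.2⟩)) hx)
    convert mul_mem (inv_mem ((hD _).1 (mem_fx.1 hx)).1) ((hD _).1 (mem_fx.1 (e3 ▸ hx))).1 using 1
    group
  intro h3 k hk
  have l7 : (E.subgroupOf C1[v]).index = t := by
    have := (E.subgroupOf C1[v]).index_mul_card
    rwa [Nat.card_congr (Subgroup.subgroupOfEquivOfLe inf_le_left).toEquiv, l4, hH, mul_comm,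
      Nat.mul_right_inj h.pos.ne'] at this
  rcases h3 with h3 | h3
  · by_cases a : k ∈ E
    · rw [← pow_two, ← h3, ← l4]; exact congrArg Subtype.val (pow_card_eq_one' (x := (⟨k, a⟩ : E)))
    · exact l6 k hk a
  exact congrArg Subtype.val (sq_eq_one_of_index (E := E.subgroupOf C1[v])
    (fun g a => Subtype.ext (l6 g g.2 a)) (fun e => by rw [e, Subgroup.index_top] at l7; omega)
    (l7 ▸ h3) ⟨k, hk⟩)

include hM in
/-- The case of a character of degree `p - 1`. -/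
theorem caseA {n : ℕ} (hn : (N[Z[u]]).index = n * p + 1) (h0 : 0 < n) (h2 : p ≠ 2)
    (hX : ∀ χ ∈ X, χ ≠ irrOne G →
      ε χ = 1 ∧ charDegree χ.1 = n * p + 1 ∨ ε χ = -1 ∧ charDegree χ.1 + 1 = p)
    (hY : ∀ ψ ∈ exc y, δ = 1 ∧ (exc y).card * charDegree ψ.1 = n * p + 1 ∨
      charDegree ψ.1 + 1 = p ∧ (exc y).card = 1) :
    (n = 1 ∧ 2 * e + 1 = p ∧ e ≠ 2) ∨ (4 < p ∧ Nat.card G = p * (p - 1) * (p - e) ∧ ∀ v : G, orderOf v = 2 →
      Nat.card C1[v] + 1 = p ∧ ∀ k ∈ C1[v], k * k = 1) := by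
  obtain ⟨θ, hθ⟩ := Finset.card_pos.1 h.pos'
  obtain ⟨m, hm⟩ : ∃ m, (exc y).card * m = n * p + 1 := (hY θ hθ).elim (fun a => ⟨_, a.2⟩)
    fun a => ⟨_, by rw [a.2, one_mul]⟩
  have hq := h.cardY
  have hG : Nat.card G = p * (e * (exc y).card) * m := by rw [h.card_G hC, hn, ← hm]; ring
  have hB : ∀ χ, χ ∈ X ∨ χ ∈ exc y → χ ≠ irrOne G → m ∣ charDegree χ.1 ∧ 0 ≤ (sS u χ.1).re ∨
      charDegree χ.1 = e * (exc y).card := by
    rintro χ (a | a) b
    · refine (hX χ a b).imp (fun c => ⟨by rw [c.2, ← hm]; exact dvd_mul_left .., ?_⟩) fun c => by omega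
      simpa [h.sX a, c.1] using hp.out.one_lt.le
    · refine (hY χ a).imp (fun c => ⟨?_, by simp [h.sY a, c.1]⟩) fun c => by omega
      rw [Nat.eq_of_mul_eq_mul_left h.pos' (c.2.trans hm.symm)]
  have hq2 : 2 ∣ e * (exc y).card := by
    obtain ⟨k, hk⟩ := hp.out.odd_of_ne_two h2; omega
  have a1 := fun v : G => h.card_cent_dvd hC hG hB hq2 (v := v)
  have a2 := fun v : G => h.invol hC hq hG hB hq2 (v := v)
  obtain ⟨v, hv⟩ := exists_prime_orderOf_dvd_card' (G := G) 2 (hG ▸ (hq2.mul_left p).mul_right m)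
  have q0 := Nat.mul_pos h.pos h.pos'
  have a3 : m ≤ e * (exc y).card := Nat.le_of_mul_le_mul_left ((a2 v hv).1.trans
    (by rw [pow_two]; exact Nat.mul_self_le_mul_self (Nat.le_of_dvd q0 (a1 v hv)))) q0
  have ht : 2 ≤ (exc y).card := by
    by_contra a; have := h.pos'
    rw [show (exc y).card = 1 by omega] at hm a3 hq; nlinarith
  obtain ⟨hδ, hd⟩ := (hY θ hθ).resolve_right fun a => by omega
  replace hd := Nat.eq_of_mul_eq_mul_left h.pos' (hd.trans hm.symm)
  have hme : m + e = p := by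
    obtain ⟨l, hl⟩ := h.degY hθ
    rw [hd, hδ, one_mul] at hl
    have hl' : m + e = p * l := by exact_mod_cast hl
    have := h.pos
    rcases l with _ | _ | l <;> nlinarith
  have a4 : ∀ v : G, orderOf v = 2 → Nat.card C1[v] = e * (exc y).card := fun v hv => by
    obtain ⟨k, hk⟩ := a1 v hv
    have := (a2 v hv).1
    have := h.pos
    generalize Nat.card C1[v] = c at *
    rcases k with _ | _ | k
    · omega
    · omega
    have b : 2 * c ≤ e * (exc y).card := by nlinarith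
    have b2 : e * 2 ≤ e * (exc y).card := Nat.mul_le_mul_left e ht
    generalize e * (exc y).card = q at *
    nlinarith [Nat.mul_self_le_mul_self b, Nat.mul_le_mul_left q (show q + 1 ≤ 4 * m by omega)]
  have a5 : ∀ v : G, orderOf v = 2 → (e = 2 ∨ (exc y).card ≠ 2) → ∀ k ∈ C1[v], k * k = 1 :=
    fun v hv b k hk => by
      obtain ⟨x, hx⟩ := (a2 v hv).2
      have c := (orderOf_conj x v).trans hv
      have := h.geom hC hθ hδ hd hme (hn.trans hm.symm) ht (h.cop hB) c hx (a4 _ c) h2 b (x * k * x⁻¹)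
        (Subgroup.mem_centralizer_singleton_iff.2 (by
          rw [conj_mul, conj_mul, Subgroup.mem_centralizer_singleton_iff.1 hk]))
      rwa [conj_mul, conj_eq_one_iff] at this
  by_cases b : e = 2 ∨ (exc y).card ≠ 2
  · refine .inr ⟨?_, by rw [hG]; congr <;> omega,
      fun v hv => ⟨by rw [a4 v hv, hq], a5 v hv b⟩⟩
    have := h.pos
    by_contra c
    have : e * (exc y).card = 2 := by omega
    have e1 : e = 1 := by nlinarith
    have e2 := h.cop hB
    rw [this, show m = 2 by omega] at e2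
    simp at e2
  · push Not at b
    rw [b.2] at hm hq
    exact .inl ⟨by nlinarith, by omega, b.1⟩

end PB

end CfsgH4
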