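import Cfsg.Agent.H4.Br2
import Cfsg.Agent.H8.Za8
import Cfsg.Agent.S1230

/-! Brauer's theorem on groups with few Sylow subgroups of prime order. -/

set_option autoImplicit false
open Cfsg MonoidAlgebra CfsgL0 CfsgH1 CfsgH4
open CfsgH3 hiding cj cj_cj
open scoped ComplexConjugate Pointwise

namespace CfsgH4

local notation "C[" Q "]" => Subgroup.centralizer (SetLike.coe (Q : Subgroup _))
local notation "N[" Q "]" => Subgroup.normalizer (SetLike.coe (Q : Subgroup _))
local notation "Z[" u "]" => Subgroup.zpowers u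
local notation "C1[" u "]" => Subgroup.centralizer (singleton u)
local notation "PSL2[" F "]" => Matrix.ProjectiveSpecialLinearGroup (Fin 2) F
local notation "SL2[" F "]" => Matrix.SpecialLinearGroup (Fin 2) F

/-- Brauer's function `F(p, u, h)` represents `n`. -/
def BF (p n : ℕ) : Prop := ∃ h u : ℕ, 0 < h ∧ 0 < u ∧ n * (u + 1) = h * u * p + u ^ 2 + u + h

theorem BF.le {p n : ℕ} (h : BF p n) : p + 3 ≤ 2 * n := by
  obtain ⟨h, u, a, b, c⟩ := h
  by_contra! d
  obtain ⟨u, rfl⟩ := Nat.exists_eq_add_of_lt b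
  obtain ⟨h, rfl⟩ := Nat.exists_eq_add_of_lt a
  nlinarith [Nat.zero_le (h * u * p), Nat.zero_le (h * p), Nat.zero_le (u * p), Nat.zero_le (u * u),
    Nat.mul_le_mul_right (u + 2) (show 2 * n ≤ p + 2 by omega)]

theorem bf_aux {q n u v b : ℕ} (hq : 0 < q) (h : q * (n * (q + 1) + 1) = (u * (q + 1) + 1) * b)
    (hb : b + 1 = v * (q + 1)) : u = 0 ∨ v = 1 ∨ BF (q + 1) n := by
  zify at h hb
  have h1 : ((u : ℤ) + 1) * (v - 1) = q * (n - u * v) :=
    mul_left_cancel₀ (show (q + 1 : ℤ) ≠ 0 by omega) (by linear_combination -h - (u * (q + 1) + 1) * hb)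
  by_contra! h2
  have h3 : (1 : ℤ) < v := by
    rcases v with _ | v; · omega
    omega
  have h4 : (0 : ℤ) < n - u * v := by
    have : (0 : ℤ) < q * (n - u * v) := by rw [← h1]; exact mul_pos (by omega) (by omega)
    exact (pos_iff_pos_of_mul_pos this).1 (by omega)
  obtain ⟨k, hk⟩ := Int.eq_ofNat_of_zero_le h4.le
  refine h2.2.2 ⟨k, u, by omega, by omega, ?_⟩
  zify; rw [← hk]; linear_combination u * h1

theorem bf_pos {q n u D : ℕ} (hq : 0 < q) (h : D ∣ q * (n * (q + 1) + 1)) (hD : D = u * (q + 1) + 1)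
    (hF : ¬ BF (q + 1) n) : D = 1 ∨ D = n * (q + 1) + 1 := by
  obtain ⟨k, hk⟩ := h
  obtain ⟨v, hv⟩ : q + 1 ∣ k + 1 := (Nat.dvd_add_right (dvd_mul_right (q + 1) (u * k))).1
    ⟨q * n + 1, by rw [hD] at hk; nlinarith⟩
  rcases bf_aux hq (hD ▸ hk) (hv.trans (mul_comm ..)) with a | a | a
  · simp [hD, a]
  · obtain rfl : k = q := by simpa [a] using hv
    exact .inr (Nat.eq_of_mul_eq_mul_left hq (hk.trans (mul_comm ..))).symm
  · exact absurd a hF

theorem bf_neg {q n v D : ℕ} (hq : 0 < q) (h : D ∣ q * (n * (q + 1) + 1)) (hD : D + 1 = v * (q + 1))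
    (hF : ¬ BF (q + 1) n) : D = q ∨ D = q * (n * (q + 1) + 1) := by
  obtain ⟨k, hk⟩ := h
  rcases k with _ | k
  · simp [hq.ne'] at hk
  obtain ⟨u, hu⟩ : (q + 1 : ℤ) ∣ k := ⟨v * (k + 1) - q * n - 1, by
    zify at hk hD; linear_combination hk + (k + 1) * hD⟩
  obtain ⟨u, rfl⟩ := Int.eq_ofNat_of_zero_le (pos_of_mul_nonneg_left' hu)
  obtain rfl : k = u * (q + 1) := by zify; rw [hu]; ring
  rcases bf_aux hq (hk.trans (mul_comm ..)) hD with a | a | a
  · simp [hk, a]
  · simpa [a] using Or.inl hD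
  · exact absurd a hF
  where pos_of_mul_nonneg_left' {q k : ℕ} {u : ℤ} (h : (k : ℤ) = (q + 1) * u) : 0 ≤ u :=
    nonneg_of_mul_nonneg_right (h ▸ Int.natCast_nonneg k) (by omega)

variable {G : Type*} [Group G] [Finite G] {M : Ideal AlgInt} {p : ℕ} [hM : PMod p M]
  [hp : Fact p.Prime] {u : G} {e : ℕ} {X : Finset (IrrCharacter G)}
  {y : (Z[u] →* ℂˣ) → IrrCharacter G} {ε : IrrCharacter G → ℤ} {δ : ℤ}

omit hM hp in
theorem eq_one_of_deg (hc : commutator G = ⊤) {χ : IrrCharacter G} (h : charDegree χ.1 = 1) :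
    χ = irrOne G := Subtype.ext (funext fun g => lin_comm χ.2.isCharacter
  ((charDegree_eq_one χ.2.isCharacter).1 h) (hc ▸ Subgroup.mem_top g))

omit hM hp in
theorem exists_central_pelt' (T : Sylow 2 G) (h2 : 2 ∣ Nat.card G) :
      ∃ z : G, (orderOf z = 2 ∧ (T : Subgroup G) ≤ C1[z]) ∧ True := by
    have := (Subgroup.nontrivial_iff_ne_bot _).2 (T.ne_bot_of_dvd_card h2)
    have := T.isPGroup'.center_nontrivial
    obtain ⟨k, hk, h1⟩ := (T.isPGroup'.to_subgroup (Subgroup.center T)).nontrivial_iff_card.1 this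
    obtain ⟨z, hz⟩ := exists_prime_orderOf_dvd_card' 2 (h1 ▸ dvd_pow_self 2 hk.ne')
    exact ⟨z.1.1, ⟨by rw [Subgroup.orderOf_coe, Subgroup.orderOf_coe, hz], fun x hx =>
      Subgroup.mem_centralizer_singleton_iff.2
        (congrArg Subtype.val (Subgroup.mem_center_iff.1 z.2 ⟨x, hx⟩))⟩, trivial⟩

omit hM hp in
theorem sl2_of_elem {q : ℕ} (h1 : 2 < q) (h2 : 2 ∣ Nat.card G) (hO : ∀ N : Subgroup G, N.Normal →
    IsPGroup 2 N → N = ⊥) (h : ∀ v : G, orderOf v = 2 → Nat.card C1[v] = q ∧ ∀ k ∈ C1[v], k * k = 1) :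
    ∃ (m : ℕ) (F : Type) (_ : Field F) (_ : Fintype F), Fintype.card F = 2 ^ m ∧ q = 2 ^ m ∧
      Nonempty (G ≃* PSL2[F]) ∧ Nonempty (G ≃* SL2[F]) := by
  obtain ⟨T⟩ : Nonempty (Sylow 2 G) := inferInstance
  obtain ⟨z, hz, -⟩ := exists_central_pelt' T h2
  have a : ∀ v : G, orderOf v = 2 → IsPGroup 2 C1[v] := fun v hv k =>
    ⟨1, Subtype.ext (by simpa [pow_two] using (h v hv).2 k k.2)⟩
  have b : C1[z] = T := T.3 (a z hz.1) hz.2
  have c : Nat.card T = q := b ▸ (h z hz.1).1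
  obtain ⟨F, _, _, d, ⟨f⟩⟩ := Cfsg.Agent.S1230.result T (fun hc => by
      obtain ⟨g, hg⟩ := hc.exists_generator
      have := orderOf_le_of_pow_eq_one two_pos (x := g) (Subtype.ext (by
        simpa [pow_two] using (h z hz.1).2 g (b.ge g.2)))
      rw [orderOf_eq_card_of_forall_mem_zpowers hg] at this; omega)
    (fun hn => by rw [hO _ hn T.2, Subgroup.card_bot] at c; omega) fun t ht =>
    ⟨⟨⟨fun a b => Subtype.ext (by
      have := (h t ht).2
      simpa [inv_eq_of_mul_eq_one_right (this _ a.2), inv_eq_of_mul_eq_one_right (this _ b.2)] using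
        (inv_eq_of_mul_eq_one_right (this _ (mul_mem a.2 b.2))).symm)⟩⟩,
      fun c hc => by rw [pow_two, (h t ht).2 c hc]⟩
  obtain ⟨m, hm⟩ := T.2.exists_card_eq
  obtain ⟨g⟩ := CfsgH8.Za.sl_psl (F := F) (by
    rw [d, hm]; rcases m with _ | m
    · omega
    · exact even_two.pow_of_ne_zero m.succ_ne_zero)
  exact ⟨m, F, _, _, d.trans hm, c ▸ hm, ⟨f⟩, ⟨f.trans g⟩⟩

namespace PB
variable (h : PB M p u e X y ε δ)
include h
omit hM

theorem le_of_dvd {K : Subgroup G} [hK : K.Normal] (h1 : p ∣ Nat.card K) : Z[u] ≤ K := by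
  obtain ⟨g, hg⟩ := exists_prime_orderOf_dvd_card' p h1
  rw [← Subgroup.orderOf_coe] at hg
  obtain ⟨x, hx⟩ := exists_conj_mem_sylow_of_orderOf h.sy hg
  rw [← zpowers_eq_of_mem h.ord hx fun e => hp.out.one_lt.ne' (by
    rw [← hg, ← orderOf_conj x, e, orderOf_one]), Subgroup.zpowers_le]
  exact hK.conj_mem _ g.2 _

theorem faithful [Fintype G] (hO : pPrimeCore p G = ⊥) {χ : G → ℂ} (hχ : IsCharacter G χ)
    (h1 : sS u χ ≠ (p - 1) * χ 1) (g : G) (hg : χ g = χ 1) : g = 1 := by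
  have := hχ.charKer_normal
  refine Subgroup.mem_bot.1 (hO ▸ le_pPrimeCore (N := charKer χ) ((Nat.coprime_comm.1
    (hp.out.coprime_iff_not_dvd.2 fun e => h1 ?_))) (hχ.mem_charKer.2 hg))
  rw [sS_congr fun v hv _ => hχ.mem_charKer.1 (h.le_of_dvd e hv), sS_const, h.ord]

theorem fix_syl {v : G} (hv : v ∈ Z[u]) (h1 : v ≠ 1) {Q : Sylow p G} (h2 : v • Q = Q) : Q = h.sy := by
  have := le_sylow_of_le_normalizer Q h.pgrp (by
    rw [← zpowers_eq_of_mem h.ord hv h1, Subgroup.zpowers_le]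
    exact Sylow.smul_eq_iff_mem_normalizer.1 h2)
  exact (Sylow.ext (h.sy.3 Q.2 this))

open CfsgH8.Za in
theorem psl_of (hC : C[Z[u]] = Z[u]) (hN : (N[Z[u]]).index = p + 1) (he : 2 * e + 1 = p) (h1 : e ≠ 1)
    (hO : pPrimeCore p G = ⊥) (F : Type*) [Field F] [Fintype F] (hF : Fintype.card F = p) :
    Nonempty (G ≃* PSL2[F]) := by
  classical
  have := Fintype.ofFinite (Sylow p G)
  have c : Fintype.card (Sylow p G) = p + 1 := by rw [← hN, ← h.card_syl, Nat.card_eq_fintype_card]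
  have f0 : ∀ v ∈ Z[u], v • h.sy = h.sy := fun v hv =>
    Sylow.smul_eq_iff_mem_normalizer.2 (Subgroup.le_normalizer hv)
  have t1 : ∀ b c : Sylow p G, b ≠ h.sy → c ≠ h.sy → ∃ v ∈ Z[u], v • b = c := fun b d hb hd => by
    have : Function.Bijective fun v : Z[u] => (⟨v.1 • b, fun e => hb (by
        rw [← inv_smul_smul v.1 b, e, f0 _ (inv_mem v.2)])⟩ : {x // x ≠ h.sy}) :=
      (Nat.bijective_iff_injective_and_card _).2 ⟨fun v w e => by
        by_contra a
        refine hb (h.fix_syl (w⁻¹ * v).2 (by simpa [inv_mul_eq_one, eq_comm] using a) ?_)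
        rw [Subgroup.coe_mul, mul_smul, show v.1 • b = w.1 • b from congrArg Subtype.val e]; simp,
        by simp [h.ord, Nat.card_eq_fintype_card, c, Fintype.card_zpowers]⟩
    obtain ⟨v, hv⟩ := this.2 ⟨d, hd⟩
    exact ⟨v, v.2, congrArg Subtype.val hv⟩
  have t3 : ∀ (g : G) (a b c : Sylow p G), a ≠ b → b ≠ c → a ≠ c → g • a = a → g • b = b →
      g • c = c → g = 1 := fun g a b c h1 h2 h3 e1 e2 e3 => by
    obtain ⟨x, rfl⟩ := MulAction.exists_smul_eq G h.sy a
    obtain ⟨b, rfl⟩ := MulAction.surjective x b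
    obtain ⟨c, rfl⟩ := MulAction.surjective x c
    obtain ⟨g, rfl⟩ := (MulAut.conj x).surjective g
    simp only [MulAut.conj_apply, mul_smul, inv_smul_smul, ne_eq, smul_left_cancel_iff] at *
    obtain ⟨v, hv, rfl⟩ := t1 b c (Ne.symm h1) (Ne.symm h3)
    have v1 : v ≠ 1 := by rintro rfl; simp at h2
    have a : v⁻¹ * (g * v * g⁻¹) = 1 := of_not_not fun a => h1 (h.fix_syl (mul_mem (inv_mem hv)
      ((Subgroup.mem_normalizer_iff.1 (Sylow.smul_eq_iff_mem_normalizer.1 e1) v).1 hv)) a (by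
        rw [mul_smul, mul_smul, mul_smul, inv_smul_eq_iff.2 e2.symm, e3, inv_smul_smul])).symm
    rw [conj_eq_one_iff]
    exact of_not_not fun b => h1 (h.fix_syl (h.mem_of_comm hC hv v1 (by
      rw [← mul_inv_eq_iff_eq_mul, ← inv_mul_eq_one.1 a])) b e2).symm
  have zt : ZT G (Sylow p G) := ⟨fun g hg => by
      obtain ⟨a, b, c, h1, h2, h3⟩ := (Fintype.two_lt_card_iff (α := Sylow p G)).1
        (by have := hp.out.one_lt; omega)
      exact t3 g a b c h1 h3 h2 (hg a) (hg b) (hg c), fun a b c d h1 h2 => by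
      obtain ⟨x, rfl⟩ := MulAction.exists_smul_eq G h.sy a
      obtain ⟨z, rfl⟩ := MulAction.exists_smul_eq G h.sy c
      obtain ⟨v, hv, e⟩ := t1 (x⁻¹ • b) (z⁻¹ • d) (by rwa [Ne, inv_smul_eq_iff, eq_comm])
        (by rwa [Ne, inv_smul_eq_iff, eq_comm])
      exact ⟨z * v * x⁻¹, by simp [mul_smul, f0 v hv], by simp [mul_smul, e]⟩, t3⟩
  obtain ⟨b, hb⟩ := Fintype.exists_ne_of_one_lt_card (by have := hp.out.one_lt; omega) h.sy
  have zk := ZK.of_card zt hb.symm (K := Z[u]) f0 (by rw [h.card, c]) fun v a b c d => h.fix_syl a b d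
  have a := zk.card_G
  rw [h.card_G hC, hN, h.card, Nat.mul_right_inj (by omega), mul_comm,
    Nat.mul_right_inj hp.out.ne_zero] at a
  refine psl_of_half (isZas zt hb.symm (fun e => h1 (by rw [a, e, Subgroup.card_bot])) fun K hK => ?_)
    zk (by rw [← a, h.card]; omega) F (hF.trans h.card.symm)
  have := hK.normal
  have d := hK.card b
  rw [Nat.card_eq_fintype_card (α := Sylow p G), c] at d
  have f : K = ⊥ := le_bot_iff.1 (hO ▸ le_pPrimeCore (N := K) (by rw [d]; simp))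
  rw [f, Subgroup.card_bot] at d
  have := hp.out.pos; omega

theorem pos_of_perfect (hc : commutator G = ⊤) : (N[Z[u]]).index ≠ 1 := fun h1 =>
  h.ne_of_perfect hc (by
    rw [← h.idx, Subgroup.relIndex_eq_one]
    exact le_top.trans (hc.ge.trans (commutator_le_centralizer_of_isCyclic
      (Subgroup.index_eq_one.1 h1).ge)))

include hM in
theorem main (hc : commutator G = ⊤) (hO : pPrimeCore p G = ⊥) {n : ℕ}
    (hn : (N[Z[u]]).index = n * p + 1) (hF : ¬ BF p n) : C[Z[u]] = Z[u] ∧ 3 < p ∧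
    ((n = 1 ∧ ∀ (F : Type) [Field F] [Fintype F], Fintype.card F = p → Nonempty (G ≃* PSL2[F])) ∨
      ∃ (m : ℕ) (F : Type) (_ : Field F) (_ : Fintype F), Fintype.card F = 2 ^ m ∧ p = 2 ^ m + 1 ∧
        Nonempty (G ≃* PSL2[F]) ∧ Nonempty (G ≃* SL2[F])) := by
  classical
  have := Fintype.ofFinite G
  have he := h.ne_of_perfect hc
  have h0 : 0 < n := Nat.pos_of_ne_zero fun e => h.pos_of_perfect hc (by simpa [e] using hn)
  have hq := h.cardY
  have e0 := h.pos
  have t0 := h.pos'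
  have q0 := Nat.mul_pos e0 t0
  have q1 : e ≤ e * (exc y).card := Nat.le_mul_of_pos_right e t0
  have h2 : p ≠ 2 := by omega
  have a1 : ∀ χ ∈ X, χ ≠ irrOne G → ε χ = 1 ∧ charDegree χ.1 = n * p + 1 ∨ ε χ = -1 ∧
      (charDegree χ.1 + 1 = p ∨ e * (n * p + 1) ≤ charDegree χ.1) := fun χ a b => by
    have c := (h.dvdX a).trans (Nat.mul_dvd_mul_right (dvd_mul_right e (exc y).card) _)
    obtain ⟨l, hl⟩ := h.degX a
    have d := charDegree_pos χ.2
    rw [hn, ← hq] at c
    refine (h.sgn χ).imp (fun s => ⟨s, ?_⟩) fun s => ⟨s, ?_⟩ <;> rw [s] at hl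
    · rcases l with _ | l
      · simp at hl; omega
      exact hq ▸ (bf_pos (u := l) q0 c (by rw [hq]; zify; push_cast at hl; linarith)
        (hq ▸ hF)).resolve_left fun e => b (eq_one_of_deg hc e)
    · refine (bf_neg (v := l + 1) q0 c (by rw [hq]; zify; linarith) (hq ▸ hF)).imp (by omega) fun e => ?_
      rw [e, hq]; exact Nat.mul_le_mul_right _ q1
  obtain ⟨θ, hθ⟩ := Finset.card_pos.1 h.pos'
  have a2 : δ = 1 ∧ (exc y).card * charDegree θ.1 = n * p + 1 ∨ δ = -1 ∧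
      (charDegree θ.1 = e ∨ e * (n * p + 1) ≤ charDegree θ.1) := by
    have c := Nat.mul_dvd_mul_left (exc y).card (h.dvdY hθ)
    obtain ⟨l, hl⟩ := h.degY hθ
    have d := charDegree_pos θ.2
    rw [hn, ← hq, ← mul_assoc, mul_comm _ e] at c
    have hq' : (p : ℤ) = e * (exc y).card + 1 := by exact_mod_cast hq.symm
    refine h.sgn'.imp (fun s => ⟨s, ?_⟩) fun s => ⟨s, ?_⟩ <;> rw [s] at hl
    · obtain ⟨k, hk⟩ := Nat.exists_eq_add_one_of_ne_zero (n := l * (exc y).card)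
        (Nat.mul_pos (Nat.pos_of_ne_zero (by rintro rfl; simp at hl; omega)) t0).ne'
      exact hq ▸ (bf_pos (u := k) q0 c (by
        rw [hq]; zify at hk ⊢; linear_combination (exc y).card * hl + p * hk + hq') (hq ▸ hF)).resolve_left
        fun e => h.ne_oneY hθ (eq_one_of_deg hc (Nat.eq_one_of_mul_eq_one_left e))
    · refine (bf_neg (v := l * (exc y).card + 1) q0 c (by
        rw [hq]; zify; linear_combination (exc y).card * hl - hq') (hq ▸ hF)).imp (fun e => ?_) fun e => ?_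
      · exact Nat.eq_of_mul_eq_mul_left t0 (e.trans (mul_comm ..))
      · rw [hq, mul_comm _ (exc y).card, mul_assoc] at e
        rw [Nat.eq_of_mul_eq_mul_left t0 e]
  have r := h.rel_deg hθ
  rw [← Finset.add_sum_erase _ _ h.one, h.eps_one, deg_irrOne] at r
  have b1 : ∀ s ⊆ X.erase (irrOne G), ∑ χ ∈ s, ε χ * charDegree χ.1 ≤ s.card * (n * p + 1 : ℤ) :=
    fun s hs => by
      rw [← nsmul_eq_mul]
      refine Finset.sum_le_card_nsmul _ _ _ fun χ a => ?_
      rcases a1 χ (Finset.mem_of_mem_erase (hs a)) (Finset.ne_of_mem_erase (hs a)) with c | c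
      · simp [c.1, c.2]
      · rw [c.1]; have : (0 : ℤ) ≤ n * p := by positivity
        linarith [Int.natCast_nonneg (charDegree χ.1)]
  have b2 := Finset.card_erase_add_one h.one
  rw [h.cardX] at b2
  have np : (0 : ℤ) < n * p := by have := hp.out.pos; positivity
  have b3 : δ * charDegree θ.1 ≤ n * p + 1 := by
    rcases a2 with c | c
    · have := Nat.le_mul_of_pos_left (charDegree θ.1) t0
      rw [c.1, one_mul]; exact_mod_cast c.2 ▸ this
    · rw [c.1]; linarith [Int.natCast_nonneg (charDegree θ.1)]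
  have a3 : ∀ χ ∈ X, χ ≠ irrOne G → ε χ = 1 ∧ charDegree χ.1 = n * p + 1 ∨ ε χ = -1 ∧
      charDegree χ.1 + 1 = p := fun χ a b => (a1 χ a b).imp_right fun c => ⟨c.1, c.2.resolve_right
    fun d => by
      have f := Finset.mem_erase.2 ⟨b, a⟩
      have := b1 _ (Finset.erase_subset χ _)
      rw [← Finset.add_sum_erase _ _ f, c.1] at r
      rw [← b2, ← Finset.card_erase_add_one f] at d
      zify at d; rw [Nat.cast_one] at r; linarith⟩
  have a4 : δ = 1 ∧ (exc y).card * charDegree θ.1 = n * p + 1 ∨ δ = -1 ∧ charDegree θ.1 = e :=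
    a2.imp_right fun c => ⟨c.1, c.2.resolve_right fun d => by
      have := b1 _ subset_rfl
      rw [c.1, Nat.cast_one] at r; rw [← b2] at d; zify at d; linarith⟩
  have hp1 : (0 : ℝ) < p - 1 := by have : (1 : ℝ) < p := by exact_mod_cast hp.out.one_lt
                                   linarith
  have hf : ∀ χ : IrrCharacter G, (sS u χ.1).re ≤ 0 → ∀ g, ¬ p ∣ orderOf g → χ.1 g = χ.1 1 → g = 1 :=
    fun χ a g _ => h.faithful hO χ.2.isCharacter (fun e => by
      have : (0 : ℝ) < charDegree χ.1 := Nat.cast_pos.2 (charDegree_pos χ.2)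
      rw [e, ← coe_deg] at a
      exact absurd a (by simpa using mul_pos hp1 this)) g
  have hC : C[Z[u]] = Z[u] := by
    rcases a4 with c | c
    · obtain ⟨χ, a, b⟩ : ∃ χ ∈ X.erase (irrOne G), ε χ = -1 := by
        by_contra! d
        have := Finset.sum_nonneg (s := X.erase (irrOne G)) (f := fun χ => ε χ * charDegree χ.1)
          fun χ a => by rw [(h.sgn χ).resolve_right (d χ a)]; positivity
        rw [c.1] at r; omega
      have d := (a3 χ (Finset.mem_of_mem_erase a) (Finset.ne_of_mem_erase a)).resolve_left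
        fun e => by omega
      exact h.cent_eq_of_small (h.memX (Finset.mem_of_mem_erase a)) (hf χ (by
        simpa [h.sX (Finset.mem_of_mem_erase a), b] using hp.out.one_lt.le)) (.inl (by omega))
    · exact h.cent_eq_of_small (h.memY hθ) (hf θ (by simp [h.sY hθ, c.1])) (.inl (by omega))
  have E1 : n = 1 ∧ 2 * e + 1 = p → 3 < p ∧ n = 1 ∧ ∀ (F : Type) [Field F] [Fintype F],
      Fintype.card F = p → Nonempty (G ≃* PSL2[F]) := fun c =>
    ⟨by omega, c.1, fun F _ _ => h.psl_of hC (by simpa [c.1] using hn) c.2 he hO F⟩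
  refine ⟨hC, ?_⟩
  by_cases c : δ = -1 ∧ charDegree θ.1 = e ∧ 2 ≤ (exc y).card
  · exact (E1 (h.caseB hC he a3 hθ c.2.1 c.1 c.2.2 h0)).imp_right .inl
  rcases h.caseA hC hn h0 h2 a3 (fun ψ a => by
    rw [h.degY_eq a hθ]
    exact a4.imp_right fun d => by
      have : (exc y).card = 1 := by by_contra e; exact c ⟨d.1, d.2, by omega⟩
      rw [this] at hq; omega) with d | d
  · exact (E1 ⟨d.1, d.2.1⟩).imp_right .inl
  obtain ⟨m, F, _, _, f1, f2, f3⟩ := sl2_of_elem (G := G) (q := p - 1) (by omega)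
    (d.2.1 ▸ (((hp.out.even_sub_one h2).two_dvd).mul_left p).mul_right _)
    (fun N _ hN => le_bot_iff.1 (hO ▸ le_pPrimeCore (by
      obtain ⟨k, hk⟩ := hN.exists_card_eq
      exact hk ▸ ((Nat.coprime_primes Nat.prime_two hp.out).2 h2.symm).pow_left k)))
    fun v hv => ⟨by have := (d.2.2 v hv).1; omega, (d.2.2 v hv).2⟩
  exact ⟨by omega, .inr ⟨m, F, _, _, f1, by omega, f3⟩⟩

end PB

end CfsgH4
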