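import Cfsg.Agent.H4.Br3
import Cfsg.Agent.H8.SL2s

/-! Brauer's theorem: passage to the quotient by `O_{p'}`. -/

set_option autoImplicit false
open Cfsg MonoidAlgebra CfsgL0 CfsgH1 CfsgH4
open CfsgH3 hiding cj cj_cj
open scoped ComplexConjugate Pointwise

namespace CfsgH4

local notation "C[" Q "]" => Subgroup.centralizer (SetLike.coe (Q : Subgroup _))
local notation "N[" Q "]" => Subgroup.normalizer (SetLike.coe (Q : Subgroup _))
local notation "Z[" u "]" => Subgroup.zpowers u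
local notation "C1[" u "]" => Subgroup.centralizer (singleton u)
local notation "PSL2[" F "]" => Matrix.ProjectiveSpecialLinearGroup (Fin 2) F
local notation "SL2[" F "]" => Matrix.SpecialLinearGroup (Fin 2) F

/-- The conclusion of Brauer's theorem. -/
def BrC (G : Type*) [Group G] (p : ℕ) : Prop := 3 < p ∧
  ((2 * Nat.card G = p * (p ^ 2 - 1) ∧ ∀ (F : Type) [Field F] [Fintype F], Fintype.card F = p →
    Nonempty (G ≃* PSL2[F])) ∨ Nat.card G = p * (p - 1) * (p - 2) ∧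
    ∃ (m : ℕ) (F : Type) (_ : Field F) (_ : Fintype F), Fintype.card F = 2 ^ m ∧ p = 2 ^ m + 1 ∧
      Nonempty (G ≃* PSL2[F]) ∧ Nonempty (G ≃* SL2[F]))

variable {G : Type*} [Group G] [Finite G] {p : ℕ} [hp : Fact p.Prime] {u : G}

omit [Finite G] hp in
theorem BrC.of_equiv {H : Type*} [Group H] (h : BrC G p) (f : G ≃* H) : BrC H p :=
  ⟨h.1, h.2.imp (fun a => ⟨Nat.card_congr f.toEquiv ▸ a.1, fun F _ _ b => ⟨f.symm.trans (a.2 F b).some⟩⟩)
    fun ⟨a, m, F, _, _, b, c, ⟨d⟩, ⟨e⟩⟩ => ⟨Nat.card_congr f.toEquiv ▸ a, m, F, _, _, b, c,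
      ⟨f.symm.trans d⟩, ⟨f.symm.trans e⟩⟩⟩

omit [Finite G] in
theorem BrC.psl (h : BrC G p) : (∃ (F : Type) (_ : Field F) (_ : Fintype F), Fintype.card F = p ∧
    3 < p ∧ Nonempty (G ≃* PSL2[F])) ∨ (∃ (m : ℕ) (F : Type) (_ : Field F) (_ : Fintype F),
    Fintype.card F = 2 ^ m ∧ p = 2 ^ m + 1 ∧ 3 < p ∧ Nonempty (G ≃* PSL2[F])) :=
  h.2.imp (fun a => ⟨ZMod p, _, _, ZMod.card p, h.1, a.2 _ (ZMod.card p)⟩)
    fun ⟨_, m, F, _, _, b, c, d, _⟩ => ⟨m, F, _, _, b, c, h.1, d⟩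

omit [Finite G] in
theorem BrC.sl (h : BrC G p) : (∃ (F : Type) (_ : Field F) (_ : Fintype F), Fintype.card F = p ∧
    3 < p ∧ Nonempty (G ≃* PSL2[F])) ∨ (∃ (m : ℕ) (F : Type) (_ : Field F) (_ : Fintype F),
    Fintype.card F = 2 ^ m ∧ p = 2 ^ m + 1 ∧ 3 < p ∧ Nonempty (G ≃* SL2[F])) :=
  h.2.imp (fun a => ⟨ZMod p, _, _, ZMod.card p, h.1, a.2 _ (ZMod.card p)⟩)
    fun ⟨_, m, F, _, _, b, c, _, d⟩ => ⟨m, F, _, _, b, c, h.1, d⟩

omit [Finite G] hp in
theorem BrC.le (h : BrC G p) : p ^ 3 ≤ 3 * Nat.card G := by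
  obtain ⟨k, rfl⟩ := Nat.exists_eq_add_of_lt h.1
  rcases h.2 with a | a
  · have := a.1
    rw [show (3 + k + 1) ^ 2 - 1 = k ^ 2 + 8 * k + 15 from Nat.sub_eq_of_eq_add (by ring)] at this
    nlinarith [Nat.zero_le (k ^ 3), Nat.zero_le (k ^ 2)]
  · rw [a.1, show 3 + k + 1 - 1 = k + 3 by omega, show 3 + k + 1 - 2 = k + 2 by omega]
    nlinarith [Nat.zero_le (k ^ 3), Nat.zero_le (k ^ 2)]

theorem brc_of (hu : orderOf u = p) (hs : ¬ p ∣ (Z[u]).index) (hc : commutator G = ⊤)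
    (hO : pPrimeCore p G = ⊥) {n : ℕ} (hn : (N[Z[u]]).index = n * p + 1) (hF : ¬ BF p n) :
    C[Z[u]] = Z[u] ∧ BrC G p := by
  obtain ⟨M, _⟩ := exists_pmod p
  obtain ⟨e, X, y, ε, δ, h⟩ := exists_pb (M := M) hu hs
  obtain ⟨a, b, c⟩ := h.main hc hO hn hF
  refine ⟨a, b, c.imp (fun d => ⟨?_, d.2⟩) fun ⟨m, F, _, _, d, e, ⟨f⟩, g⟩ =>
    ⟨?_, m, F, _, _, d, e, ⟨f⟩, g⟩⟩
  · have := CfsgH8.card_PSL2 (F := ZMod p)
    rwa [ZMod.card, ← Nat.card_congr (d.2 _ (ZMod.card p)).some.toEquiv,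
      Nat.gcd_eq_left (hp.out.even_sub_one (by omega)).two_dvd] at this
  · have := CfsgH8.card_PSL2 (F := F)
    rcases m with _ | m; · omega
    rw [← Nat.card_congr f.toEquiv, d, Nat.coprime_iff_gcd_eq_one.1 ((Nat.coprime_primes
      Nat.prime_two Nat.prime_two).2 |> fun _ => Nat.coprime_two_left.2 (Nat.Even.sub_odd
        Nat.one_le_two_pow (even_two.pow_of_ne_zero m.succ_ne_zero) odd_one)), one_mul] at this
    obtain ⟨k, hk⟩ : ∃ k, 2 ^ (m + 1) = k + 1 := Nat.exists_eq_add_one.2 (by positivity)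
    rw [this, e, hk, show (k + 1) ^ 2 - 1 = k * (k + 2) from Nat.sub_eq_of_eq_add (by ring)]
    simp; ring

theorem exists_gen_sylow (P : Sylow p G) (hP : Nat.card P = p) :
    ∃ u : G, orderOf u = p ∧ ¬ p ∣ (Z[u]).index ∧ Z[u] = P := by
  obtain ⟨g, hg⟩ := exists_prime_orderOf_dvd_card' p hP.symm.dvd
  rw [← Subgroup.orderOf_coe] at hg
  have : Z[g.1] = P := Subgroup.eq_of_le_of_card_ge (Subgroup.zpowers_le.2 g.2)
    (by rw [hP, Nat.card_zpowers, hg])
  exact ⟨g, hg, by rw [this]; exact P.not_dvd_index, this⟩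

theorem quot_syl (hu : orderOf u = p) (hs : ¬ p ∣ (Z[u]).index) (H : Subgroup G) [H.Normal]
    (hH : ¬ p ∣ Nat.card H) : orderOf (u : G ⧸ H) = p ∧ ¬ p ∣ (Z[(u : G ⧸ H)]).index := by
  refine ⟨((Nat.dvd_prime hp.out).1 (hu ▸ orderOf_map_dvd (QuotientGroup.mk' H) u)).resolve_left
    fun e => hH ?_, fun e => hs (e.trans ?_)⟩
  · exact hu ▸ Subgroup.orderOf_dvd_natCard H ((QuotientGroup.eq_one_iff u).1 (orderOf_eq_one_iff.1 e))
  · rw [← QuotientGroup.mk'_apply, ← MonoidHom.map_zpowers]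
    exact Subgroup.index_map_dvd _ (QuotientGroup.mk'_surjective H)

theorem quot_index (hu : orderOf u = p) (H : Subgroup G) [H.Normal]
    (hH : ¬ p ∣ Nat.card H) : (N[Z[(u : G ⧸ H)]]).index ∣ (N[Z[u]]).index ∧
      ((N[Z[(u : G ⧸ H)]]).index = (N[Z[u]]).index → H ≤ C[Z[u]]) := by
  have a := Subgroup.index_comap_of_surjective N[Z[(u : G ⧸ H)]] (QuotientGroup.mk'_surjective H)
  have b : N[Z[u]] ≤ (N[Z[(u : G ⧸ H)]]).comap (QuotientGroup.mk' H) := by
    rw [← Subgroup.map_le_iff_le_comap, ← QuotientGroup.mk'_apply, ← MonoidHom.map_zpowers]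
    exact Subgroup.le_normalizer_map _
  refine ⟨a ▸ Subgroup.index_dvd_of_le b, fun c => le_centralizer_of_normalizes_of_inf_eq_bot
    (fun x hx => ?_) (by simp [Subgroup.normalizer_eq_top]) ?_⟩
  · rw [show N[Z[u]] = _ from Subgroup.eq_of_le_of_card_ge b (Nat.eq_of_mul_eq_mul_right
      (Nat.pos_of_ne_zero Subgroup.index_ne_zero_of_finite) (by
        rw [Subgroup.card_mul_index, a, c, Subgroup.card_mul_index])).le]
    simp [(QuotientGroup.eq_one_iff x).2 hx]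
  · exact Subgroup.inf_eq_bot_of_coprime (by
      rw [Nat.card_zpowers, hu]; exact (hp.out.coprime_iff_not_dvd.2 hH).symm)

/-- Brauer's theorem for a perfect group with a Sylow subgroup of prime order. -/
theorem brauer_quot (hu : orderOf u = p) (hs : ¬ p ∣ (Z[u]).index) (hc : commutator G = ⊤) {n : ℕ}
    (hn : (N[Z[u]]).index = n * p + 1) (hF : ¬ BF p n) :
    pPrimeCore p G ≤ C[Z[u]] ∧ BrC (G ⧸ pPrimeCore p G) p := by
  have hH := not_dvd_card_pPrimeCore (G := G) p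
  obtain ⟨a, b⟩ := quot_syl hu hs _ hH
  obtain ⟨⟨k, c⟩, d⟩ := quot_index hu _ hH
  obtain ⟨M, _⟩ := exists_pmod p
  obtain ⟨e, X, y, ε, δ, h⟩ := exists_pb (M := M) a b
  have hc' : commutator (G ⧸ pPrimeCore p G) = ⊤ := by
    have := congrArg (Subgroup.map (QuotientGroup.mk' (pPrimeCore p G))) hc
    rwa [map_commutator_eq, Subgroup.map_top_of_surjective _ (QuotientGroup.mk'_surjective _),
      MonoidHom.range_eq_top.2 (QuotientGroup.mk'_surjective _)] at this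
  obtain ⟨m, hm⟩ := h.exists_n
  have f : m ≠ 0 := fun e => h.pos_of_perfect hc' (by simpa [e] using hm)
  rw [hn, hm] at c d
  obtain ⟨l, rfl⟩ : ∃ l, k = l * p + 1 := by
    have : k ≡ 1 [MOD p] := by
      have := congrArg (· % p) c
      simp only [add_mul, mul_right_comm m p k, Nat.mul_add_mod_of_lt, one_mul, add_comm (_ * p),
        Nat.add_mul_mod_self_right] at this
      exact this.symm
    exact ⟨_, by rw [← Nat.div_add_mod' k p, this, Nat.mod_eq_of_lt hp.out.one_lt]⟩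
  obtain rfl : n = m + l + m * l * p := Nat.eq_of_mul_eq_mul_right hp.out.pos (by nlinarith)
  obtain rfl : l = 0 := by_contra fun g => hF ⟨l * (m + 1), m, by positivity, by omega, by ring⟩
  exact ⟨d (by simp), (brc_of a b hc' (pPrimeCore_quotient_pPrimeCore p) hm (by simpa using hF)).2⟩

theorem card_sylow_of_lt (hdvd : p ∣ Nat.card G) (hbig : Nat.card G < p ^ 3) (P : Sylow p G)
    (hP : ¬ (P : Subgroup G).Normal) : Nat.card P = p := by
  obtain ⟨k, hk⟩ := P.2.exists_card_eq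
  have a := P.1.card_mul_index
  have b : k ≠ 0 := fun e => P.ne_bot_of_dvd_card hdvd (Subgroup.card_eq_one.1 (by simpa [e] using hk))
  rw [hk, show k = 1 from by_contra fun c => hP ?_, pow_one]
  have d : p ^ 2 * P.1.index < p ^ 2 * p := lt_of_le_of_lt (Nat.mul_le_mul_right _
    (hk.symm ▸ Nat.pow_le_pow_right hp.out.pos (show 2 ≤ k by omega) : p ^ 2 ≤ Nat.card P)) (a ▸ hbig)
  have e := (Nat.le_of_dvd (Nat.pos_of_ne_zero Subgroup.index_ne_zero_of_finite)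
    P.card_dvd_index).trans_lt (Nat.lt_of_mul_lt_mul_left d)
  have f := card_sylow_modEq_one p G
  rw [Nat.ModEq, Nat.mod_eq_of_lt e, Nat.mod_eq_of_lt hp.out.one_lt, P.card_eq_index_normalizer,
    Subgroup.index_eq_one] at f
  exact Subgroup.normalizer_eq_top_iff.1 f

theorem brauer_small (hc : commutator G = ⊤) (hdvd : p ∣ Nat.card G) (hbig : Nat.card G < p ^ 3)
    (P : Sylow p G) (hP : ¬ (P : Subgroup G).Normal) : BrC (G ⧸ pPrimeCore p G) p := by
  obtain ⟨u, a, b, -⟩ := exists_gen_sylow P (card_sylow_of_lt hdvd hbig P hP)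
  obtain ⟨M, _⟩ := exists_pmod p
  obtain ⟨e, X, y, ε, δ, h⟩ := exists_pb (M := M) a b
  obtain ⟨n, hn⟩ := h.exists_n
  refine (brauer_quot a b hc hn fun hF => ?_).2
  have c := hF.le
  have d := (C[Z[u]]).card_mul_index
  have f : p ≤ Nat.card C[Z[u]] := h.card ▸ Subgroup.card_le_of_le zpowers_le_cent
  have g : 2 ≤ e := by have := h.pos; have := h.ne_of_perfect hc; omega
  rw [h.index_C, hn] at d
  have := Nat.mul_le_mul f (Nat.mul_le_mul_right (n * p + 1) g)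
  nlinarith [Nat.mul_le_mul_right (p * p) c]

end CfsgH4
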