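import Cfsg.Agent.H4.Cy9

/-! Transport of maximal Brauer pairs to local subgroups. -/

set_option autoImplicit false
open Cfsg MonoidAlgebra CfsgL0 CfsgH1 CfsgH4
open CfsgH3 hiding cj cj_cj

namespace CfsgH4

local notation "C[" Q "]" => Subgroup.centralizer (SetLike.coe (Q : Subgroup _))
local notation "N[" Q "]" => Subgroup.normalizer (SetLike.coe (Q : Subgroup _))

variable {G : Type*} [Group G] [Finite G] {M : Ideal AlgInt} {p : ℕ} [hM : PMod p M]
  [hp : Fact p.Prime] {P Z H : Subgroup G} {B : Set (IrrCharacter G)} {c : Set (IrrCharacter H)}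
  {f : (Res M)[H]}

theorem MaxPr.inc_of_ind (hm : MaxPr p (eB M c) (P.subgroupOf H) f) (hc : IsInducedBlock M H c B)
    (hP : IsDefectGroup p M B P) (hl : BrLoc p Z H) (h1 : Z ≤ P) (h2 : P ≤ H) :
    MaxPr p (eB M B) P (inc H.subtype f) := by
  have h3 := Subgroup.map_subgroupOf_eq_of_le h2
  have hB := hc.2.1
  have h4 := (pr_inc_iff (p := p) (f := f) H.subtype_injective (by
    rw [h3, Subgroup.range_subtype]; exact (cent_anti h1).trans hl.cent_le)).2 hm.pr
  have h5 := congrArg (inc H.subtype) hm.mul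
  rw [map_mul, ← br_inc H.subtype_injective, h3] at h5
  rw [h3] at h4
  refine ⟨hB.isBlk, h4, ?_, hB.isDefectGroup_iff.1 hP⟩
  rw [← h5, ← mul_assoc, br_mul_br_of_br_mul h4.pgrp h1 (h2.trans hl.le_norm)
    (hB.isBlk.inv.mono le_top) ((mem_ZA.1 (ie_mem_ZA H c)).2.mono h2)
    ((hl.isInducedBlock_iff hc.1 hB).1 hc)]

omit hp in
theorem card_autE_inc (h1 : N[P] ≤ H) :
    Nat.card (autE P (inc H.subtype f)) = Nat.card (autE (P.subgroupOf H) f) := by
  have h3 := Subgroup.map_subgroupOf_eq_of_le (Subgroup.le_normalizer.trans h1)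
  have h4 := map_cent_of_le H.subtype_injective (R := P.subgroupOf H) (by
    rw [h3, Subgroup.range_subtype]; exact (Subgroup.centralizer_le_normalizer _).trans h1)
  rw [card_autE, card_autE, ← Subgroup.relIndex_map_map_of_injective _ _ H.subtype_injective, h4, h3]
  congr 1
  ext g
  refine ⟨fun h => ⟨⟨g, h1 h.1⟩, (map_mem_stab_iff H.subtype_injective).1 (by rwa [h3]), rfl⟩, ?_⟩
  rintro ⟨x, hx, rfl⟩
  simpa only [h3] using (map_mem_stab_iff H.subtype_injective).2 hx

end CfsgH4
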