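import Cfsg.Agent.H4.Cy1

/-! The block algebra of a group with a normal nilpotent block with cyclic defect group. -/

set_option autoImplicit false
open Cfsg MonoidAlgebra CfsgL0 CfsgH1 CfsgH4 Module
open CfsgH3 hiding cj cj_cj
open scoped ComplexConjugate Pointwise

namespace CfsgH4

variable {G K : Type*} [Group G] [Finite G] [Group K] [Finite K]
  {M : Ideal AlgInt} {p : ℕ} [hM : PMod p M] [hp : Fact p.Prime]

section Nilp
omit hp
include hM

theorem eigen_mem_Loc {V : Type*} [AddCommGroup V] [Module ℂ V] (ρ : ℂ[G] →ₐ[ℂ] End ℂ V) {c : ℂ[G]}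
    (hc : c ∈ LG G M) {z : ℂ} {v : V} (h : (ρ c).HasEigenvector z v) : z ∈ Loc M := by
  obtain ⟨c, rfl⟩ := hc
  obtain ⟨f, hf, h1⟩ := IsIntegral.of_finite (Loc M) c
  refine mem_Loc_of_integral ⟨f, hf, ?_⟩
  have h2 := End.aeval_apply_of_hasEigenvector (p := f.map (algebraMap (Loc M) ℂ)) h
  rw [Polynomial.aeval_algHom_apply, ← Polynomial.map_aeval_eq_aeval_map
    (mapRingHom_comp_algebraMap (Loc M).subtype).symm, Polynomial.aeval_def, h1, map_zero, map_zero,
    Polynomial.eval_map] at h2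
  exact (smul_eq_zero.1 h2.symm).resolve_right h.2

theorem ev_InP_of_nilpotent {χ : G → ℂ} (hχ : IsCharacter G χ) {c : ℂ[G]} (hc : c ∈ LG G M)
    (h : IsNilpotent (redG M c)) : MemLocalIdeal M (ev χ c) := by
  obtain ⟨n, ρ, rfl⟩ := hχ
  obtain ⟨N, hN⟩ := h
  have := Fintype.ofFinite G
  rw [← redG_pow hc, redG_eq_zero_iff (pow_mem hc N)] at hN
  rw [ev_character, End.trace_eq_sum_roots_charpoly_of_splits (IsAlgClosed.splits _)]
  refine Multiset.sum_induction _ _ (fun _ _ => InP.add) InP.zero fun z hz => ?_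
  obtain ⟨v, hv⟩ := ((End.hasEigenvalue_iff_isRoot_charpoly _ _).2
    (Polynomial.isRoot_of_mem_roots hz)).exists_hasEigenvector
  have h1 := eigen_mem_Loc _ hc hv
  have h2 : ρ.asAlgebraHom (c ^ N) v = z ^ N • v := by rw [map_pow, hv.pow_apply]
  have h3 : MemLocalIdeal M (z ^ N) := by
    by_cases h0 : c ^ N = 0
    · rw [h0, map_zero, LinearMap.zero_apply, eq_comm, smul_eq_zero, or_iff_left hv.2] at h2
      exact h2 ▸ InP.zero
    obtain ⟨j, -, h4, h5⟩ := exists_dvd_all Finset.univ (c ^ N).coeff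
      (fun g _ => LG.coeff (pow_mem hc N) g) (by
        by_contra h
        push Not at h
        exact h0 (ga_ext fun g => h g (Finset.mem_univ g)))
    have h6 := eigen_mem_Loc (M := M) ρ.asAlgebraHom (c := ((c ^ N).coeff j)⁻¹ • c ^ N)
      (mem_LG.2 fun g => by simpa [div_eq_inv_mul] using h5 g (Finset.mem_univ g))
      (z := ((c ^ N).coeff j)⁻¹ * z ^ N) (v := v) ⟨End.mem_eigenspace_iff.2 (by
        rw [map_smul, LinearMap.smul_apply, h2, smul_smul]), hv.2⟩
    simpa [h4] using InP.mul_right (hN j) h6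
  rw [← red_eq_zero_iff h1, ← red_eq_zero_iff (pow_mem h1 N), red_pow h1] at *
  exact pow_eq_zero_of_le le_rfl h3 |> IsNilpotent.mk _ _ |>.eq_zero

end Nilp

omit [Finite G] in
theorem geom_single {F : Type*} [Field F] [CharP F p] (u : G) :
    ∑ j ∈ Finset.range p, (single u 1 : F[G]) ^ j = (single u 1 - 1) ^ (p - 1) := by
  simpa using (sub_one_pow_eq_geom (k := F) (single u 1 : F[G]) 1).symm

theorem exists_norm_of_fixed {F : Type*} [Field F] {u : G} (hu : orderOf u = p) {L : Subgroup G}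
    {y : F[G]} (hy : Supp L y) (h : single u 1 * y = y) :
    ∃ z, Supp L z ∧ y = (∑ j ∈ Finset.range p, (single u 1 : F[G]) ^ j) * z := by
  have := Fintype.ofFinite G
  obtain ⟨z, h1, h2⟩ := exists_sum_orbit (p := p) (σ := (u * ·)) (by
      funext g; simp [← hu]) (AddMonoidHom.mulLeft (single u (1 : F)))
    (ZA F L ⊥).toSubring.toAddSubgroup (fun g => single g (y.coeff g)) Finset.univ fun g _ =>
      ⟨Finset.mem_univ _, fun h3 => hp.out.one_lt.ne' (by
        rw [← hu, mul_eq_right.1 h3, orderOf_one]), by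
          conv_lhs => rw [← h]
          simp [single_mul_single], mem_ZA.2 ⟨by
            by_cases h3 : y.coeff g = 0
            · rw [h3, single_zero]; exact Supp.zero
            · exact Supp.single (hy.mem h3) _, fun x hx => by
              rw [Subgroup.mem_bot.1 hx, cnj_one]⟩⟩
  refine ⟨z, (mem_ZA.1 h1).1, (eq_sum_single y).trans (h2.trans ?_)⟩
  rw [Finset.sum_mul]
  exact Finset.sum_congr rfl fun j _ => by simp [mul_left_iterate]

variable {a : ℕ} {β : Set (IrrCharacter K)} {u : K} {x : (Res M)[K]} {θ : IrrCharacter K}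

namespace CD
variable (h : CD M p a β u x)
include h

theorem mul' : eB M β * x = x := ((inv_eB β).commute x).eq ▸ h.mul

theorem pow_eq_zero (hu : orderOf u = p) : x ^ p ^ (a + 1) = 0 := by
  rw [pow_succ, pow_mul, h.pow, ((inv_eB β).commute _).mul_pow]
  have := sub_one_pow_char (k := Res M) (single u 1 : (Res M)[K]) 1
  rw [pow_one, single_pow, one_pow, show u ^ p = 1 from hu ▸ pow_orderOf_eq_one u, ← one_def,
    sub_self] at this
  rw [this, zero_mul]

theorem xfree (φ : K →* G) {U : Submodule (Res M) (Res M)[G]} (h1 : ∀ y ∈ U, inc φ x * y ∈ U)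
    (h2 : ∀ y ∈ U, inc φ (eB M β) * y = y) (h3 : ∀ y ∈ U, single (φ u) 1 * y = y →
      ∃ z ∈ U, (∑ j ∈ Finset.range p, (single (φ u) 1 : (Res M)[G]) ^ j) * z = y) :
    XFree (LinearMap.mulLeft (Res M) (inc φ x)) U (p ^ (a + 1)) := by
  refine chouinard h1 (r := p ^ a) (pow_pos hp.out.pos a)
    (by rw [pow_succ']; exact Nat.mul_le_mul_right _ hp.out.two_le) fun y hy h4 => ?_
  rw [LinearMap.pow_mulLeft, LinearMap.mulLeft_apply, ← map_pow, h.pow, map_mul, mul_assoc, h2 y hy,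
    map_sub, inc_single, map_one, sub_mul, one_mul, sub_eq_zero] at h4
  obtain ⟨z, h5, rfl⟩ := h3 y hy h4
  refine ⟨z, h5, ?_⟩
  obtain ⟨m, hm⟩ : ∃ m, p - 1 = m + 1 := ⟨p - 2, by have := hp.out.two_le; omega⟩
  rw [LinearMap.pow_mulLeft, LinearMap.mulLeft_apply, ← map_pow, pow_succ, ← Nat.mul_sub_one,
    pow_mul, h.pow, ((inv_eB β).commute _).mul_pow, geom_single, hm,
    IsIdempotentElem.pow_succ_eq m (eB_idem h.blk), map_mul, mul_assoc, h2 z h5, map_pow, map_sub,
    inc_single, map_one]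

end CD

theorem exists_twist (κ : K →* K) (hκ : Function.Bijective κ) (h : ∀ c, θ.1 (κ c) = θ.1 c) :
    ∃ τ τ' : ℂ[K], (∀ c, single (κ c) 1 * τ = τ * single c 1) ∧ τ * fB {θ} = τ ∧
      τ * τ' = fB {θ} := by
  classical
  have := Fintype.ofFinite K
  have h0 : (Nat.card K : ℂ) ≠ 0 := Nat.cast_ne_zero.2 Nat.card_pos.ne'
  obtain ⟨y, hy⟩ : ∃ y, (∑ c, two (single (κ c) 1) (fB {θ} * single c⁻¹ 1)) y ≠ 0 := by
    by_contra h1
    push Not at h1
    have h2 := congrArg (LinearMap.trace ℂ _) (LinearMap.ext (g := 0) h1)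
    have h3 := θ.2.classInner_self
    rw [classInner, inv_mul_eq_one₀ (by simpa using h0)] at h3
    rw [map_sum, map_zero, Finset.sum_congr rfl fun c _ => by
      rw [trace_two, Finset.sum_eq_single θ (fun χ _ hχ => by
        rw [ev_fB_mul_of_notMem (by exact hχ), mul_zero]) (by simp),
        ev_fB_mul_of_mem (Set.mem_singleton θ), ev_single, ev_single, one_mul, one_mul, h,
        θ.2.isCharacter.apply_inv], ← h3] at h2
    exact h0 (by simpa using h2)
  simp only [LinearMap.sum_apply, two_apply] at hy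
  set τ := ∑ c, single (κ c) 1 * (y * (fB {θ} * single c⁻¹ 1))
  have h1 : ∀ c, single (κ c) 1 * τ = τ * single c 1 := fun c => by
    rw [Finset.mul_sum, Finset.sum_mul, ← Equiv.sum_comp (Equiv.mulLeft c)
      fun d => single (κ d) 1 * (y * (fB {θ} * single d⁻¹ 1)) * single c 1]
    refine Finset.sum_congr rfl fun d _ => ?_
    rw [Equiv.coe_mulLeft, ← mul_assoc, single_mul_single, mul_assoc, mul_assoc, mul_assoc,
      single_mul_single]
    simp
  have h2 : τ * fB {θ} = τ := by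
    rw [Finset.sum_mul]
    refine Finset.sum_congr rfl fun d _ => ?_
    simp only [mul_assoc, ((inv_fB {θ}).commute (single _ _)).eq, ← mul_assoc (fB {θ}), fB_idem]
  clear_value τ
  obtain ⟨c, hc⟩ : ∃ c, τ.coeff c ≠ 0 := by
    by_contra h3
    push Not at h3
    exact hy (ga_ext h3)
  have h3 : τ * ∑ d, single (d * c⁻¹ * (κ d)⁻¹) 1 = ∑ d, cnj d (τ * single c⁻¹ 1) := by
    rw [Finset.mul_sum, ← hκ.sum_comp fun d => cnj d (τ * single c⁻¹ 1)]
    refine Finset.sum_congr rfl fun d _ => ?_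
    rw [cnj_eq_mul, ← mul_assoc, h1]
    simp only [mul_assoc, single_mul_single, one_mul]
  have h4 : Inv ⊤ (∑ d, cnj d (τ * single c⁻¹ 1)) := fun g _ => by
    simp only [map_sum, cnj_cnj]
    exact Equiv.sum_comp (Equiv.mulLeft g) fun d => cnj d (τ * single c⁻¹ 1)
  have h5 := central_mul_fB h4 θ
  rw [← h3, mul_assoc, ((inv_fB {θ}).commute _).eq, ← mul_assoc, h2] at h5
  refine ⟨τ, (om θ.1 (τ * ∑ d, single (d * c⁻¹ * (κ d)⁻¹) 1))⁻¹ •
    ∑ d, single (d * c⁻¹ * (κ d)⁻¹) 1, h1, h2, ?_⟩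
  rw [mul_smul_comm, inv_smul_eq_iff₀ fun h6 => ?_]
  · exact h5
  rw [h6, zero_smul, h3] at h5
  have h7 := congrArg (·.coeff 1) h5
  simp only [coeff_sum, Finsupp.coe_finset_sum, Finset.sum_apply, coeff_cnj] at h7
  simp [hc] at h7

variable (M p) in
/-- A nilpotent block with cyclic defect group of a normal subgroup with cyclic quotient. -/
structure CE (a : ℕ) (β : Set (IrrCharacter K)) (u : K) (x : (Res M)[K]) (θ : IrrCharacter K)
    (φ : K →* G) : Prop extends CD M p a β u x where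
  ord : orderOf u = p
  hθ : θ ∈ β
  inj : Function.Injective φ
  normal : φ.range.Normal
  index : ¬ p ∣ φ.range.index
  cyc : ∃ t, ∀ g, ∃ (j : ℕ) (c : K), g = t ^ j * φ c
  invθ : Inv ⊤ (inc φ (fB {θ}))
  invβ : Inv ⊤ (inc φ (eB M β))

namespace CE
variable {φ : K →* G} (h : CE M p a β u x θ φ)
include h

theorem inv_w : Inv ⊤ (inc φ x ^ (p ^ (a + 1) - 1)) := by
  rw [← map_pow, ← h.red θ h.hθ, ← redG_inc h.inj, map_smul]
  exact (h.invθ.smul _).redG

theorem mul_b : inc φ (eB M β) * inc φ x = inc φ x := by rw [← map_mul, h.toCD.mul']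

theorem b_idem : inc φ (eB M β) * inc φ (eB M β) = inc φ (eB M β) := by
  rw [← map_mul, eB_idem h.blk]

theorem w_mul : inc φ x ^ (p ^ (a + 1) - 1) * inc φ x = 0 := by
  rw [← pow_succ, Nat.sub_add_cancel (pow_pos hp.out.pos _), ← map_pow, h.toCD.pow_eq_zero h.ord,
    map_zero]

theorem free {L : Subgroup G} (hL : φ.range ≤ L) {y : (Res M)[G]} (h1 : Supp L y)
    (h2 : inc φ (eB M β) * y = y) : (inc φ x * y = 0 → ∃ z, inc φ (eB M β) * z = z ∧
      inc φ x ^ (p ^ (a + 1) - 1) * z = y) ∧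
      (inc φ x ^ (p ^ (a + 1) - 1) * y = 0 → ∃ z, Supp L z ∧ inc φ x * z = y) := by
  let U : Submodule (Res M) (Res M)[G] :=
    { carrier := {y | Supp L y ∧ inc φ (eB M β) * y = y}
      add_mem' := fun h1 h2 => ⟨h1.1.add h2.1, by rw [mul_add, h1.2, h2.2]⟩
      zero_mem' := ⟨Supp.zero, mul_zero _⟩
      smul_mem' := fun c y hy => ⟨hy.1.smul c, by rw [mul_smul_comm, hy.2]⟩ }
  have h3 : ∀ y ∈ U, inc φ x * y ∈ U := fun y hy =>
    ⟨((supp_inc φ x).mono hL).mul hy.1, by rw [← mul_assoc, h.mul_b]⟩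
  have h4 := h.toCD.xfree φ h3 (fun y hy => hy.2) fun y hy h4 => by
    obtain ⟨z, h5, h6⟩ := exists_norm_of_fixed ((orderOf_injective φ h.inj u).trans h.ord) hy.1 h4
    refine ⟨inc φ (eB M β) * z, ⟨((supp_inc φ _).mono hL).mul h5, by rw [← mul_assoc, h.b_idem]⟩, ?_⟩
    rw [← mul_assoc, (h.invβ.commute _).eq, mul_assoc, ← h6, hy.2]
  refine ⟨fun h5 => ?_, fun h5 => ?_⟩
  · obtain ⟨z, h6, h7⟩ := h4 y ⟨h1, h2⟩ h5
    exact ⟨z, h6.2, by rwa [LinearMap.pow_mulLeft] at h7⟩
  · obtain ⟨z, h6, h7⟩ := h4.exists_of_pow h3 (fun y _ => by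
      rw [LinearMap.pow_mulLeft, LinearMap.mulLeft_apply, LinearMap.mulLeft_apply, ← mul_assoc,
        h.w_mul, zero_mul]) (y := y) ⟨h1, h2⟩ (by rwa [LinearMap.pow_mulLeft])
    exact ⟨z, h6.1, h7⟩

theorem exists_cnj (g : G) : ∃ z, cnj g (inc φ x) = inc φ x * z ∧ inc φ x * z = z * inc φ x := by
  obtain ⟨z, h1, h2⟩ := (h.free le_rfl (y := cnj g (inc φ x))
    (((supp_inc φ x).cnj g).mono (cj_le_iff.2 fun y hy => h.normal.conj_mem y hy g)) (by
      rw [← h.invβ g trivial, ← map_mul, h.mul_b])).2 (by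
      rw [← h.inv_w g trivial, ← map_mul, h.w_mul, map_zero])
  exact ⟨z, h2.symm, (commute_of_supp_inv h1 (φ.range_eq_map ▸ h.inv.inc φ)).eq.symm⟩

theorem exists_left (c : (Res M)[G]) : ∃ c', c * inc φ x = inc φ x * c' := by
  induction c using MonoidAlgebra.induction_linear with
  | zero => exact ⟨0, by simp⟩
  | add a c ha hc => exact ⟨_, by rw [add_mul, ha.choose_spec, hc.choose_spec, ← mul_add]⟩
  | single g r =>
    obtain ⟨z, h1, -⟩ := h.exists_cnj g
    refine ⟨r • (z * single g 1), ?_⟩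
    rw [mul_smul_comm, ← mul_assoc, ← h1, ← single_mul_eq_cnj, ← smul_mul_assoc]
    simp

theorem exists_right (c : (Res M)[G]) : ∃ c', inc φ x * c = c' * inc φ x := by
  induction c using MonoidAlgebra.induction_linear with
  | zero => exact ⟨0, by simp⟩
  | add a c ha hc => exact ⟨_, by rw [mul_add, ha.choose_spec, hc.choose_spec, ← add_mul]⟩
  | single g r =>
    obtain ⟨z, h1, h2⟩ := h.exists_cnj g⁻¹
    refine ⟨r • (single g 1 * z), ?_⟩
    rw [smul_mul_assoc, mul_assoc, ← h2, ← h1, single_mul_eq_cnj, cnj_cnj_inv, ← mul_smul_comm]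
    simp

theorem eq_fB : inc φ (fB {θ}) = fB {ξ | om ξ.1 (inc φ (fB {θ})) = 1} :=
  idem_eq_fB h.invθ (by rw [← map_mul, fB_idem])

theorem unit' {ξ : IrrCharacter G} (hξ : om ξ.1 (inc φ (fB {θ})) = 1) :
    ((p ^ (a + 1) : ℕ) : ℂ) * (ξ.1 1 / Nat.card G) ∈ Loc M := by
  classical
  have := Fintype.ofFinite K
  obtain ⟨m, hm⟩ := (ξ.2.isCharacter.comp φ).exists_nat_classInner θ.2.isCharacter
  have h1 := ev_eq_om_mul ξ.2 (inc φ (fB {θ}))
  rw [hξ, one_mul, ev_inc, ev_fB_class] at h1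
  simp only [Set.mem_singleton_iff, Finset.sum_ite_eq', Finset.mem_univ, if_true, hm] at h1
  have h2 : Nat.card G = Nat.card K * φ.range.index := by
    rw [← φ.range.card_mul_index, Nat.card_congr (MonoidHom.ofInjective h.inj).toEquiv]
  convert mul_mem (mul_mem (h.unit θ h.hθ) (natCast_mem _ m)) (inv_natCast_mem_Loc h.index) using 1
  rw [← h1, h2]
  push_cast
  ring

theorem smul_mem {ξ : IrrCharacter G} (hξ : om ξ.1 (inc φ (fB {θ})) = 1) :
    ((p ^ (a + 1) : ℕ) : ℂ) • fB {ξ} ∈ LG G M := mem_LG.2 fun g => by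
  rw [coeff_smul, Finsupp.smul_apply, coeff_fB_single, smul_eq_mul, ← mul_assoc]
  exact mul_mem (h.unit' hξ) (irr_mem_Loc _ _)

theorem w_eq : inc φ x ^ (p ^ (a + 1) - 1) =
    redG M (((p ^ (a + 1) : ℕ) : ℂ) • inc φ (fB {θ})) := by
  rw [← map_pow, ← h.red θ h.hθ, ← redG_inc h.inj, map_smul]

theorem jac (c : (Res M)[G]) (hc : c ∈ Ring.jacobson (Res M)[G]) :
    ∃ c', c * inc φ (eB M β) = inc φ x * c' := by
  classical
  have h1 : ∀ c, IsNilpotent c → (inc φ x ^ (p ^ (a + 1) - 1) * c).coeff 1 = 0 := fun c hc => by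
    rw [h.w_eq, ← redG_liftG c, ← redG_mul (by simpa only [map_smul] using inc_mem_LG φ (h.mem θ h.hθ))
      (liftG_mem c), coeff_redG, smul_mul_assoc, coeff_smul, Finsupp.smul_apply, coeff_eq_sum_ev,
      smul_eq_mul, Finset.mul_sum, Finset.mul_sum]
    refine red_eq_zero (InP.sum _ _ fun ξ _ => ?_)
    rw [h.eq_fB, inv_one, ← one_def, mul_one]
    by_cases h1 : om ξ.1 (inc φ (fB {θ})) = 1
    · rw [ev_fB_mul_of_mem (by exact h1), ← mul_assoc _ (ξ.1 1), ← div_eq_inv_mul, ← mul_assoc]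
      exact InP.mul_left (h.unit' h1) (ev_InP_of_nilpotent ξ.2.isCharacter (liftG_mem c)
        (by rwa [redG_liftG]))
    · rw [ev_fB_mul_of_notMem (by exact h1), mul_zero, mul_zero, mul_zero]
      exact InP.zero
  have := IsArtinianRing.of_finite (Res M) (Res M)[G]
  obtain ⟨N, hN⟩ := IsSemiprimaryRing.isNilpotent (R := (Res M)[G])
  have h2 : inc φ x ^ (p ^ (a + 1) - 1) * c = 0 := ga_ext fun g => by
    have h2 := h1 (c * single g⁻¹ 1) ⟨N, by
      simpa [hN] using Ideal.pow_mem_pow (Ideal.mul_mem_right (single g⁻¹ 1) _ hc) N⟩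
    simpa [← mul_assoc] using h2
  obtain ⟨z, -, h3⟩ := (h.free le_top (Supp.top _) (y := inc φ (eB M β) * c)
    (by rw [← mul_assoc, h.b_idem])).2 (by
      rw [← mul_assoc, (h.invβ.commute _).eq, mul_assoc, h2, mul_zero])
  exact ⟨z, by rw [h3, (h.invβ.commute _).eq]⟩

theorem finrank_le {ξ : IrrCharacter G} (hξ : om ξ.1 (inc φ (fB {θ})) = 1) :
    finrank ℂ (LinearMap.range (two (fB {ξ}) 1)) ≤ charDegree θ.1 * charDegree θ.1 := by
  classical
  obtain ⟨t, ht⟩ := h.cyc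
  have h0 : ∀ (s : G) (c : K), s⁻¹ * φ c * s ∈ φ.range := fun s c =>
    h.normal.conj_mem' _ ⟨c, rfl⟩ s
  let κ : K →* K := (MonoidHom.ofInjective h.inj).symm.toMonoidHom.comp
    (((MulAut.conj t⁻¹).toMonoidHom.comp φ).codRestrict _ fun c => by simpa using h0 t c)
  have h1 : ∀ c, φ (κ c) = t⁻¹ * φ c * t := fun c =>
    (MonoidHom.apply_ofInjective_symm h.inj _).trans (by simp)
  obtain ⟨τ, τ', h2, h3, h4⟩ := exists_twist (θ := θ) κ (Finite.injective_iff_bijective.1
    fun c d h2 => h.inj (by simpa [h1] using congrArg φ h2)) fun c => by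
      have h2 := h.invθ.coeff_conj' (Subgroup.mem_top t) (φ c⁻¹)
      rw [← h1, coeff_inc h.inj, coeff_inc h.inj, coeff_fB_single, coeff_fB_single] at h2
      simpa [θ.2.apply_one_ne_zero, Nat.card_pos.ne'] using h2
  have h5 : ∀ c, inc φ c * (single t 1 * inc φ τ) = single t 1 * inc φ τ * inc φ c := fun c => by
    induction c using MonoidAlgebra.induction_linear with
    | zero => simp
    | add a c ha hc => rw [map_add, add_mul, mul_add, ha, hc]
    | single c r =>
      rw [show single c r = r • single c (1 : ℂ) by simp, map_smul, smul_mul_assoc, mul_smul_comm,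
        mul_assoc, ← map_mul, ← h2, map_mul, inc_single, inc_single, h1, ← mul_assoc, ← mul_assoc,
        single_mul_single, single_mul_single, mul_assoc t⁻¹, mul_inv_cancel_left]
  have h6 : single t 1 * inc φ (fB {θ}) = single t 1 * inc φ τ * inc φ τ' := by
    rw [mul_assoc, ← map_mul, h4]
  have h7 : single t 1 * inc φ τ * inc φ (fB {θ}) = single t 1 * inc φ τ := by
    rw [mul_assoc, ← map_mul, h3]
  generalize single t 1 * inc φ τ = z at h5 h6 h7
  have h8 : single t 1 * z = z * single t 1 := by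
    rw [← h7, ← h5, ← mul_assoc, h6, mul_assoc, h5, h5, mul_assoc z,
      ← (h.invθ.commute _).eq, h6]
  have h9 : Inv ⊤ z := fun g _ => by
    obtain ⟨j, c, rfl⟩ := ht g
    have h9 : single (t ^ j * φ c) 1 * z = z * single (t ^ j * φ c) 1 := by
      rw [← mul_one (1 : ℂ), ← single_mul_single, ← inc_single, mul_assoc, h5, ← mul_assoc,
        ← one_pow j, ← single_pow, (Commute.pow_left h8 j).eq, mul_assoc]
    rw [cnj_eq_mul, h9, mul_assoc, single_mul_single, mul_inv_cancel, mul_one, ← one_def, mul_one]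
  have h10 : fB {ξ} * inc φ (fB {θ}) = fB {ξ} := by
    rw [h.eq_fB, fB_mul_fB, Set.inter_eq_left.2 (by simpa using hξ)]
  have h11 : ∀ c, fB {ξ} * (single t 1 * c) = om ξ.1 z • (inc φ τ' * (fB {ξ} * c)) := fun c => by
    rw [← h10, mul_assoc, ← mul_assoc _ (single t 1), ← (h.invθ.commute _).eq, h6, ← mul_assoc,
      ← mul_assoc, (h9.commute _).eq, central_mul_fB h9, h10, smul_mul_assoc, smul_mul_assoc,
      ← ((inv_fB _).commute _).eq, mul_assoc]
  have h12 : ∀ j : ℕ, ∀ c, ∃ d, fB {ξ} * single (t ^ j * φ c) 1 = fB {ξ} * inc φ d := fun j c => by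
    induction j with
    | zero => exact ⟨single c 1, by simp [inc_single]⟩
    | succ j ih =>
      obtain ⟨d, hd⟩ := ih
      refine ⟨om ξ.1 z • (τ' * d), ?_⟩
      rw [pow_succ', mul_assoc, ← mul_one (1 : ℂ), ← single_mul_single, h11, hd, map_smul, map_mul,
        mul_smul_comm, ← mul_assoc, ((inv_fB _).commute _).eq, mul_assoc]
  have h13 : LinearMap.range (two (fB {ξ}) 1) ≤ (LinearMap.range (two (fB {θ}) 1)).map
      ((LinearMap.mulLeft ℂ (fB {ξ})).comp (inc φ).toLinearMap) := by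
    rintro _ ⟨c, rfl⟩
    induction c using MonoidAlgebra.induction_linear with
    | zero => simp
    | add a c ha hc => rw [map_add]; exact add_mem ha hc
    | single g r =>
      obtain ⟨j, c, rfl⟩ := ht g
      obtain ⟨d, hd⟩ := h12 j c
      refine ⟨_, ⟨r • d, rfl⟩, ?_⟩
      simp only [two_apply, mul_one, LinearMap.comp_apply, AlgHom.toLinearMap_apply, map_mul,
        LinearMap.mulLeft_apply, ← mul_assoc, h10, map_smul, mul_smul_comm, ← hd]
      rw [← mul_smul_comm]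
      simp
  refine (Submodule.finrank_mono h13).trans ((Submodule.finrank_map_le _ _).trans_eq ?_)
  rw [← Nat.cast_inj (R := ℂ), finrank_range_two (fB_idem _) (mul_one _), Finset.sum_eq_single θ
    (fun χ _ hχ => by rw [← mul_one (fB _), ev_fB_mul_of_notMem (by exact hχ), zero_mul]) (by simp),
    ← mul_one (fB _), ev_fB_mul_of_mem (Set.mem_singleton θ), ev_one, Nat.cast_mul,
    coe_charDegree θ.2.isCharacter]

theorem simple_le (S : Type*) [AddCommGroup S] [Module (Res M) S] [FiniteDimensional (Res M) S]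
    (ψ : (Res M)[G] →ₐ[Res M] End (Res M) S) (h1 : Function.Surjective ψ) (h2 : ψ (inc φ x) = 0)
    (h3 : ψ (inc φ (eB M β)) = 1) : finrank (Res M) S ≤ charDegree θ.1 := by
  classical
  rcases subsingleton_or_nontrivial S with _ | _
  · simp [finrank_zero_of_subsingleton]
  have h4 : ∀ y, inc φ x ^ (p ^ (a + 1) - 1) * y = 0 → ψ y = 0 := fun y hy => by
    obtain ⟨z, -, h4⟩ := (h.free le_top (Supp.top _) (y := inc φ (eB M β) * y)
      (by rw [← mul_assoc, h.b_idem])).2 (by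
        rw [← mul_assoc, (h.invβ.commute _).eq, mul_assoc, hy, mul_zero])
    simpa [h2, h3] using congrArg ψ h4.symm
  have h5 : ∀ ξ : IrrCharacter G, om ξ.1 (inc φ (fB {θ})) = 1 → ∃ z,
      inc φ x ^ (p ^ (a + 1) - 1) * z = redG M (((p ^ (a + 1) : ℕ) : ℂ) • fB {ξ}) := fun ξ hξ => by
    have h10 : inc φ (fB {θ}) * fB {ξ} = fB {ξ} := by
      rw [h.eq_fB, fB_mul_fB, Set.inter_eq_right.2 (by simpa using hξ)]
    obtain ⟨y, h5, h6, h7⟩ := h.kill θ h.hθ
    obtain ⟨z, -, hz⟩ := (h.free le_top (Supp.top _)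
      (y := redG M (((p ^ (a + 1) : ℕ) : ℂ) • fB {ξ})) (by
        rw [eB, ← redG_inc h.inj, ← redG_mul (inc_mem_LG _ h.blk) (h.smul_mem hξ), mul_smul_comm,
          ← h10, ← mul_assoc, ← map_mul, fB_mul_fB, Set.inter_eq_right.2 (by simpa using h.hθ)])).1
      (by rw [← h6, ← redG_inc h.inj, ← redG_mul (inc_mem_LG _ h5) (h.smul_mem hξ), mul_smul_comm,
        ← h10, ← mul_assoc, ← map_mul, h7, map_zero, zero_mul, smul_zero, redG_zero])
    exact ⟨z, hz⟩
  choose! ε hε using h5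
  obtain ⟨ξ, hξ, h6⟩ : ∃ ξ, om ξ.1 (inc φ (fB {θ})) = 1 ∧ ψ (ε ξ) ≠ 0 := by
    by_contra h6
    push Not at h6
    have h7 := h4 (∑ ξ with om ξ.1 (inc φ (fB {θ})) = 1, ε ξ - 1) (by
      rw [mul_sub, mul_one, Finset.mul_sum, Finset.sum_congr rfl fun ξ hξ =>
        hε ξ (Finset.mem_filter.1 hξ).2, ← redG_sum _ _ fun ξ hξ =>
          h.smul_mem (Finset.mem_filter.1 hξ).2, ← Finset.smul_sum, h.w_eq, sub_eq_zero]
      conv_rhs => rw [h.eq_fB, fB_eq_sum]
      rfl)
    rw [map_sub, map_sum, Finset.sum_eq_zero fun ξ hξ => h6 ξ (Finset.mem_filter.1 hξ).2] at h7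
    simp at h7
  have h7 : Inv ⊤ (redG M (((p ^ (a + 1) : ℕ) : ℂ) • fB {ξ})) := ((inv_fB _).smul _).redG
  obtain ⟨c, hc⟩ := (Algebra.IsCentral.mem_center_iff (Res M)).1
    ((Subalgebra.mem_center_iff (R := Res M) (a := ψ (ε ξ))).2 fun f => by
      obtain ⟨y, rfl⟩ := h1 f
      rw [← sub_eq_zero, ← map_mul, ← map_mul, ← map_sub]
      refine h4 _ ?_
      rw [mul_sub, ← mul_assoc, ← (h.inv_w.commute _).eq, mul_assoc, ← mul_assoc _ (ε ξ), hε ξ hξ,
        (h7.commute _).eq, sub_self])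
  have h8 := (LinearMap.mulLeft (Res M) (redG M (((p ^ (a + 1) : ℕ) : ℂ) • fB {ξ}))
    ).finrank_range_add_finrank_ker
  have h9 := ψ.toLinearMap.finrank_range_add_finrank_ker
  have h10 := Submodule.finrank_mono (show LinearMap.ker (LinearMap.mulLeft (Res M)
      (redG M (((p ^ (a + 1) : ℕ) : ℂ) • fB {ξ}))) ≤ LinearMap.ker ψ.toLinearMap from
    fun y hy => by
      have h10 := h4 (ε ξ * y) (by rw [← mul_assoc, hε ξ hξ]; exact hy)
      rw [map_mul, hc, ← Algebra.smul_def, smul_eq_zero] at h10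
      exact h10.resolve_left fun h11 => h6 (by rw [hc, h11, map_zero]))
  have h11 := Submodule.finrank_mono (show LinearMap.range (LinearMap.mulLeft (Res M)
      (redG M (((p ^ (a + 1) : ℕ) : ℂ) • fB {ξ}))) ≤ redS M (LinearMap.range (two (fB {ξ}) 1)) by
    rintro _ ⟨y, rfl⟩
    refine ⟨_, ⟨((p ^ (a + 1) : ℕ) : ℂ) • liftG M y, rfl⟩, ?_⟩
    rw [two_apply, mul_one, mul_smul_comm, ← smul_mul_assoc,
      redG_mul (h.smul_mem hξ) (liftG_mem y), redG_liftG]
    exact ⟨mul_mem (h.smul_mem hξ) (liftG_mem y), rfl⟩)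
  rw [(lat_two (ql_fB _) (ql_of_mem (one_mem _))).finrank_redS] at h11
  rw [LinearMap.range_eq_top.2 h1, finrank_top, finrank_linearMap] at h9
  have h12 := h.finrank_le hξ
  exact Nat.mul_self_le_mul_self_iff.1 (by omega)

theorem nakL {V : Type*} [AddCommGroup V] [Module (Res M) V] [FiniteDimensional (Res M) V]
    (ρ : (Res M)[G] →ₐ[Res M] End (Res M) V) :
    NakL (ρ (inc φ x)) (InvS ρ (inc φ (eB M β))) (charDegree θ.1) :=
  CfsgH4.nakL ρ h.exists_left h.exists_right h.jac fun S _ _ _ => h.simple_le S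

end CE

end CfsgH4
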