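import Cfsg.Agent.H4.Cy2

/-! Multiplicities of restrictions to the centralizer of the subgroup of order `p`. -/

set_option autoImplicit false
open Cfsg MonoidAlgebra CfsgL0 CfsgH1 CfsgH4 Module
open CfsgH3 hiding cj cj_cj
open scoped ComplexConjugate Pointwise

namespace CfsgH4

local notation "Z[" u "]" => Subgroup.zpowers u

variable {G K : Type*} [Group G] [Finite G] [Group K] [Finite K] {p : ℕ} [hp : Fact p.Prime]

section Field
variable {F : Type*} [Field F]

variable (F p) in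
/-- The norm element of a cyclic group of order `p`. -/
noncomputable abbrev nrm (u : G) : F[G] := ∑ j ∈ Finset.range p, (single u 1 : F[G]) ^ j

theorem exists_mul_eq_nrm {y : G} (hy : orderOf y = p) {b : F[G]} (h1 : cnj y b = b)
    (h2 : br Z[y] b = 0) : ∃ c, ∀ w, single y 1 * w = w → b * w = nrm p F y * (c * w) := by
  classical
  have := Fintype.ofFinite G
  obtain ⟨c, -, h3⟩ := exists_sum_orbit (p := p) (σ := fun g => y * g * y⁻¹) (by
      funext g
      have : ∀ j, (fun g => y * g * y⁻¹)^[j] g = y ^ j * g * (y ^ j)⁻¹ := fun j => by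
        induction j with
        | zero => simp
        | succ j ih => rw [Function.iterate_succ_apply', ih]; group
      simp [this, ← hy]) (cnj (R := F) y).toLinearMap.toAddMonoidHom ⊤
    (fun g => single g (b.coeff g))
    (Finset.univ.filter fun g => y * g * y⁻¹ ≠ g) fun g hg => by
      simp only [Finset.mem_filter, Finset.mem_univ, true_and] at hg ⊢
      refine ⟨fun h => hg (by simpa using h), hg, ?_, trivial⟩
      conv_lhs => rw [← h1]
      simp [cnj_single, coeff_cnj_conj]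
  refine ⟨c, fun w hw => ?_⟩
  rw [Finset.sum_filter_of_ne (p := fun g => y * g * y⁻¹ ≠ g) fun g _ h4 h5 => h4 (by
    rw [cut_eq_zero_iff.1 h2 g (mem_cent_zpowers.2 (mul_inv_eq_iff_eq_mul.1 h5).symm), single_zero]),
    ← eq_sum_single] at h3
  rw [h3, Finset.sum_mul, Finset.sum_mul]
  refine Finset.sum_congr rfl fun j hj => ?_
  clear hj
  induction j with
  | zero => simp
  | succ j ih =>
    rw [Function.iterate_succ_apply', pow_succ', mul_assoc, ← ih, ← mul_assoc, single_mul_eq_cnj,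
      mul_assoc, hw]
    rfl

theorem tate {T : Subgroup G} {u : G} (hu : orderOf u = p) (huT : u ∈ T) {b i : F[G]}
    (hb : Inv T b) (hbb : b * b = b)
    (hl : ∀ g, g⁻¹ * u * g ∈ T → g ∈ T ∨ b * cnj g b = 0 ∨ br Z[g⁻¹ * u * g] b = 0)
    (hi : ∀ z, i * z * i = z → IsNilpotent z ∨ ∃ z', z * z' = i) (hii : i * i = i)
    {W U Z : Submodule F F[G]}
    (h1 : ∀ c, ∀ w ∈ W, c * w ∈ W) (h2 : ∀ c, ∀ w ∈ W, w * c * i ∈ W) (h3 : ∀ w ∈ W, w * i = w)
    (hU : ∀ t ∈ T, ∀ y ∈ U, single t 1 * y ∈ U) (hZ : ∀ t ∈ T, ∀ y ∈ Z, single t 1 * y ∈ Z)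
    (h4 : U ⊓ Z = ⊥) (h5 : U ⊔ Z = W.map (LinearMap.mulLeft F b)) :
    (∀ y ∈ U, single u 1 * y = y → ∃ z ∈ U, nrm p F u * z = y) ∨
      ∀ y ∈ Z, single u 1 * y = y → ∃ z ∈ Z, nrm p F u * z = y := by
  classical
  have := Fintype.ofFinite G
  have := Fintype.ofFinite (G ⧸ T)
  have h6 : ∀ y ∈ U ⊔ Z, y ∈ W ∧ b * y = y := fun y hy => by
    obtain ⟨w, hw, rfl⟩ := h5.le hy
    exact ⟨h1 b w hw, by rw [LinearMap.mulLeft_apply, ← mul_assoc, hbb]⟩
  have h7 : ∀ t ∈ T, ∀ w, b * (single t 1 * w) = single t 1 * (b * w) := fun t ht w => by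
    rw [← mul_assoc, ← mul_assoc, single_mul_eq_cnj, hb t ht]
  obtain ⟨f, hf, hf0, hf1⟩ : ∃ f : F[G] →ₗ[F] F[G], (∀ w, f w ∈ U) ∧ (∀ w, f (b * w) = f w) ∧
      ∀ w, ∀ y ∈ U, ∀ z ∈ Z, b * w = y + z → f w = y := by
    obtain ⟨Z', h8, h9⟩ := (disjoint_iff.2 h4).symm.exists_isCompl
    refine ⟨(U.projection Z' h9.symm).comp (LinearMap.mulLeft F b), fun w =>
      Submodule.projection_apply_mem _ _, fun w => by simp [← mul_assoc, hbb],
      fun w y hy z hz h => ?_⟩
    rw [LinearMap.comp_apply, LinearMap.mulLeft_apply, h, map_add,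
      Submodule.projection_apply_of_mem_left _ hy,
      Submodule.projection_apply_of_mem_right _ (h8 hz), add_zero]
  have hf2 : ∀ w ∈ W, b * w - f w ∈ Z := fun w hw => by
    obtain ⟨y, hy, z, hz, h⟩ := Submodule.mem_sup.1 (h5.ge ⟨w, hw, rfl⟩)
    rw [hf1 w y hy z hz h.symm, ← LinearMap.mulLeft_apply F, ← h, add_sub_cancel_left]
    exact hz
  have hf3 : ∀ t ∈ T, ∀ w ∈ W, f (single t 1 * w) = single t 1 * f w := fun t ht w hw =>
    hf1 _ _ (hU t ht _ (hf w)) _ (hZ t ht _ (hf2 w hw)) (by rw [h7 t ht, ← mul_add, add_sub_cancel])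
  have hf4 : ∀ t ∈ T, ∀ w ∈ W, f (nrm p F t * w) = nrm p F t * f w := fun t ht w hw => by
    simp only [Finset.sum_mul, map_sum, single_pow, one_pow]
    exact Finset.sum_congr rfl fun j _ => hf3 _ (pow_mem ht j) w hw
  have h8 : ∀ t ∈ T, ∀ w, b * (nrm p F t * w) = nrm p F t * (b * w) := fun t ht w => by
    simp only [Finset.sum_mul, Finset.mul_sum, single_pow, one_pow]
    exact Finset.sum_congr rfl fun j _ => h7 _ (pow_mem ht j) w
  let τ : G → F[G] →ₗ[F] F[G] := fun g =>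
    (LinearMap.mulLeft F (single g 1)).comp (f.comp (LinearMap.mulLeft F (single g⁻¹ 1)))
  have hτ : ∀ g w, τ g w = single g 1 * f (single g⁻¹ 1 * w) := fun _ _ => rfl
  have hτ1 : ∀ g w, τ g w ∈ W := fun g w => h1 _ _ (h6 _ (Submodule.mem_sup_left (hf _))).1
  have hτ2 : ∀ g : G, ∀ w ∈ W, τ (g : G ⧸ T).out w = τ g w := fun g w hw => by
    obtain ⟨t, ht⟩ := QuotientGroup.mk_out_eq_mul T g
    rw [ht, hτ, hτ, mul_inv_rev, ← mul_one (1 : F), ← single_mul_single, ← single_mul_single,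
      mul_assoc, mul_assoc, hf3 _ (inv_mem t.2) _ (h1 _ w hw)]
    simp [← mul_assoc, single_mul_single]
  have hτ3 : ∀ g, ∀ c : G ⧸ T, ∀ w ∈ W, τ (g • c).out (single g 1 * w) = single g 1 * τ c.out w :=
    fun g c w hw => by
      rw [← c.out_eq, MulAction.Quotient.smul_mk, hτ2 _ _ (h1 _ w hw), hτ2 _ _ hw, hτ, hτ]
      simp [← mul_assoc, single_mul_single]
  obtain ⟨z, hz⟩ : ∃ z, ∀ w ∈ W, w * z = ∑ c : G ⧸ T, τ c.out w := by
    refine ⟨mk fun g => ((∑ c : G ⧸ T, τ c.out) (single g⁻¹ 1)).coeff 1, fun w hw =>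
      ga_ext fun g => ?_⟩
    have h9 : ∀ w, (w * mk fun g => ((∑ c : G ⧸ T, τ c.out) (single g⁻¹ 1)).coeff 1).coeff 1 =
        ((∑ c : G ⧸ T, τ c.out) w).coeff 1 := fun w => by
      induction w using MonoidAlgebra.induction_linear with
      | zero => simp
      | add a c ha hc => simp only [add_mul, map_add, coeff_add, Finsupp.add_apply, ha, hc]
      | single g r =>
        rw [show single g r = r • single g (1 : F) by simp, map_smul, smul_mul_assoc]
        simp
    have h10 := h9 (single g⁻¹ 1 * w)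
    rw [LinearMap.sum_apply, ← (MulAction.bijective g⁻¹).sum_comp
      fun c : G ⧸ T => τ c.out (single g⁻¹ 1 * w), Finset.sum_congr rfl fun c _ =>
      hτ3 g⁻¹ c w hw, ← Finset.mul_sum, mul_assoc] at h10
    simpa using h10
  have h9 : ∀ w ∈ W, w * (i * z * i) = w * z := fun w hw => by
    rw [← mul_assoc, ← mul_assoc, h3 w hw, h3 _ (hz w hw ▸ W.sum_mem fun c _ => hτ1 _ _)]
  have h10 : ∀ w ∈ U ⊔ Z, single u 1 * w = w →
      w * (i * z * i) - f w ∈ W.map (LinearMap.mulLeft F (nrm p F u)) := fun w hw h10 => by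
    obtain ⟨h11, h12⟩ := h6 w hw
    rw [h9 w h11, ← h12, mul_assoc, hz w h11, Finset.mul_sum, hf0,
      ← Finset.sum_filter_add_sum_filter_not _ (fun c : G ⧸ T => u • c = c), add_sub_right_comm]
    refine add_mem ?_ ?_
    · rw [← Finset.add_sum_erase _ _ (a := ((1 : G) : G ⧸ T)) (by
        simpa [QuotientGroup.eq] using huT), hτ2 _ _ h11, hτ, inv_one, ← one_def, one_mul, one_mul,
        (h6 _ (Submodule.mem_sup_left (hf w))).2, add_sub_cancel_left]
      refine Submodule.sum_mem _ fun c hc => ?_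
      simp only [Finset.mem_erase, Finset.mem_filter, Finset.mem_univ, true_and] at hc
      have h13 : c.out⁻¹ * u * c.out ∈ T := by
        rw [← c.out_eq, MulAction.Quotient.smul_mk, eq_comm, QuotientGroup.eq] at hc
        simpa [mul_assoc] using hc.2
      rcases hl _ h13 with h14 | h14 | h14
      · exact absurd (by rw [← c.out_eq, eq_comm, QuotientGroup.eq]; simpa using h14) hc.1
      · rw [hτ, ← (h6 _ (Submodule.mem_sup_left (hf _))).2, ← mul_assoc (single _ _),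
          single_mul_eq_cnj, ← mul_assoc, ← mul_assoc, h14, zero_mul, zero_mul]
        exact zero_mem _
      · obtain ⟨d, hd⟩ := exists_mul_eq_nrm (p := p) (by
          rw [← hu]; simpa using (MulAut.conj c.out⁻¹).orderOf_eq u) (hb _ h13) h14
        refine ⟨b * (single c.out 1 * f (d * (single c.out⁻¹ 1 * w))),
          h1 _ _ (h1 _ _ (h6 _ (Submodule.mem_sup_left (hf _))).1), ?_⟩
        rw [LinearMap.mulLeft_apply, ← h8 u huT, hτ, ← hf0 (single _ _ * w), hd (single _ _ * w) (by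
          conv_rhs => rw [← h10]
          simp [← mul_assoc, single_mul_single]), hf4 _ h13 _ (h1 _ _ (h1 _ w h11)),
          ← mul_assoc (single _ _), single_mul_eq_cnj _ (nrm p F _), mul_assoc]
        simp only [map_sum, map_pow, cnj_single]
        simp [mul_assoc, nrm]
    · obtain ⟨y, h13, h14⟩ := exists_sum_orbit (p := p) (σ := fun c : G ⧸ T => u • c) (by
          funext c; simp [← hu]) (AddMonoidHom.mulLeft (single u (1 : F))) W.toAddSubgroup
        (fun c => b * τ c.out w) (Finset.univ.filter fun c : G ⧸ T => ¬ u • c = c) fun c hc => by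
          simp only [Finset.mem_filter, Finset.mem_univ, true_and] at hc ⊢
          refine ⟨fun h => hc (by simpa using h), hc, ?_, h1 _ _ (hτ1 _ _)⟩
          conv_lhs => rw [← h10]
          rw [hτ3 _ _ _ h11, h7 u huT]
          rfl
      refine ⟨y, h13, ?_⟩
      rw [h14, LinearMap.mulLeft_apply, Finset.sum_mul]
      exact Finset.sum_congr rfl fun j _ => by simp [mul_left_iterate]
  refine (hi (i * z * i) (by simp only [← mul_assoc, hii, mul_assoc _ i i])).imp
    (fun ⟨k, hk⟩ w hw h11 => ?_) fun ⟨z', hz'⟩ w hw h11 => ?_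
  · have h12 : f w = w := hf1 _ w hw 0 (zero_mem _) (by
      rw [(h6 w (Submodule.mem_sup_left hw)).2, add_zero])
    have h13 : ∀ k, w * (i * z * i) ^ k - w ∈ W.map (LinearMap.mulLeft F (nrm p F u)) := fun k => by
      induction k with
      | zero => simp
      | succ k ih =>
        obtain ⟨y, h13, h14⟩ := ih
        have h15 := add_mem (Submodule.mem_map_of_mem (f := LinearMap.mulLeft F (nrm p F u))
          (h2 (i * z) y h13)) (h10 w (Submodule.mem_sup_left hw) h11)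
        rw [LinearMap.mulLeft_apply] at h14
        rwa [LinearMap.mulLeft_apply, mul_assoc y, ← mul_assoc, h14, h12, sub_mul, sub_add_sub_cancel, mul_assoc, ← pow_succ] at h15
    obtain ⟨y, h14, h15⟩ := neg_mem (h13 k)
    rw [hk, mul_zero, zero_sub, neg_neg, LinearMap.mulLeft_apply] at h15
    exact ⟨f y, hf y, by rw [← hf4 u huT y h14, h15, h12]⟩
  · obtain ⟨h12, h13⟩ := h6 w (Submodule.mem_sup_right hw)
    have h14 : f w = 0 := hf1 _ 0 (zero_mem _) w hw (by rw [h13, zero_add])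
    obtain ⟨y, h15, h16⟩ := h10 w (Submodule.mem_sup_right hw) h11
    rw [h14, sub_zero, LinearMap.mulLeft_apply] at h16
    have h17 : nrm p F u * (y * z' * i) = w := by
      rw [← mul_assoc, ← mul_assoc, h16, mul_assoc w, hz', h3 w h12, h3 w h12]
    exact ⟨_, hf2 _ (h2 z' y h15), by
      rw [mul_sub, ← h8 u huT, ← hf4 u huT _ (h2 z' y h15), h17, h13, h14, sub_zero]⟩

end Field

variable {M : Ideal AlgInt} [hM : PMod p M] {a : ℕ} {β : Set (IrrCharacter K)} {u : K}
  {x : (Res M)[K]} {θ : IrrCharacter K} {T : Subgroup G} {φ : K →* T}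

open Classical in
theorem CE.window [Fintype K] (h : CE M p a β u x θ φ) (hd : ∀ ξ ∈ β, ξ.1 1 = θ.1 1) {b : (Res M)[G]}
    (hb : b = inc (T.subtype.comp φ) (eB M β))
    (hl : ∀ g : G, g⁻¹ * φ u * g ∈ T → g ∈ T ∨ b * cnj g b = 0 ∨ br Z[g⁻¹ * φ u * g] b = 0)
    {S : Finset (IrrCharacter G)} (hS : ∀ χ ∈ S, ∀ χ' ∈ S, rg p χ.1 = rg p χ'.1)
    {m : IrrCharacter G → IrrCharacter K → ℕ}
    (hm : ∀ χ ξ, classInner (fun c => χ.1 (φ c)) ξ.1 = m χ ξ) {ξ ξ' : IrrCharacter K} (hξ : ξ ∈ β)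
    (hξ' : ξ' ∈ β) : ∑ χ ∈ S, m χ ξ ≤ ∑ χ ∈ S, m χ ξ' + 1 := by
  rcases S.eq_empty_or_nonempty with rfl | ⟨χ₀, h0⟩
  · simp
  obtain ⟨i, hi, h1⟩ := exists_prim (M := M) χ₀
  obtain ⟨r, hr⟩ := exists_nat_ev χ₀.2.isCharacter hi.idem
  have h2 : ∀ χ ∈ S, ev χ.1 i = r := fun χ hχ => by
    have := ev_mul_single_eq_zero (p := p) hi.mem hi.idem (cnj_one i)
      (χ.2.isClassFunction.sub χ₀.2.isClassFunction) fun g hg => by
        rw [ppart_one, isConj_one_right, ppart_eq_one_iff] at hg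
        exact sub_eq_zero.2 (rg_eq_iff.1 (hS χ hχ χ₀ h0) g hg)
    rw [← one_def, mul_one, sub_eq_add_neg, ← neg_one_smul ℂ, ev_add_fun, ev_smul_fun, hr] at this
    linear_combination this
  have hι : Function.Injective (T.subtype.comp φ) := T.subtype_injective.comp h.inj
  have h3 : ∀ ξ ∈ β, finrank (Res M) (redS M (LinearMap.range
      (two (fB S * inc (T.subtype.comp φ) (fB {ξ})) i))) =
        charDegree θ.1 * (r * ∑ χ ∈ S, m χ ξ) := fun ξ hξ => by
    rw [← Nat.cast_inj (R := ℂ), finrank_redS_two (by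
      rw [mul_assoc, ← mul_assoc _ (fB _), (inv_fB _).commute, mul_assoc, ← map_mul, fB_idem,
        ← mul_assoc, fB_idem]) hi.idem ((ql_fB _).mul ((ql_fB _).inc _)) (ql_of_mem hi.mem),
      ← Finset.sum_subset S.subset_univ fun χ _ hχ => by
        rw [ev_fB_mul_of_notMem (by simpa using hχ), zero_mul]]
    push_cast
    rw [Finset.mul_sum, Finset.mul_sum]
    refine Finset.sum_congr rfl fun χ hχ => ?_
    rw [ev_fB_mul_of_mem (by simpa using hχ), ev_inc, ev_fB_class, h2 χ hχ, ← hm,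
      coe_charDegree θ.2.isCharacter, ← hd ξ hξ]
    simp only [Set.mem_singleton_iff, Finset.sum_ite_eq', Finset.mem_univ, if_true]
    exact mul_right_comm _ _ _ |>.trans (mul_assoc _ _ _)
  set W := redS M (LinearMap.range (two (fB S) i))
  have h4 : ∀ c, ∀ w ∈ W, c * w ∈ W := by
    rintro c _ ⟨_, ⟨y, rfl⟩, h4, rfl⟩
    exact ⟨_, ⟨liftG M c * y, by
      rw [two_apply, two_apply, ← mul_assoc (liftG M c), (inv_fB _).commute, mul_assoc, mul_assoc]⟩,
      mul_mem (liftG_mem c) h4, by rw [redG_mul (liftG_mem c) h4, redG_liftG]⟩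
  let ρ : (Res M)[T] →ₐ[Res M] End (Res M) (Res M)[G] := (Algebra.lmul _ _).comp (inc T.subtype)
  have h5 : ∀ c y, ρ c y = inc T.subtype c * y := fun _ _ => rfl
  have h6 : ρ (inc φ x) = LinearMap.mulLeft _ (inc (T.subtype.comp φ) x) :=
    LinearMap.ext fun y => by rw [h5, inc_inc]; rfl
  have h7 : b * b = b := by rw [hb, ← map_mul, eB_idem h.blk]
  have h8 : ∀ c, inc T.subtype c * b = b * inc T.subtype c := fun c => by
    rw [hb, ← inc_inc, ← map_mul, ← map_mul, h.invβ.commute]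
  have h9 := (h.nakL ρ).finrank_le (Y := W.map (LinearMap.mulLeft _ b)) (q := p ^ (a + 1)) (by
      rintro _ ⟨w, hw, rfl⟩
      refine ⟨by rw [h5, inc_inc, ← hb, LinearMap.mulLeft_apply, ← mul_assoc, h7], fun c =>
        ⟨_, h4 (inc T.subtype c) w hw, ?_⟩⟩
      rw [h5, LinearMap.mulLeft_apply, LinearMap.mulLeft_apply, ← mul_assoc, ← mul_assoc, h8])
    (fun y _ => by rw [← map_pow, ← map_pow, h.toCD.pow_eq_zero h.ord]; simp)
    fun U Z hU hZ h9 h10 => by
      have key : ∀ U, InvS ρ (inc φ (eB M β)) U → (∀ y ∈ U, single (φ u : G) 1 * y = y →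
          ∃ z ∈ U, nrm p (Res M) (φ u : G) * z = y) → XFree (ρ (inc φ x)) U (p ^ (a + 1)) :=
        fun U hU h => by
          rw [h6]
          exact CD.xfree ‹CE M p a β u x θ φ›.toCD _ (fun y hy => by
            simpa [h5, inc_inc] using (hU y hy).2 (inc φ x))
            (fun y hy => by simpa [h5, inc_inc] using (hU y hy).1) h
      have key2 : ∀ U, InvS ρ (inc φ (eB M β)) U → ∀ t ∈ T, ∀ y ∈ U, single t 1 * y ∈ U :=
        fun U hU t ht y hy => by simpa [h5, inc_single] using (hU y hy).2 (single ⟨t, ht⟩ 1)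
      refine (tate (by rw [Subgroup.orderOf_coe, orderOf_injective φ h.inj, h.ord]) (φ u).2
        (fun t ht => ?_) h7 hl hi.loc (by rw [← redG_mul hi.mem hi.mem, hi.idem]) h4 ?_ ?_
        (key2 U hU) (key2 Z hZ) h9 h10).imp (key U hU) (key Z hZ)
      · rw [hb, ← inc_inc]
        exact (cnj_inc T.subtype ⟨t, ht⟩ _).trans (by rw [h.invβ _ trivial])
      · rintro c _ ⟨_, ⟨y, rfl⟩, h4, rfl⟩
        exact ⟨_, ⟨y * i * liftG M c, by simp only [two_apply, mul_assoc]⟩,
          mul_mem (mul_mem h4 (liftG_mem c)) hi.mem, by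
            rw [redG_mul (mul_mem h4 (liftG_mem c)) hi.mem, redG_mul h4 (liftG_mem c), redG_liftG]⟩
      · rintro _ ⟨_, ⟨y, rfl⟩, h4, rfl⟩
        rw [← redG_mul h4 hi.mem, two_apply, mul_assoc, mul_assoc, hi.idem]
  have h10 : ∀ ξ y, two (fB S * inc (T.subtype.comp φ) (fB {ξ})) i y =
      inc (T.subtype.comp φ) (fB {ξ}) * two (fB S) i y := fun ξ y => by
    rw [two_apply, two_apply, ← (inv_fB _).commute, mul_assoc]
  have h11 := Submodule.finrank_mono (show redS M (LinearMap.range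
      (two (fB S * inc (T.subtype.comp φ) (fB {ξ})) i)) ≤
        W.map (LinearMap.mulLeft _ b) ⊓ LinearMap.ker (ρ (inc φ x)) by
    rintro _ ⟨_, ⟨y, rfl⟩, h11, rfl⟩
    obtain ⟨z, h12, h13, h14⟩ := h.kill ξ hξ
    refine ⟨⟨_, ⟨_, ⟨inc (T.subtype.comp φ) (fB {ξ}) * y, by simp only [two_apply, mul_assoc]⟩,
      h11, rfl⟩, ?_⟩, ?_⟩
    · rw [LinearMap.mulLeft_apply, hb, eB, ← redG_inc hι, ← redG_mul (inc_mem_LG _ h.blk) h11, h10,
        ← mul_assoc, ← map_mul, fB_mul_fB, Set.inter_eq_right.2 (by simpa using hξ)]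
    · rw [SetLike.mem_coe, LinearMap.mem_ker, h5, inc_inc, ← h13, ← redG_inc hι,
        ← redG_mul (inc_mem_LG _ h12) h11, h10, ← mul_assoc, ← map_mul, h14, map_zero, zero_mul,
        redG_zero])
  have h12 := Submodule.finrank_mono (show (W.map (LinearMap.mulLeft _ b)).map
      (ρ (inc φ x) ^ (p ^ (a + 1) - 1)) ≤ redS M (LinearMap.range
        (two (fB S * inc (T.subtype.comp φ) (fB {ξ'})) i)) by
    rintro _ ⟨_, ⟨w, hw, rfl⟩, rfl⟩
    obtain ⟨_, ⟨y, rfl⟩, h12, h13⟩ := h4 b w hw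
    have h14 := inc_mem_LG (T.subtype.comp φ) (h.mem ξ' hξ')
    refine ⟨_, ⟨((p ^ (a + 1) : ℕ) : ℂ) • y, rfl⟩, ?_⟩
    rw [map_smul, h10, ← smul_mul_assoc, ← map_smul, redG_mul h14 h12, h13, redG_inc hι,
      h.red ξ' hξ', ← map_pow, ← map_pow, h5, inc_inc]
    exact ⟨mul_mem h14 h12, rfl⟩)
  rw [h3 ξ hξ] at h11
  rw [h3 ξ' hξ'] at h12
  have h13 : r * ∑ χ ∈ S, m χ ξ ≤ r * ∑ χ ∈ S, m χ ξ' + 1 :=
    Nat.le_of_mul_le_mul_left (by rw [mul_add, mul_one]; omega)
      (Nat.pos_of_ne_zero (charDegree_ne_zero θ.2))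
  have h14 : 0 < r := Nat.pos_of_ne_zero fun h => h1 (by rw [hr, h, Nat.cast_zero])
  exact Nat.le_of_mul_le_mul_left (by rw [mul_add, mul_one]; omega) h14

end CfsgH4
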