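import Cfsg.Agent.H4.Cy3
import Cfsg.Agent.H2.PG1

/-! Blocks with cyclic defect groups: local data and the combinatorial step. -/

set_option autoImplicit false
open Cfsg MonoidAlgebra CfsgL0 CfsgH1 CfsgH4
open CfsgH3 hiding cj cj_cj
open scoped ComplexConjugate Pointwise

namespace CfsgH4

local notation "C[" Q "]" => Subgroup.centralizer (SetLike.coe (Q : Subgroup _))
local notation "N[" Q "]" => Subgroup.normalizer (SetLike.coe (Q : Subgroup _))
local notation "Z[" u "]" => Subgroup.zpowers u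

open Classical in
theorem comb_cyc {ι Λ : Type*} [Fintype ι] [Nonempty Λ] {r : Λ → Λ → Prop} (hr : Equivalence r)
    {e : ℕ} {μ : ι → Λ → ℤ} {ε : ι → ℤ} (h1 : ∀ χ, ε χ = 1 ∨ ε χ = -1)
    (h2 : ∀ l l', ∑ χ, μ χ l * μ χ l' = e + if r l l' then 1 else 0)
    (h3 : ∀ χ l, μ χ l = 0 ∨ μ χ l = ε χ)
    (h4 : ∀ l l' χ ψ, (∀ ξ, ξ ≠ χ → ξ ≠ ψ → μ ξ l = μ ξ l') → μ χ l ≠ 0 → μ χ l' = 0 →
      μ ψ l = 0 → μ ψ l' ≠ 0 → ε χ = ε ψ ∧ ∀ k, μ χ k = 0 ∨ μ ψ k = 0) :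
    ∃ (X : Finset ι) (y : Λ → ι) (δ : ℤ), X.card = e ∧ (∀ χ ∈ X, ∀ l, μ χ l = ε χ) ∧
      (∀ l, y l ∉ X ∧ ε (y l) = δ ∧ ∀ l', μ (y l) l' = if r l l' then δ else 0) ∧
      ∀ χ l, μ χ l ≠ 0 → χ ∈ X ∨ y l = χ := by
  obtain ⟨N, hN⟩ : ∃ N : Λ → Finset ι, ∀ l χ, χ ∈ N l ↔ μ χ l ≠ 0 :=
    ⟨fun l => Finset.univ.filter (μ · l ≠ 0), by simp⟩
  have h5 : ∀ l χ, χ ∈ N l → μ χ l = ε χ := fun l χ h => (h3 χ l).resolve_left ((hN _ _).1 h)
  have h5' : ∀ l χ, χ ∉ N l → μ χ l = 0 := fun l χ h => by simpa [hN] using h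
  have h6 : ∀ l l', (N l ∩ N l').card = e + if r l l' then 1 else 0 := fun l l' => by
    have := h2 l l'
    rw [← Finset.sum_subset (N l ∩ N l').subset_univ fun χ _ h => by
      simpa only [Finset.mem_inter, hN, not_and_or, not_not, mul_eq_zero] using h,
      Finset.sum_congr rfl (g := fun _ => 1) fun χ h => by
        rw [h5 _ _ (Finset.mem_inter.1 h).1, h5 _ _ (Finset.mem_inter.1 h).2]
        rcases h1 χ with h | h <;> simp [h]] at this
    simp only [Finset.sum_const, nsmul_eq_mul, mul_one] at this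
    exact_mod_cast this
  have h7 : ∀ l, (N l).card = e + 1 := fun l => by simpa [hr.refl l] using h6 l l
  have h8 : ∀ l l', r l l' → N l ⊆ N l' := fun l l' h => Finset.inter_eq_left.1
    (Finset.eq_of_subset_of_card_le Finset.inter_subset_left (by simp [h6, h7, h]))
  have h9 : ∀ l (X : Finset ι), X ⊆ N l → X.card = e → ∃ a, N l \ X = {a} := fun l X h h' =>
    Finset.card_eq_one.1 (by rw [Finset.card_sdiff_of_subset h, h7, h']; simp)
  have h10 : ∀ l l' X χ ψ, N l \ X = {χ} → N l' \ X = {ψ} → N l ∩ N l' = X →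
      ε χ = ε ψ ∧ ∀ k, χ ∉ N k ∨ ψ ∉ N k := fun l l' X χ ψ h h' hX => by
    subst hX
    have a1 := Finset.mem_sdiff.1 (h.ge (Finset.mem_singleton_self _))
    have a2 := Finset.mem_sdiff.1 (h'.ge (Finset.mem_singleton_self _))
    simp only [Finset.mem_inter, not_and] at a1 a2
    simpa only [hN, not_not] using h4 l l' χ ψ (fun ξ b1 b2 => by
      by_cases c1 : ξ ∈ N l <;> by_cases c2 : ξ ∈ N l'
      · rw [h5 _ _ c1, h5 _ _ c2]
      · exact absurd (Finset.mem_singleton.1 (h.le (by simp [c1, c2]))) b1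
      · exact absurd (Finset.mem_singleton.1 (h'.le (by simp [c1, c2]))) b2
      · rw [h5' _ _ c1, h5' _ _ c2]) ((hN _ _).1 a1.1) (h5' _ _ (a1.2 a1.1))
      (h5' _ _ fun h => a2.2 h a2.1) ((hN _ _).1 a2.1)
  obtain ⟨X, hX, h11⟩ : ∃ X : Finset ι, X.card = e ∧ ∀ l, X ⊆ N l := by
    by_cases h : ∀ l l', r l l'
    · obtain ⟨l⟩ := ‹Nonempty Λ›
      obtain ⟨X, b1, b2⟩ := Finset.exists_subset_card_eq (s := N l) (n := e) (by simp [h7])
      exact ⟨X, b2, fun l' => b1.trans (h8 _ _ (h _ _))⟩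
    push Not at h
    obtain ⟨l, l', h⟩ := h
    have b1 : (N l ∩ N l').card = e := by simp [h6, h]
    refine ⟨_, b1, fun k χ hχ => by_contra fun b2 => ?_⟩
    obtain ⟨a, ha⟩ := h9 l _ Finset.inter_subset_left b1
    obtain ⟨b, hb⟩ := h9 l' _ Finset.inter_subset_right b1
    have key : ∀ j c, χ ∈ N j → c ∈ N j → c ≠ χ → c ∈ N k := fun j c c1 c2 c3 => by
      obtain ⟨d, hd⟩ := h9 j _ (Finset.inter_subset_left (s₂ := N k))
        (by simp [h6, show ¬ r j k from fun h => b2 (h8 j k h c1)])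
      by_contra c4
      exact c3 ((Finset.mem_singleton.1 (hd.le (by simp [c2, c4]))).trans
        (Finset.mem_singleton.1 (hd.le (by simp [c1, b2]))).symm)
    have a1 := Finset.mem_sdiff.1 (ha.ge (Finset.mem_singleton_self _))
    have a2 := Finset.mem_sdiff.1 (hb.ge (Finset.mem_singleton_self _))
    exact ((h10 _ _ _ _ _ ha hb rfl).2 k).elim
      (· (key l a (Finset.mem_inter.1 hχ).1 a1.1 fun h => a1.2 (h ▸ hχ)))
      (· (key l' b (Finset.mem_inter.1 hχ).2 a2.1 fun h => a2.2 (h ▸ hχ)))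
  choose y hy using fun l => h9 l X (h11 l) hX
  have h12 : ∀ l, y l ∈ N l ∧ y l ∉ X := fun l =>
    Finset.mem_sdiff.1 ((hy l).ge (Finset.mem_singleton_self _))
  have h13 : ∀ l l', ¬ r l l' → N l ∩ N l' = X := fun l l' h =>
    (Finset.eq_of_subset_of_card_le (Finset.subset_inter (h11 l) (h11 l')) (by simp [h6, h, hX])).symm
  have h14 : ∀ l l', ε (y l) = ε (y l') := fun l l' => by
    by_cases h : r l l'
    · rw [Finset.mem_singleton.1 ((hy l').le (Finset.mem_sdiff.2 ⟨h8 _ _ h (h12 l).1, (h12 l).2⟩))]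
    · exact (h10 _ _ _ _ _ (hy l) (hy l') (h13 _ _ h)).1
  refine ⟨X, y, ε (y (Classical.arbitrary Λ)), hX, fun χ hχ l => h5 _ _ (h11 l hχ),
    fun l => ⟨(h12 l).2, h14 _ _, fun l' => ?_⟩, fun χ l h => ?_⟩
  · split_ifs with h
    · rw [h5 _ _ (h8 _ _ h (h12 l).1), h14]
    · exact h5' _ _ fun h' => (h12 l).2 (h13 _ _ h ▸ Finset.mem_inter.2 ⟨(h12 l).1, h'⟩)
  · by_cases h' : χ ∈ X
    · exact .inl h'
    · exact .inr (Finset.mem_singleton.1 ((hy l).le (Finset.mem_sdiff.2 ⟨(hN _ _).2 h, h'⟩))).symm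

section Group
variable {G : Type*} [Group G] [Finite G] {p : ℕ} [hp : Fact p.Prime]

theorem exists_gen_of_le_norm {u : G} (hu : orderOf u = p) {L : Subgroup G} (hL : L ≤ N[Z[u]]) :
    C[Z[u]].relIndex L ∣ p - 1 ∧ ∃ t ∈ L, ∀ g ∈ L, ∃ j : ℕ, (t ^ j)⁻¹ * g ∈ C[Z[u]] := by
  let φ := (Z[u]).normalizerMonoidHom.comp (Subgroup.inclusion hL)
  have h3 : φ.ker = (C[Z[u]]).subgroupOf L := by
    ext g
    rw [← MonoidHom.comap_ker, Subgroup.normalizerMonoidHom_ker, Subgroup.mem_comap,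
      Subgroup.mem_subgroupOf, Subgroup.mem_subgroupOf, Subgroup.coe_inclusion]
  have h5 : IsCyclic (MulAut Z[u]) := by
    have e := IsCyclic.mulAutMulEquiv Z[u]
    rw [Nat.card_zpowers, hu] at e
    have := ZMod.isCyclic_units_prime hp.out
    exact isCyclic_of_surjective e.symm e.symm.surjective
  refine ⟨?_, ?_⟩
  · rw [Subgroup.relIndex, ← h3, Subgroup.index_ker, ← Nat.totient_prime hp.out, ← hu,
      ← Nat.card_zpowers, ← IsCyclic.card_mulAut]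
    exact Subgroup.card_subgroup_dvd_card _
  · obtain ⟨⟨_, t, rfl⟩, ht⟩ := IsCyclic.exists_monoid_generator (α := φ.range)
    refine ⟨t, t.2, fun g hg => ?_⟩
    obtain ⟨j, hj⟩ := ht ⟨_, ⟨g, hg⟩, rfl⟩
    refine ⟨j, h3.le (show (t ^ j)⁻¹ * ⟨g, hg⟩ ∈ φ.ker from ?_)⟩
    rw [MonoidHom.mem_ker, map_mul, map_inv, map_pow, inv_mul_eq_one]
    exact congrArg Subtype.val hj

theorem zpowers_le_of_cyclic {P : Subgroup G} (hP : IsPGroup p P) (hc : IsCyclic P) {u v : G}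
    (hu : u ∈ P) (h : orderOf u = p) (hv : v ∈ P) (h1 : v ≠ 1) : Z[u] ≤ Z[v] := by
  obtain ⟨k, hk⟩ := pelt_of_mem hP hv
  obtain ⟨⟨x, hx⟩, h2⟩ := exists_prime_orderOf_dvd_card' (G := Z[v]) p (by
    rw [Nat.card_zpowers, hk]
    exact dvd_pow_self _ fun h => h1 (orderOf_eq_one_iff.1 (by simpa [h] using hk)))
  rw [CfsgH2.eq_of_card_eq_of_cyclic hc (Subgroup.zpowers_le.2 hu)
    (Subgroup.zpowers_le.2 (Subgroup.zpowers_le.2 hv hx))
    (by rw [Nat.card_zpowers, Nat.card_zpowers, h, ← h2, Subgroup.orderOf_mk])]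
  exact Subgroup.zpowers_le.2 hx

omit hp in
theorem surj_of_free {σ : G → G} (h0 : ∀ a b, σ (a * b) = σ a * σ b) (h : ∀ v, σ v = v → v = 1) :
    Function.Surjective fun v => v⁻¹ * σ v :=
  Finite.injective_iff_surjective.1 fun v w h1 => by
    have h2 : σ (w * v⁻¹) * σ v = w * v⁻¹ * σ v := by
      rw [← h0, inv_mul_cancel_right, mul_assoc, show v⁻¹ * σ v = w⁻¹ * σ w from h1,
        mul_inv_cancel_left]
    exact (mul_inv_eq_one.1 (h _ (mul_right_cancel h2))).symm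

theorem conj_mem_cent_of_norm {Q : Subgroup G} {x : G} (hx : x ∈ N[Q]) :
    ∀ k ∈ C[Q], x * k * x⁻¹ ∈ C[Q] := fun k hk => by
  simpa [mem_normalizer_iff_cj.1 hx] using conj_mem_cent_cj Q x k hk

end Group

variable {G : Type*} [Group G] [Finite G] {M : Ideal AlgInt} {p : ℕ} [hM : PMod p M]
  [hp : Fact p.Prime] {P : Subgroup G} {e : (Res M)[G]} {B : Set (IrrCharacter G)} {u : G}

/-- The automorphisms of `P` induced by the stabilizer of the pair. -/
noncomputable def autE (P : Subgroup G) (e : (Res M)[G]) : Subgroup (MulAut P) :=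
  (P.normalizerMonoidHom.comp (Subgroup.inclusion (stab_le N[P] e))).range

omit [Finite G] hp in
theorem mem_autE {σ : MulAut P} :
    σ ∈ autE P e ↔ ∃ t ∈ stab N[P] e, ∀ v : P, (σ v : G) = t * v * t⁻¹ :=
  ⟨fun ⟨t, ht⟩ => ⟨t, t.2, fun _ => ht ▸ rfl⟩,
    fun ⟨t, h1, h2⟩ => ⟨⟨t, h1⟩, MulEquiv.ext fun v => Subtype.ext (h2 v).symm⟩⟩

omit [Finite G] hp in
theorem card_autE : Nat.card (autE P e) = C[P].relIndex (stab N[P] e) := by
  rw [autE, ← Subgroup.index_ker, Subgroup.relIndex]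
  congr 1
  ext g
  rw [← MonoidHom.comap_ker, Subgroup.normalizerMonoidHom_ker, Subgroup.mem_comap,
    Subgroup.mem_subgroupOf, Subgroup.mem_subgroupOf, Subgroup.coe_inclusion]

noncomputable instance instFintypeAutE : Fintype (autE P e) := Fintype.ofFinite _

variable (p P e B u) in
/-- The local data of a block with a nontrivial cyclic defect group. -/
structure CyL (β : Set (IrrCharacter C[Z[u]])) (e' : (Res M)[C[Z[u]]]) : Prop where
  hm : MaxPr p (eB M B) P e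
  hB : IsPBlock M B
  cyc : IsCyclic P
  mem : u ∈ P
  ord : orderOf u = p
  hβ : IsPBlock M β
  ie_eq : ie M _ β = dn p Z[u] P e
  inc_e : inc (C[Z[u]]).subtype e' = e
  hm' : MaxPr p (eB M β) (P.subgroupOf C[Z[u]]) e'

theorem le_cent_of_cyclic (hc : IsCyclic P) : P ≤ C[P] :=
  Subgroup.le_centralizer_iff_isMulCommutative.2 inferInstance

theorem MaxPr.exists_cyL (hm : MaxPr p (eB M B) P e) (hB : IsPBlock M B) (hc : IsCyclic P)
    (hu : u ∈ P) (h : orderOf u = p) : ∃ β e', CyL p P e B u β e' := by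
  have hQ := Subgroup.zpowers_le.2 hu
  obtain ⟨f', e', h1, h2, hm', -⟩ := hm.exists_loc hQ ((le_cent_of_cyclic hc).trans (cent_anti hQ))
  obtain ⟨β, hβ, rfl⟩ := hm'.blk.exists_eq_eB
  exact ⟨β, e', hm, hB, hc, hu, h, hβ, h1, h2, hm'⟩

theorem MaxPr.exists_order (hm : MaxPr p (eB M B) P e) (h : P ≠ ⊥) : ∃ u ∈ P, orderOf u = p := by
  obtain ⟨k, hk⟩ := IsPGroup.iff_card.1 hm.pr.pgrp
  obtain ⟨⟨x, hx⟩, h2⟩ := exists_prime_orderOf_dvd_card' (G := P) p (hk ▸ dvd_pow_self _ fun h1 =>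
    h (Subgroup.card_eq_one.1 (by simpa [h1] using hk)))
  exact ⟨x, hx, by rwa [Subgroup.orderOf_mk] at h2⟩

namespace CyL
variable {β : Set (IrrCharacter C[Z[u]])} {e' : (Res M)[C[Z[u]]]} (h : CyL p P e B u β e')
include h

theorem comm : P ≤ C[P] := le_cent_of_cyclic h.cyc

theorem zle : Z[u] ≤ P := Subgroup.zpowers_le.2 h.mem

theorem le : P ≤ C[Z[u]] := h.comm.trans (cent_anti h.zle)

theorem ne_one : u ≠ 1 := fun h1 => hp.out.one_lt.ne' (by rw [← h.ord, h1, orderOf_one])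

theorem free {v : G} (hv : v ∈ P) (h1 : v ≠ 1) : C[Z[v]] ⊓ stab N[P] e ≤ C[P] := fun g hg =>
  h.hm.free_of_cyclic h.cyc hg.2 hv h1 (by rw [mem_cent_zpowers.1 hg.1, mul_inv_cancel_right])

theorem free_aut {σ : MulAut P} (hσ : σ ∈ autE P e) {v : P} (h1 : v ≠ 1) (h2 : σ v = v) :
    σ = 1 := by
  obtain ⟨t, ht, h3⟩ := mem_autE.1 hσ
  have := h.hm.free_of_cyclic h.cyc ht v.2 (by simpa using h1) (by rw [← h3, h2])
  ext w
  rw [h3, mem_cent_iff_conj.1 this _ w.2, MulAut.one_apply]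

theorem free_lin {σ : MulAut P} (hσ : σ ∈ autE P e) {l : P →* ℂˣ} (h1 : l ≠ 1)
    (h2 : ∀ v, l (σ v) = l v) : σ = 1 := by_contra fun h3 => h1 (MonoidHom.ext fun v => by
  obtain ⟨w, rfl⟩ := surj_of_free (map_mul σ) (fun v h4 => by_contra fun h5 =>
    h3 (h.free_aut hσ h5 h4)) v
  simp [h2])

theorem stab_le_norm : stab N[P] e ≤ N[Z[u]] :=
  (stab_le _ _).trans (CfsgH2.norm_le_norm_of_cyclic h.cyc h.zle)

theorem cent_le {v : G} (hv : v ∈ P) (h1 : v ≠ 1) : C[Z[v]] ≤ C[Z[u]] :=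
  cent_anti (zpowers_le_of_cyclic h.hm.pr.pgrp h.cyc h.mem h.ord hv h1)

theorem map_eq : (P.subgroupOf C[Z[u]]).map (C[Z[u]]).subtype = P :=
  Subgroup.map_subgroupOf_eq_of_le h.le

theorem relIndex_dvd : C[P].relIndex (stab N[P] e) ∣ p - 1 := by
  have h1 := (exists_gen_of_le_norm h.ord h.stab_le_norm).1
  rwa [← Subgroup.inf_relIndex_right, le_antisymm (h.free h.mem h.ne_one)
    (le_inf (cent_anti h.zle) h.hm.pr.cent_le_stab)] at h1

theorem exists_abF {θ : IrrCharacter C[Z[u]]} (hθ : θ ∈ β) :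
    ∃ Φ, AbF p (Subgroup.inclusion h.le) (P.subgroupOf C[Z[u]]) e' β Φ ∧ Φ 1 = θ := by
  have hi := (C[Z[u]]).subtype_injective
  refine CfsgH4.exists_abF h.hm' h.hβ (Subgroup.inclusion_injective _) (Subgroup.inclusion_range _)
    (fun x hx => (map_centralizer_inf hi _ x).1 (h.map_eq.symm ▸ h.comm hx)) (fun t ht => ?_) hθ
  rw [← map_mem_stab_iff hi, h.map_eq, h.inc_e] at ht
  exact (map_centralizer_inf hi _ t).1 (h.map_eq.symm ▸ h.free h.mem h.ne_one ⟨t.2, ht⟩)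

theorem cP_conj [Fintype C[Z[u]]] {t : G} (ht : t ∈ stab N[P] e) (a c : C[Z[u]] → ℂ) {v : C[Z[u]]}
    (hv : (v : G) ∈ P) : cP p (P.subgroupOf C[Z[u]]) e' a c
      (cjHom t (conj_mem_cent_of_norm (h.stab_le_norm ht)) v) = cP p (P.subgroupOf C[Z[u]]) e'
        (fun x => a (cjHom t (conj_mem_cent_of_norm (h.stab_le_norm ht)) x))
        (fun x => c (cjHom t (conj_mem_cent_of_norm (h.stab_le_norm ht)) x)) v := by
  have h1 := cjHom_bijective t (conj_mem_cent_of_norm (h.stab_le_norm ht)) fun l hl => by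
    simpa using conj_mem_cent_of_norm (h.stab_le_norm (inv_mem ht)) l hl
  rw [← h.hm'.pr.cP_inc h1.1 hv (by rw [MonoidHom.range_eq_top.2 h1.2]; exact le_top)]
  congr 1
  · refine (Subgroup.eq_of_le_of_card_ge ?_ (Subgroup.card_map_of_injective h1.1).ge).symm
    rintro _ ⟨x, hx, rfl⟩
    exact conj_mem_of_norm ht.1 _ hx
  · refine inc_injective (C[Z[u]]).subtype_injective ?_
    rw [inc_cjHom, h.inc_e, ht.2]

theorem mem_of_conj {t : G} (ht : t ∈ stab N[P] e) {θ θ' : IrrCharacter C[Z[u]]} (hθ : θ ∈ β)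
    (h1 : ∀ x, θ'.1 x = θ.1 (cjHom t (conj_mem_cent_of_norm (h.stab_le_norm ht)) x)) : θ' ∈ β := by
  have h2 := h.stab_le_norm (inv_mem ht)
  refine (stab_forall_iff h.hβ (x := t⁻¹) (Subgroup.mem_normalizer_fintype
    (conj_mem_cent_of_norm h2))).2 ?_ θ hθ θ' fun x y hy => ?_
  · rw [h.ie_eq]
    exact (h.hm.pr.ple_dn h.zle).cnj_eq h.hm.pr (inv_mem ht) h2
  · rw [h1]
    exact congrArg _ (Subtype.ext (by simp [coe_cjHom, hy, mul_assoc]))

theorem exists_stable : ∃ θ ∈ β, ∀ t ∈ stab N[P] e, ∀ c c' : C[Z[u]],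
    (c' : G) = t * c * t⁻¹ → θ.1 c' = θ.1 c := by
  have := Fintype.ofFinite C[Z[u]]
  obtain ⟨-, t, ht, h1⟩ := exists_gen_of_le_norm h.ord h.stab_le_norm
  have hb := cjHom_bijective t (conj_mem_cent_of_norm (h.stab_le_norm ht)) fun l hl => by
    simpa using conj_mem_cent_of_norm (h.stab_le_norm (inv_mem ht)) l hl
  suffices ∃ θ ∈ β, irrComp _ hb.2 θ = θ by
    obtain ⟨θ, h2, h3⟩ := this
    refine ⟨θ, h2, fun g hg c c' hc => ?_⟩
    obtain ⟨j, hj⟩ := h1 g hg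
    rw [← θ.2.isClassFunction c ⟨_, hj⟩]
    generalize hd : (⟨_, hj⟩ : C[Z[u]]) * c * (⟨_, hj⟩ : C[Z[u]])⁻¹ = d
    have h4 : (c' : G) = t ^ j * d * (t ^ j)⁻¹ := by rw [← hd, hc]; simp [mul_assoc]
    clear hd hj hc
    induction j generalizing d with
    | zero => exact congrArg _ (Subtype.ext (by simpa using h4))
    | succ j ih =>
      conv_rhs => rw [← h3]
      exact ih _ (by rw [h4, coe_cjHom]; group)
  obtain ⟨θ, hθ⟩ := h.hβ.nonempty
  by_cases h2 : t ∈ C[Z[u]]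
  · exact ⟨θ, hθ, Subtype.ext (funext fun c => θ.2.isClassFunction c ⟨t, h2⟩)⟩
  obtain ⟨Φ, hΦ, -⟩ := h.exists_abF hθ
  have h3 : ∀ l, irrComp _ hb.2 (Φ l) ∈ β := fun l => h.mem_of_conj ht (hΦ.mem_B l) fun _ => rfl
  obtain ⟨m, hm⟩ := (hΦ.mem _).1 (h3 1)
  let κ := cjHom t (conj_mem_of_norm ht.1)
  have hc := comm_of_le_cent h.comm
  obtain ⟨l, hl⟩ := Finite.injective_iff_surjective.1 (show Function.Injective
      fun l : P →* ℂˣ => l / l.comp κ from fun l l' h4 => MonoidHom.ext fun v => by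
    obtain ⟨w, rfl⟩ := surj_of_free (map_mul κ) (fun v h5 => by_contra fun h6 =>
      h2 (cent_anti h.zle (h.hm.free_of_cyclic h.cyc ht v.2 (by simpa using h6)
        (congrArg Subtype.val h5)))) v
    have := congrArg (·⁻¹) (DFunLike.congr_fun h4 w)
    simpa [div_eq_inv_mul] using this) m
  obtain ⟨l', hl'⟩ := (hΦ.mem _).1 (h3 l)
  refine ⟨Φ l, hΦ.mem_B l, hl'.symm.trans (congrArg Φ (MonoidHom.ext fun v => Units.ext ?_))⟩
  have h4 := hΦ.cP_eq l 1 (κ v)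
  have h5 := hΦ.cP_eq l' m v
  rw [hl', hm] at h5
  have h6 := (h4.symm.trans (congrArg _ (h.cP_conj ht (Φ l).1 (Φ 1).1
    (v := Subgroup.inclusion h.le v) v.2))).trans h5
  rw [← hl, conj_lin, conj_lin] at h6
  simp only [MonoidHom.one_apply, Units.val_one, mul_one, map_inv, MonoidHom.div_apply,
    MonoidHom.comp_apply, inv_div, Units.val_div_eq_div_val] at h6
  field_simp at h6
  simpa using h6.symm

end CyL

end CfsgH4
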