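import Cfsg.Agent.H4.Cy4

/-! The ordinary characters of a block with a cyclic defect group. -/

set_option autoImplicit false
open Cfsg MonoidAlgebra CfsgL0 CfsgH1 CfsgH4
open CfsgH3 hiding cj cj_cj
open scoped ComplexConjugate Pointwise

namespace CfsgH4

local notation "C[" Q "]" => Subgroup.centralizer (SetLike.coe (Q : Subgroup _))
local notation "N[" Q "]" => Subgroup.normalizer (SetLike.coe (Q : Subgroup _))
local notation "Z[" u "]" => Subgroup.zpowers u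

variable {G : Type*} [Group G] [Finite G] {M : Ideal AlgInt} {p : ℕ} [hM : PMod p M]
  [hp : Fact p.Prime] {P : Subgroup G} {e : (Res M)[G]} {B : Set (IrrCharacter G)} {u : G}
  {β : Set (IrrCharacter C[Z[u]])} {e' : (Res M)[C[Z[u]]]}
  {Φ : (P →* ℂˣ) → IrrCharacter C[Z[u]]}

variable (p P e B u β e' Φ) in
/-- Local data together with a parametrisation based at a stable character. -/
structure CyD : Prop extends CyL p P e B u β e' where
  abf : AbF p (Subgroup.inclusion toCyL.le) (P.subgroupOf C[Z[u]]) e' β Φ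
  st : ∀ t ∈ stab N[P] e, ∀ c c' : C[Z[u]], (c' : G) = t * c * t⁻¹ → (Φ 1).1 c' = (Φ 1).1 c

theorem CyL.exists_cyD (h : CyL p P e B u β e') : ∃ Φ, CyD p P e B u β e' Φ := by
  obtain ⟨θ, h1, h2⟩ := h.exists_stable
  obtain ⟨Φ, h3, rfl⟩ := h.exists_abF h1
  exact ⟨Φ, h, h3, h2⟩

variable (Φ) in
/-- Generalized decomposition numbers. -/
noncomputable abbrev dG [Fintype C[Z[u]]] (a : G → ℂ) : P → ℂ := dl Φ fun c => a c

variable (e) in
/-- The orbit relation on linear characters of `P`. -/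
def Orb (l l' : P →* ℂˣ) : Prop := ∃ σ ∈ autE P e, ∀ v, l (σ v) = l' v

omit [Finite G] hp in
theorem orb_equiv : Equivalence (Orb (P := P) e) :=
  ⟨fun _ => ⟨1, one_mem _, fun _ => rfl⟩, fun ⟨σ, h1, h2⟩ => ⟨σ⁻¹, inv_mem h1, fun v => by
    rw [← h2]; simp⟩, fun ⟨σ, h1, h2⟩ ⟨τ, h3, h4⟩ => ⟨σ * τ, mul_mem h1 h3, fun v => by
      rw [← h4, ← h2]; rfl⟩⟩

omit [Finite G] hp in
theorem Orb.ne_one {l l' : P →* ℂˣ} (h : Orb e l l') (h1 : l ≠ 1) : l' ≠ 1 := fun h2 =>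
  h1 (MonoidHom.ext fun v => by
    obtain ⟨σ, -, h3⟩ := h
    simpa [h2] using h3 (σ.symm v))

namespace CyD
variable (h : CyD p P e B u β e' Φ)
include h

theorem pr : Pr p Z[u] (ie M _ β) := h.ie_eq ▸ h.hm.pr.pr_dn h.toCyL.zle

theorem ple : PLe p Z[u] (ie M _ β) P e := h.ie_eq ▸ h.hm.pr.ple_dn h.toCyL.zle

theorem inv_fB : Inv (stab N[Z[u]] (ie M _ β)) (inc (C[Z[u]]).subtype (fB {Φ 1})) := fun g hg => by
  obtain ⟨y, hy, c, hc, rfl⟩ := h.hm.exists_mul_of_comm h.toCyL.comm h.ple hg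
  have h1 := conj_mem_cent_of_norm (h.toCyL.stab_le_norm hy)
  have h2 := cjHom_surjective y h1 fun l hl => by
    simpa using conj_mem_cent_of_norm (h.toCyL.stab_le_norm (inv_mem hy)) l hl
  rw [← cnj_cnj, (mem_ZA.1 (inc_fB_mem_ZA' _ _)).2 c hc, ← inc_cjHom y h1, ← fB_comap h2]
  congr 2
  have h3 : irrComp _ h2 (Φ 1) = Φ 1 := Subtype.ext (funext fun c => h.st y hy _ _ rfl)
  ext ξ
  exact ⟨fun h4 => irrComp_injective _ h2 (h4.trans h3.symm), fun h4 => h4 ▸ h3⟩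

theorem exists_ce : ∃ a x, CE M p a β ⟨u, h.toCyL.le h.mem⟩ x (Φ 1)
    (Subgroup.inclusion h.pr.cent_le_stab) := by
  obtain ⟨g, hg⟩ := h.cyc.exists_generator
  obtain ⟨k, hk⟩ := IsPGroup.iff_card.1 h.hm.pr.pgrp
  obtain ⟨a, rfl⟩ : ∃ a, k = a + 1 := Nat.exists_eq_succ_of_ne_zero fun h1 => h.toCyL.ne_one (by
    simpa [Subgroup.card_eq_one.1 (hk.trans (by rw [h1, pow_zero]))] using h.mem)
  have h1 : orderOf (g ^ p ^ a) = p := by
    rw [orderOf_pow, orderOf_eq_card_of_forall_mem_zpowers hg, hk,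
      Nat.gcd_eq_right (pow_dvd_pow p a.le_succ), pow_succ', Nat.mul_div_cancel _ (pow_pos hp.out.pos a)]
  obtain ⟨j, hj⟩ := (Submonoid.mem_powers_iff _ _).1 (mem_powers_iff_mem_zpowers.2
    (h.toCyL.cyc |> fun hc => zpowers_le_of_cyclic h.hm.pr.pgrp hc h.mem h.ord (g ^ p ^ a).2
      (fun h2 => hp.out.one_lt.ne' (by
        rw [← h1, orderOf_eq_one_iff]; exact Subtype.ext h2)) (Subgroup.mem_zpowers u)))
  have h2 : ¬ p ∣ j := fun ⟨i, hi⟩ => h.toCyL.ne_one (by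
    rw [← hj, hi, pow_mul, ← Subgroup.coe_pow, show (g ^ p ^ a) ^ p = 1 from by
      simpa only [h1] using pow_orderOf_eq_one (g ^ p ^ a)]
    simp)
  have h3 : Subgroup.inclusion h.toCyL.le ((g ^ j) ^ p ^ a) = ⟨u, h.toCyL.le h.mem⟩ :=
    Subtype.ext (by rw [← pow_mul, mul_comm, pow_mul]; exact hj)
  obtain ⟨x, hx⟩ := h.abf.exists_cd (u := g ^ j) (a := a) (fun y =>
    Subgroup.zpowers_le.2 (mem_zpowers_pow_iff.2 (by
      rw [orderOf_eq_card_of_forall_mem_zpowers hg, hk]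
      exact ((Nat.coprime_comm.1 ((hp.out.coprime_iff_not_dvd).2 h2)).pow_right _))) (hg y)) hk
    (h3 ▸ Subgroup.mem_center_iff.2 fun c => Subtype.ext (mem_cent_zpowers.1 c.2))
  obtain ⟨h4, t, ht, h5⟩ := exists_gen_of_le_norm h.ord (stab_le N[Z[u]] (ie M _ β))
  have hi := (stab N[Z[u]] (ie M _ β)).subtype_injective
  refine ⟨a, x, h3 ▸ hx, by rw [Subgroup.orderOf_mk, h.ord], h.abf.mem_B 1,
    Subgroup.inclusion_injective _, ?_, fun h6 => ?_, ⟨⟨t, ht⟩, fun g => ?_⟩, ?_, ?_⟩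
  · rw [Subgroup.inclusion_range]
    exact ⟨fun n hn g => conj_mem_cent_of_norm g.2.1 _ hn⟩
  · rw [Subgroup.inclusion_range] at h6
    have := hp.out.two_le
    exact absurd (Nat.le_of_dvd (by omega) (h6.trans h4)) (by omega)
  · obtain ⟨j, hj⟩ := h5 g g.2
    exact ⟨j, ⟨_, hj⟩, Subtype.ext (by simp)⟩
  · rw [← inv_inc_iff hi, inc_inclusion, ← MonoidHom.range_eq_map, Subgroup.range_subtype]
    exact h.inv_fB
  · rw [← inv_inc_iff hi, inc_inclusion, ← MonoidHom.range_eq_map, Subgroup.range_subtype]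
    exact inv_stab _ _

theorem loc (g : G) (hg : g⁻¹ * u * g ∈ stab N[Z[u]] (ie M _ β)) : g ∈ stab N[Z[u]] (ie M _ β) ∨
    ie M _ β * cnj g (ie M _ β) = 0 ∨ br Z[g⁻¹ * u * g] (ie M _ β) = 0 := by
  by_cases h1 : g ∈ N[Z[u]]
  · have h2 := h.pr.cnj g
    rw [mem_normalizer_iff_cj.1 h1] at h2
    exact (h.pr.blk.eq_or le_rfl h2.blk).imp (fun h3 => ⟨h1, h3.symm⟩) .inl
  refine .inr (.inr (by_contra fun h2 => h1 ?_))
  have h3 : orderOf (g⁻¹ * u * g) = p := by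
    rw [← h.ord]; simpa using (MulAut.conj g⁻¹).orderOf_eq u
  obtain ⟨x, h4, h5⟩ := h.hm.exists_cnj_le h.pr (h.hm.of_ple h.ple).2
    (isPGroup_zpowers_of_pelt ⟨1, by rw [h3, pow_one]⟩) (Subgroup.zpowers_le.2 hg) h2
  have h6 := cj_injective x (CfsgH2.eq_of_card_eq_of_cyclic h.cyc h4.le h5
    (by rw [card_cj, card_cj, Nat.card_zpowers, Nat.card_zpowers, h3, h.ord]))
  rw [← inv_mem_iff, mem_normalizer_iff_cj, cj_zpowers, inv_inv, ← h6]

variable [Fintype C[Z[u]]]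

theorem window : ∃ m : IrrCharacter G → (P →* ℂˣ) → ℕ,
    (∀ χ l, classInner (fun c : C[Z[u]] => χ.1 c) (Φ l).1 = m χ l) ∧
    ∀ S : Finset (IrrCharacter G), (∀ χ ∈ S, ∀ χ' ∈ S, rg p χ.1 = rg p χ'.1) → ∀ l l',
      ∑ χ ∈ S, m χ l ≤ ∑ χ ∈ S, m χ l' + 1 := by
  obtain ⟨a, x, h1⟩ := h.exists_ce
  choose m hm using fun (χ : IrrCharacter G) (ξ : IrrCharacter C[Z[u]]) =>
    (χ.2.isCharacter.comp (C[Z[u]]).subtype).exists_nat_classInner ξ.2.isCharacter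
  exact ⟨fun χ l => m χ (Φ l), fun χ l => hm χ _, fun S hS l l' => h1.window (fun ξ hξ => by
    obtain ⟨l, rfl⟩ := (h.abf.mem ξ).1 hξ
    exact h.abf.apply_one l) rfl h.loc hS hm (h.abf.mem_B l) (h.abf.mem_B l')⟩

theorem dG_aut {a : G → ℂ} (ha : IsClassFunction G a) {σ : MulAut P} (hσ : σ ∈ autE P e) (v : P) :
    dG Φ a (σ v) = dG Φ a v := by
  obtain ⟨t, ht, h1⟩ := mem_autE.1 hσ
  have h2 := h.abf.cP_right (ha.comp (C[Z[u]]).subtype) 1
  simp only [MonoidHom.one_apply, Units.val_one, map_one, mul_one] at h2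
  have h3 := h.toCyL.cP_conj ht (fun c => a c) (Φ 1).1 (v := Subgroup.inclusion h.toCyL.le v) v.2
  rw [show cjHom t _ (Subgroup.inclusion h.toCyL.le v) = Subgroup.inclusion h.toCyL.le (σ v) from
    Subtype.ext (h1 v).symm, funext fun c => h.st t ht c (cjHom t _ c) rfl] at h3
  simp only [coe_cjHom, ha _ t] at h3
  exact (h2 _).symm.trans ((congrArg _ h3).trans (h2 _))

variable [Fintype G]

theorem cP_eq {a c : G → ℂ} (ha : IsClassFunction G a) (hc : IsClassFunction G c) {v : P}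
    (hv : v ≠ 1) : Nat.card P * cP p P e a c v = dG Φ a v * conj (dG Φ c v) := by
  have h1 := h.hm'.pr.cP_inc (C[Z[u]]).subtype_injective (v := Subgroup.inclusion h.toCyL.le v) v.2
    (by simpa using h.toCyL.cent_le v.2 (by simpa using hv)) a c
  rw [h.toCyL.map_eq, h.inc_e] at h1
  exact (congrArg _ h1).trans (h.abf.cP_dl (ha.comp _) (hc.comp _) v)

theorem dG_of_notMem {χ : IrrCharacter G} (hχ : χ ∉ B) {v : P} (hv : v ≠ 1) : dG Φ χ.1 v = 0 := by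
  have := h.cP_eq χ.2.isClassFunction χ.2.isClassFunction hv
  rw [h.hm.cP_of_notMem h.hB hχ v.2] at this
  simpa using this

theorem dG_ne_zero {χ : IrrCharacter G} (hχ : χ ∈ B) {v : P} (hv : v ≠ 1) : dG Φ χ.1 v ≠ 0 := by
  obtain ⟨ψ, -, h1⟩ := h.hm.exists_cP_ne h.hB h.toCyL.comm
  have := h.cP_eq χ.2.isClassFunction ψ.2.isClassFunction hv
  exact left_ne_zero_of_mul
    (this ▸ mul_ne_zero (Nat.cast_ne_zero.2 Nat.card_pos.ne') (h1 χ hχ v v.2))

variable [Fintype P]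

open Classical in
theorem classInner_bs {η : G → ℂ} (hη : FSt p P e η) {a c : G → ℂ} (ha : IsClassFunction G a)
    (hc : IsClassFunction G c) : classInner (bs p P e η a) c = η 1 * cP p P e a c 1 +
      ((Nat.card P : ℂ) * Nat.card (autE P e))⁻¹ *
        ∑ v : P with v ≠ 1, η v * (dG Φ a v * conj (dG Φ c v)) := by
  rw [h.hm.pr.classInner_bs hη ha hc, sum_mem_eq, ← Finset.add_sum_erase _ _ (Finset.mem_univ 1),
    Finset.mul_sum, Subgroup.coe_one, h.hm.pr.fw_one, one_mul, Finset.filter_ne']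
  congr 1
  refine Finset.sum_congr rfl fun v hv => ?_
  have h1 := (Finset.mem_erase.1 hv).1
  rw [h.hm.fw_of_free h.toCyL.comm v.2 (h.toCyL.free v.2 (by simpa using h1)), ← card_autE,
    ← h.cP_eq ha hc h1]
  field_simp [Nat.cast_ne_zero.2 (Nat.card_pos (α := P)).ne']

omit [Fintype C[Z[u]]] [Fintype G] [Fintype P] in
theorem fSt_ext {f : P → ℂ} (hf : ∀ σ ∈ autE P e, ∀ v, f (σ v) = f v) :
    FSt p P e (extendByZero P f) := h.hm.fSt_of_comm h.toCyL.comm fun v hv t ht => by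
  rw [extendByZero_of_mem _ hv, extendByZero_of_mem _ (conj_mem_of_norm ht.1 v hv)]
  exact hf _ ⟨⟨t, ht⟩, rfl⟩ ⟨v, hv⟩

theorem exists_J {f : P → ℂ} (hf : ∀ σ ∈ autE P e, ∀ v, f (σ v) = f v) (h1 : f 1 = 0) :
    ∃ J, IsClassFunction G J ∧ (∀ c, IsClassFunction G c → classInner J c =
      ((Nat.card P : ℂ) * Nat.card (autE P e))⁻¹ * ∑ v, f v * conj (dG Φ c v)) ∧
      (∀ v, v ≠ 1 → dG Φ J v = f v) ∧ ∀ g, ¬ p ∣ orderOf g → J g = 0 := by
  classical
  obtain ⟨χ, hχ⟩ := h.hB.nonempty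
  have hc := χ.2.isClassFunction
  have h2 := h.fSt_ext (f := fun v => f v / dG Φ χ.1 v) fun σ hσ v => by
    rw [hf σ hσ, h.dG_aut hc hσ]
  have h3 : extendByZero P (fun v => f v / dG Φ χ.1 v) 1 = 0 := by
    rw [← Subgroup.coe_one, extendByZero_coe, h1, zero_div]
  refine ⟨_, h2.isClassFunction hc, fun c hc' => ?_, fun v hv => ?_, fun g hg => by
    rw [h.hm.bs_reg h.hB h2 hc hg, h3, zero_mul]⟩
  · rw [h.classInner_bs h2 hc hc', h3, zero_mul, zero_add, Finset.sum_filter]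
    congr 1
    refine Finset.sum_congr rfl fun v _ => ?_
    split_ifs with h4
    · rw [extendByZero_coe, ← mul_assoc, div_mul_cancel₀ _ (h.dG_ne_zero hχ h4)]
    · rw [not_not.1 h4, h1, zero_mul]
  · have h4 := h.cP_eq (h2.isClassFunction hc) hc hv
    rw [h.hm.pr.cP_left h2 v.2 hc, mul_left_comm, h.cP_eq hc hc hv, extendByZero_coe, ← mul_assoc,
      div_mul_cancel₀ _ (h.dG_ne_zero hχ hv)] at h4
    exact (mul_right_cancel₀ ((map_ne_zero _).2 (h.dG_ne_zero hχ hv)) h4).symm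

end CyD

variable (p e B Φ) in
/-- The character theory of a block with cyclic defect group. -/
structure CyS [Fintype C[Z[u]]] (X : Finset (IrrCharacter G)) (y : (P →* ℂˣ) → IrrCharacter G)
    (ε : IrrCharacter G → ℤ) (δ : ℤ) : Prop where
  card : X.card = Nat.card (autE P e)
  sgn : ∀ χ, ε χ = 1 ∨ ε χ = -1
  sgn' : δ = 1 ∨ δ = -1
  mem : ∀ χ, χ ∈ B ↔ χ ∈ X ∨ ∃ l, l ≠ 1 ∧ y l = χ
  notMem : ∀ l, l ≠ 1 → y l ∉ X
  eq_iff : ∀ l l', l ≠ 1 → l' ≠ 1 → (y l = y l' ↔ Orb e l l')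
  dX : ∀ χ ∈ X, ∀ v, v ≠ 1 → dG Φ χ.1 v = -ε χ
  dY : ∀ l, l ≠ 1 → ∀ v, v ≠ 1 → dG Φ (y l).1 v = δ * ∑ σ : autE P e, (l (σ.1 v) : ℂ)
  rel : ∀ l, l ≠ 1 → ∀ g, ¬ p ∣ orderOf g → δ * (y l).1 g + ∑ χ ∈ X, ε χ * χ.1 g = 0

open Classical in
theorem CyL.sum_ite (h : CyL p P e B u β e') {l : P →* ℂˣ} (hl : l ≠ 1) (f : (P →* ℂˣ) → ℂ) :
    ∑ σ : autE P e, f (l.comp σ.1.toMonoidHom) = ∑ l', if Orb e l l' then f l' else 0 := by
  rw [← Finset.sum_filter]
  refine Finset.sum_bij (fun σ _ => l.comp σ.1.toMonoidHom) (fun σ _ => by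
    simpa using ⟨σ.1, σ.2, fun _ => rfl⟩) (fun σ _ τ _ h1 => ?_) (fun l' h1 => ?_) fun _ _ => rfl
  · refine Subtype.ext (mul_inv_eq_one.1 (h.free_lin (mul_mem σ.2 (inv_mem τ.2)) hl fun v => ?_))
    simpa using DFunLike.congr_fun h1 (τ.1⁻¹ v)
  · obtain ⟨σ, h2, h3⟩ := (Finset.mem_filter.1 h1).2
    exact ⟨⟨σ, h2⟩, Finset.mem_univ _, MonoidHom.ext h3⟩

theorem CyL.exists_lin (h : CyL p P e B u β e') : ∃ l : P →* ℂˣ, l ≠ 1 := by
  obtain ⟨l, -, h1⟩ := exists_unitsHom_of_not_mem (N := (⊥ : Subgroup P)) (v := ⟨u, h.mem⟩)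
    (fun a b => by simp [comm_of_le_cent h.comm a b]) (by simpa using h.ne_one)
  exact ⟨l, fun h2 => h1 (by rw [h2]; rfl)⟩

theorem CyD.exists_cyS (h : CyD p P e B u β e' Φ) [Fintype C[Z[u]]] :
    ∃ X y ε δ, CyS p e B Φ X y ε δ := by
  classical
  have := Fintype.ofFinite G
  have := Fintype.ofFinite P
  have hq : (Nat.card P : ℂ) ≠ 0 := Nat.cast_ne_zero.2 Nat.card_pos.ne'
  have he : (Nat.card (autE P e) : ℂ) ≠ 0 := Nat.cast_ne_zero.2 Nat.card_pos.ne'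
  have hc := comm_of_le_cent h.toCyL.comm
  obtain ⟨m, hm, hw⟩ := h.window
  obtain ⟨μ, hμ⟩ : ∃ μ : IrrCharacter G → (P →* ℂˣ) → ℤ, ∀ χ l, μ χ l = m χ l - m χ 1 :=
    ⟨_, fun _ _ => rfl⟩
  have h1 : ∀ χ v, v ≠ 1 → dG Φ χ.1 v = ∑ l, μ χ l * (l v : ℂ) := fun χ v hv => by
    simp [dl, hm, hμ, sub_mul, ← Finset.mul_sum, sum_lin hc, hv]
  have h2 : ∀ (l : P →* ℂˣ) (g : P → ℂ), (∀ σ ∈ autE P e, ∀ v, g (σ v) = g v) →
      ((Nat.card P : ℂ) * Nat.card (autE P e))⁻¹ * ∑ v, (∑ σ : autE P e, ((l (σ.1 v) : ℂ) - 1)) *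
        conj (g v) = (Nat.card P : ℂ)⁻¹ * ∑ v, ((l v : ℂ) - 1) * conj (g v) := fun l g hg => by
    simp only [Finset.sum_mul]
    rw [Finset.sum_comm, Finset.sum_congr rfl fun σ _ => (Finset.sum_congr rfl fun v _ => by
      rw [← hg σ.1 σ.2 v]; rfl).trans
        (Equiv.sum_comp σ.1.toEquiv fun v => ((l v : ℂ) - 1) * conj (g v)),
      Finset.sum_const, Finset.card_univ, ← Nat.card_eq_fintype_card, nsmul_eq_mul]
    field_simp
  have h3 : ∀ l l' : P →* ℂˣ, (Nat.card P : ℂ)⁻¹ * ∑ v, ((l v : ℂ) - 1) * conj (l' v : ℂ) =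
      (if l = l' then 1 else 0) - if 1 = l' then 1 else 0 := fun l l' => by
    have := sum_lin_mul_conj 1 l'
    simp only [MonoidHom.one_apply, Units.val_one] at this
    simp only [sub_mul, Finset.sum_sub_distrib, sum_lin_mul_conj, this]
    split_ifs <;> simp [hq]
  have h4 : ∀ (l : P →* ℂˣ), ∀ τ ∈ autE P e, ∀ v, ∑ σ : autE P e, ((l (σ.1 (τ v)) : ℂ) - 1) =
      ∑ σ : autE P e, ((l (σ.1 v) : ℂ) - 1) := fun l τ hτ v =>
    Equiv.sum_comp (Equiv.mulRight (⟨τ, hτ⟩ : autE P e)) fun σ : autE P e => (l (σ.1 v) : ℂ) - 1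
  choose J hJ1 hJ2 hJ3 hJ4 using fun l : P →* ℂˣ =>
    h.exists_J (f := fun v => ∑ σ : autE P e, ((l (σ.1 v) : ℂ) - 1)) (h4 l) (by simp)
  have h5 : ∀ l (χ : IrrCharacter G), classInner (J l) χ.1 = μ χ l := fun l χ => by
    rw [hJ2 l _ χ.2.isClassFunction, h2 l _ fun σ hσ => h.dG_aut χ.2.isClassFunction hσ]
    simp only [dl, hm, map_sum, map_mul, map_natCast, Finset.mul_sum _ _ (_ - _ : ℂ),
      mul_left_comm _ (m _ _ : ℂ)]
    rw [Finset.sum_comm, Finset.mul_sum]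
    simp only [← Finset.mul_sum, mul_left_comm _ (m _ _ : ℂ), h3]
    simp [mul_sub, hμ]
  have h6 : ∀ l l', l ≠ 1 → l' ≠ 1 → ∑ χ, μ χ l * μ χ l' =
      Nat.card (autE P e) + if Orb e l l' then 1 else 0 := fun l l' hl hl' => by
    have h6 := (hJ1 l).classInner_eq_sum_irr (J l')
    simp only [h5, ← conj_classInner (J l'), map_intCast] at h6
    rw [conj_classInner, hJ2 l _ (hJ1 l'), Finset.sum_congr rfl (g := fun v =>
      (∑ σ : autE P e, ((l (σ.1 v) : ℂ) - 1)) * conj (∑ σ : autE P e, ((l' (σ.1 v) : ℂ) - 1)))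
      fun v _ => by by_cases hv : v = 1 <;> simp [hv, hJ3], h2 _ _ (h4 l')] at h6
    simp only [map_sum, Finset.mul_sum _ _ (_ - _ : ℂ), map_sub, mul_sub] at h6
    rw [Finset.sum_comm, Finset.mul_sum] at h6
    have h7 := h.toCyL.sum_ite hl' fun k => (if l = k then 1 else 0) - if 1 = k then 1 else 0
    have h8 := h3 l 1
    simp only [MonoidHom.one_apply, Units.val_one] at h8
    simp only [Finset.sum_sub_distrib (s := Finset.univ (α := P)), mul_sub, h8] at h6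
    rw [Finset.sum_sub_distrib, Finset.sum_congr rfl fun σ _ => h3 l (l'.comp σ.1.toMonoidHom), h7,
      Finset.sum_eq_single l (fun k _ hk => by
        by_cases a1 : Orb e l' k
        · simp [hk.symm, (a1.ne_one hl').symm]
        · exact if_neg a1)
        (by simp)] at h6
    rw [← Int.cast_inj (α := ℂ)]
    push_cast
    rw [← h6]
    simp [hl, hl.symm, show Orb e l' l ↔ Orb e l l' from ⟨orb_equiv.symm, orb_equiv.symm⟩, add_comm]
  have h7 : ∀ l g, ¬ p ∣ orderOf g → ∑ χ, (μ χ l : ℂ) * χ.1 g = 0 := fun l g hg => by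
    simpa only [h5, hJ4 l g hg] using ((hJ1 l).apply_eq_sum_irr g).symm
  have h8 : ∀ χ, ∃ ε : ℤ, (ε = 1 ∨ ε = -1) ∧ ∀ l, μ χ l = 0 ∨ μ χ l = ε := fun χ => by
    have h8 := hw {χ} (by simp)
    simp only [Finset.sum_singleton] at h8
    by_cases h9 : ∃ k, μ χ k = 1
    · obtain ⟨k, hk⟩ := h9
      refine ⟨1, .inl rfl, fun l => ?_⟩
      have := h8 l 1
      have := h8 k l
      rw [hμ] at hk ⊢
      omega
    · refine ⟨-1, .inr rfl, fun l => ?_⟩
      have := h8 l 1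
      have := h8 1 l
      have : μ χ l ≠ 1 := fun h => h9 ⟨l, h⟩
      rw [hμ] at this ⊢
      omega
  choose ε h8 h9 using h8
  have := nonempty_subtype.2 h.toCyL.exists_lin
  obtain ⟨X, y, δ, a1, a2, a3, a4⟩ := comb_cyc (Λ := {l : P →* ℂˣ // l ≠ 1})
    (r := fun l l' => Orb e l.1 l'.1) (orb_equiv.comap Subtype.val) (μ := fun χ l => μ χ l.1) h8
    (fun l l' => h6 _ _ l.2 l'.2) (fun χ l => h9 χ l) fun l l' χ ψ b1 b2 b3 b4 b5 => by
      have b6 : χ ≠ ψ := fun h => b2 (h ▸ b4)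
      have b7 : ∀ g, ¬ p ∣ orderOf g → ε χ * χ.1 g = ε ψ * ψ.1 g := fun g hg => by
        have := congrArg₂ (· - ·) (h7 l g hg) (h7 l' g hg)
        simp only [← Finset.sum_sub_distrib, ← sub_mul] at this
        rw [Finset.sum_eq_add χ ψ b6 (fun ξ _ hξ => by rw [b1 ξ hξ.1 hξ.2]; simp) (by simp) (by simp),
          b3, b4, (h9 χ l).resolve_left b2, (h9 ψ l').resolve_left b5] at this
        linear_combination this
      have b8 : ε χ = ε ψ := by
        have := b7 1 (by simpa using hp.out.one_lt.ne')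
        rw [← coe_charDegree χ.2.isCharacter, ← coe_charDegree ψ.2.isCharacter] at this
        have b9 : ε χ * charDegree χ.1 = ε ψ * charDegree ψ.1 := by exact_mod_cast this
        have := charDegree_ne_zero χ.2
        rcases h8 χ with h | h <;> rcases h8 ψ with h' | h' <;> rw [h, h'] at b9 ⊢ <;> omega
      have b9 : rg p χ.1 = rg p ψ.1 := rg_eq_iff.2 fun g hg => mul_left_cancel₀
        (Int.cast_ne_zero.2 (by rcases h8 ψ with h | h <;> simp [h])) (b8 ▸ b7 g hg)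
      refine ⟨b8, fun k => ?_⟩
      have b10 := hw {χ, ψ} (by simp [b9])
      simp only [Finset.sum_pair b6] at b10
      have := b10 k 1
      have := b10 1 k
      have := h9 χ k
      have := h9 ψ k
      have := h8 ψ
      simp only [hμ] at *
      omega
  have h10 : ∀ χ, μ χ 1 = 0 := fun χ => by simp [hμ]
  have h11 : ∀ χ l, l ≠ 1 → μ χ l ≠ 0 → χ ∈ B := fun χ l hl h11 => by_contra fun h12 => h11 (by
    have := h5 l χ
    rw [hJ2 l _ χ.2.isClassFunction, Finset.sum_eq_zero fun v _ => by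
      by_cases hv : v = 1 <;> simp [hv, h.dG_of_notMem h12]] at this
    exact_mod_cast (mul_zero _).symm.trans this |>.symm)
  have h12 : δ = 1 ∨ δ = -1 := (a3 (Classical.arbitrary _)).2.1 ▸ h8 _
  have h13 : ∀ χ, ε χ ≠ 0 := fun χ => by rcases h8 χ with h | h <;> simp [h]
  have h14 : ∀ l, μ (y l) l.1 = δ := fun l => by simp [(a3 l).2.2 l, orb_equiv.refl]
  have h15 : δ ≠ 0 := by rcases h12 with h | h <;> simp [h]
  obtain ⟨Φ', -⟩ := h.hB.nonempty
  refine ⟨X, fun l => if hl : l = 1 then Φ' else y ⟨l, hl⟩, ε, δ, a1, h8, h12,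
    fun χ => ⟨fun hχ => ?_, ?_⟩, fun l hl => ?_, fun l l' hl hl' => ?_, fun χ hχ v hv => ?_,
    fun l hl v hv => ?_, fun l hl g hg => ?_⟩
  · have b1 := h.dG_ne_zero hχ (v := ⟨u, h.mem⟩) (by simpa using h.toCyL.ne_one)
    rw [h1 _ _ (by simpa using h.toCyL.ne_one)] at b1
    obtain ⟨l, -, b2⟩ := Finset.exists_ne_zero_of_sum_ne_zero b1
    have b3 : μ χ l ≠ 0 := fun h => b2 (by simp [h])
    have b4 : l ≠ 1 := fun h => b3 (h ▸ h10 χ)
    exact (a4 χ ⟨l, b4⟩ b3).imp_right fun h => ⟨l, b4, by rw [dif_neg b4, h]⟩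
  · rintro (b1 | ⟨l, hl, rfl⟩)
    · obtain ⟨l, hl⟩ := h.toCyL.exists_lin
      exact h11 χ l hl (by rw [a2 χ b1 ⟨l, hl⟩]; exact h13 χ)
    · rw [dif_neg hl]
      exact h11 _ l hl (by rw [h14 ⟨l, hl⟩]; exact h15)
  · rw [dif_neg hl]
    exact (a3 _).1
  · rw [dif_neg hl, dif_neg hl']
    refine ⟨fun h => by_contra fun b1 => h15 ?_, fun h => ?_⟩
    · rw [← h14 ⟨l', hl'⟩, ← h, (a3 _).2.2, if_neg b1]
    · exact ((a4 _ ⟨l', hl'⟩ (by rw [(a3 _).2.2, if_pos h]; exact h15)).resolve_left (a3 _).1).symm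
  · have b1 := sum_lin hc v
    rw [if_neg hv, ← Finset.add_sum_erase _ _ (Finset.mem_univ 1)] at b1
    rw [h1 χ v hv, ← Finset.add_sum_erase _ _ (Finset.mem_univ 1), h10, Finset.sum_congr rfl
      fun l hl => by rw [a2 χ hχ ⟨l, (Finset.mem_erase.1 hl).1⟩], ← Finset.mul_sum,
      eq_neg_of_add_eq_zero_right b1]
    simp
  · rw [dif_neg hl, h1 _ v hv, show ∑ σ : autE P e, (l (σ.1 v) : ℂ) = _ from
      h.toCyL.sum_ite hl fun k => (k v : ℂ), Finset.mul_sum]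
    refine Finset.sum_congr rfl fun k _ => ?_
    by_cases hk : k = 1
    · rw [hk, h10, if_neg fun h => Orb.ne_one h hl rfl]
      simp
    · rw [(a3 _).2.2 ⟨k, hk⟩]
      split_ifs <;> simp
  · rw [dif_neg hl, ← h7 l g hg, ← Finset.sum_subset (insert (y ⟨l, hl⟩) X).subset_univ
      fun χ _ hχ => by
        rw [show μ χ l = 0 from
          by_contra fun h => hχ (by simpa [or_comm, eq_comm] using a4 χ ⟨l, hl⟩ h)]
        simp, Finset.sum_insert (a3 _).1, h14 ⟨l, hl⟩]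
    congr 1
    exact Finset.sum_congr rfl fun χ hχ => by rw [a2 χ hχ ⟨l, hl⟩]

end CfsgH4
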