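import Cfsg.Agent.H4.Cy5

/-! Numerical consequences of the character theory of cyclic blocks. -/

set_option autoImplicit false
open Cfsg MonoidAlgebra CfsgL0 CfsgH1 CfsgH4
open CfsgH3 hiding cj cj_cj
open scoped ComplexConjugate Pointwise

namespace CfsgH4

local notation "C[" Q "]" => Subgroup.centralizer (SetLike.coe (Q : Subgroup _))
local notation "N[" Q "]" => Subgroup.normalizer (SetLike.coe (Q : Subgroup _))
local notation "Z[" u "]" => Subgroup.zpowers u

variable {G : Type*} [Group G] [Finite G] {M : Ideal AlgInt} {p : ℕ} [hM : PMod p M]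
  [hp : Fact p.Prime] {P : Subgroup G} {e : (Res M)[G]} {B : Set (IrrCharacter G)} {u : G}
  {β : Set (IrrCharacter C[Z[u]])} {e' : (Res M)[C[Z[u]]]}
  {Φ : (P →* ℂˣ) → IrrCharacter C[Z[u]]}

theorem card_lin {A : Type*} [Group A] [Finite A] (h : ∀ a b : A, a * b = b * a) :
    Nat.card (A →* ℂˣ) = Nat.card A := by
  have := sum_lin h 1
  simp only [map_one, Units.val_one, Finset.sum_const, Finset.card_univ, nsmul_eq_mul, mul_one,
    if_true] at this
  rw [Nat.card_eq_fintype_card]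
  exact_mod_cast this

open Classical in
theorem sum_lin_ne {A : Type*} [Group A] [Finite A] (h : ∀ a b : A, a * b = b * a) {a : A}
    (ha : a ≠ 1) : ∑ l : A →* ℂˣ with l ≠ 1, (l a : ℂ) = -1 := by
  have b1 := sum_lin h a
  rw [if_neg ha, ← Finset.add_sum_erase _ _ (Finset.mem_univ 1)] at b1
  rw [Finset.filter_ne', eq_neg_of_add_eq_zero_right b1]
  simp

open Classical in
/-- The set of exceptional characters. -/
noncomputable def exc {A ι : Type*} [Group A] [Finite A] (y : (A →* ℂˣ) → ι) : Finset ι :=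
  (Finset.univ.filter (· ≠ 1)).image y

theorem mem_exc {A ι : Type*} [Group A] [Finite A] {y : (A →* ℂˣ) → ι} {x : ι} :
    x ∈ exc y ↔ ∃ l, l ≠ 1 ∧ y l = x := by simp [exc]

variable [Fintype C[Z[u]]]

omit hM hp in
theorem dG_sum {ι : Type*} (s : Finset ι) (z : ι → ℂ) (f : ι → G → ℂ) (v : P) :
    dG Φ (∑ i ∈ s, z i • f i) v = ∑ i ∈ s, z i * dG Φ (f i) v := by
  simp only [dl, Finset.mul_sum]
  rw [Finset.sum_comm]
  refine Finset.sum_congr rfl fun l _ => ?_
  rw [show (fun c : C[Z[u]] => (∑ i ∈ s, z i • f i) c) = ∑ i ∈ s, z i • fun c : C[Z[u]] => f i c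
    from by ext; simp, classInner_sum_left, Finset.sum_mul]
  simp only [classInner_smul_left, mul_assoc]

omit hM hp in
theorem dG_sub (a c : G → ℂ) (v : P) : dG Φ (a - c) v = dG Φ a v - dG Φ c v := by
  simp only [dl, ← Finset.sum_sub_distrib, ← sub_mul, ← classInner_sub_left]
  rfl

omit hM hp in
theorem dG_smul (z : ℂ) (a : G → ℂ) (v : P) : dG Φ (z • a) v = z * dG Φ a v := by
  simpa using dG_sum (Φ := Φ) {()} (fun _ => z) (fun _ => a) v

namespace CyD
variable (h : CyD p P e B u β e' Φ)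
include h

theorem dG_blockPart {a : G → ℂ} (ha : IsClassFunction G a) {v : P} (hv : v ≠ 1) :
    dG Φ (blockPart B a) v = dG Φ a v := by
  classical
  have := Fintype.ofFinite G
  conv_rhs => rw [ha.eq_sum_irr]
  rw [blockPart_eq_sum, dG_sum, dG_sum]
  refine Finset.sum_congr rfl fun χ _ => ?_
  split_ifs with h1
  · rfl
  · simp [h.dG_of_notMem h1 hv]

theorem vanish {a : G → ℂ} (ha : IsClassFunction G a) (h0 : ∀ v, v ≠ 1 → dG Φ a v = 0) {g : G}
    (hg : p ∣ orderOf g) : blockPart B a g = 0 := by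
  classical
  have := Fintype.ofFinite G
  have := Fintype.ofFinite P
  have h1 := h.fSt_ext (f := fun v => if v = 1 then 1 else 0) fun σ _ v => by simp
  have h2 := h.fSt_ext (f := fun v => if v = 1 then 0 else 1) fun σ _ v => by simp
  have h3 := (h2.isClassFunction ha).eq_zero_of_orthogonal fun χ hχ => by
    rw [h.classInner_bs h2 ha hχ.isClassFunction, extendByZero_of_mem _ (one_mem P),
      Finset.sum_eq_zero fun v hv => by rw [h0 v (Finset.mem_filter.1 hv).2]; simp]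
    simp
  rw [← h.hm.bs_one h.hB ha, bs_congr (η' := extendByZero P (fun v => if v = 1 then 1 else 0) +
    extendByZero P fun v => if v = 1 then 0 else 1) fun v hv => by
      simp only [Pi.add_apply, extendByZero_of_mem _ hv]; split_ifs <;> simp, bs_add_left, h3,
    add_zero, bs, bst_apply]
  refine Finset.sum_eq_zero fun b _ => mul_eq_zero_of_left ?_ _
  by_cases h4 : ∃ x, PLe p (cj x Z[ppart p g]) (cnj x b) P e
  · obtain ⟨x, hx⟩ := h4
    have h5 : x * ppart p g * x⁻¹ ∈ P := hx.le (by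
      rw [cj_zpowers]; exact Subgroup.mem_zpowers _)
    rw [h1.ext_eq hx, extendByZero_of_mem _ h5, if_neg fun h6 => ppart_eq_one_iff.1 (by
      simpa [mul_inv_eq_one] using congrArg Subtype.val h6) hg]
  · exact ext_of_not h4

theorem eq_of_dG {a c : G → ℂ} (ha : IsClassFunction G a) (hc : IsClassFunction G c)
    (h0 : ∀ v, v ≠ 1 → dG Φ a v = dG Φ c v) {g : G} (hg : p ∣ orderOf g) :
    blockPart B a g = blockPart B c g := by
  have := h.vanish (ha.sub hc) (fun v hv => by rw [dG_sub, h0 v hv, sub_self]) hg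
  rwa [blockPart_sub, Pi.sub_apply, sub_eq_zero] at this

theorem pow_dvd {a : G → ℂ} (ha : IsGeneralizedCharacter G a) (h1 : blockPart B a = a)
    (h0 : ∀ v, v ≠ 1 → dG Φ a v = 0) {n : ℤ} (hn : a 1 = n) :
    (p : ℤ) ^ (Nat.card G).factorization p ∣ n := by
  have := Fintype.ofFinite G
  obtain ⟨k, hk⟩ := pow_dvd_of_vanish (p := p) (M := M) ha fun g hg => by
    rw [← h1]; exact h.vanish ha.isClassFunction h0 hg
  exact ⟨k, by exact_mod_cast hn.symm.trans hk⟩

end CyD

variable {X : Finset (IrrCharacter G)} {y : (P →* ℂˣ) → IrrCharacter G} {ε : IrrCharacter G → ℤ}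
  {δ : ℤ}

namespace CyS
variable (s : CyS p e B Φ X y ε δ)
include s

omit hp in
theorem mem_iff {χ : IrrCharacter G} : χ ∈ B ↔ χ ∈ X ∨ χ ∈ exc y := by rw [s.mem, mem_exc]

omit hp in
theorem eq_union : B = ↑X ∪ ↑(exc y) := Set.ext fun _ => s.mem_iff

omit hp in
theorem disjoint : Disjoint X (exc y) := Finset.disjoint_left.2 fun χ h1 h2 => by
  obtain ⟨l, hl, rfl⟩ := mem_exc.1 h2
  exact s.notMem l hl h1

omit hp in
theorem sq (χ : IrrCharacter G) : (ε χ : ℂ) * ε χ = 1 := by rcases s.sgn χ with h | h <;> simp [h]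

omit hp in
theorem sq' : (δ : ℂ) * δ = 1 := by rcases s.sgn' with h | h <;> simp [h]

omit hp in
theorem nonempty : X.Nonempty := Finset.card_pos.1 (s.card ▸ Nat.card_pos)

omit hp in
theorem apply_reg {ψ : IrrCharacter G} (hψ : ψ ∈ exc y) {g : G} (hg : ¬ p ∣ orderOf g) :
    ψ.1 g = -(δ * ∑ χ ∈ X, ε χ * χ.1 g) := by
  obtain ⟨l, hl, rfl⟩ := mem_exc.1 hψ
  linear_combination δ * s.rel l hl g hg - (y l).1 g * s.sq'

omit hp in
theorem sum_mem {V : Type*} [AddCommMonoid V] [DecidablePred (· ∈ B)] (f : IrrCharacter G → V) :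
    ∑ χ with χ ∈ B, f χ = ∑ χ ∈ X, f χ + ∑ χ ∈ exc y, f χ := by
  classical
  rw [← Finset.sum_union s.disjoint]
  exact Finset.sum_congr (by ext; simp [s.mem_iff]) fun _ _ => rfl

omit hp in
theorem card_B : Nat.card B = Nat.card (autE P e) + (exc y).card := by
  classical
  rw [s.eq_union, ← Finset.coe_union, Finset.coe_sort_coe, Nat.card_eq_finsetCard,
    Finset.card_union_of_disjoint s.disjoint, s.card]

variable (h : CyD p P e B u β e' Φ)
include h

open Classical in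
theorem sum_exc (f : IrrCharacter G → ℂ) : ∑ l with l ≠ 1, f (y l) =
    Nat.card (autE P e) * ∑ ψ ∈ exc y, f ψ := by
  rw [Finset.sum_comp f y, Finset.mul_sum]
  refine Finset.sum_congr (by ext; simp [mem_exc]) fun ψ hψ => ?_
  obtain ⟨l, hl, rfl⟩ := mem_exc.1 hψ
  have := h.toCyL.sum_ite hl fun _ => 1
  rw [Finset.sum_const, Finset.card_univ, ← Nat.card_eq_fintype_card, Finset.sum_boole,
    nsmul_eq_mul, mul_one] at this
  rw [nsmul_eq_mul, this]
  congr 3
  ext l'
  simp only [Finset.mem_filter, Finset.mem_univ, true_and]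
  exact ⟨fun h => (s.eq_iff _ _ hl h.1).1 h.2.symm, fun h =>
    ⟨h.ne_one hl, ((s.eq_iff _ _ hl (h.ne_one hl)).2 h).symm⟩⟩

theorem card_exc : Nat.card (autE P e) * (exc y).card + 1 = Nat.card P := by
  classical
  have := s.sum_exc h fun _ => 1
  simp only [Finset.sum_const, nsmul_eq_mul, mul_one, Finset.filter_ne'] at this
  rw [← card_lin (comm_of_le_cent h.toCyL.comm), Nat.card_eq_fintype_card (α := P →* ℂˣ),
    ← Finset.card_univ, ← Finset.card_erase_add_one (Finset.mem_univ 1)]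
  congr 1
  exact_mod_cast this.symm

theorem card_exc' : (exc y).card = (Nat.card P - 1) / Nat.card (autE P e) := by
  rw [← s.card_exc h, Nat.add_sub_cancel, Nat.mul_div_cancel_left _ Nat.card_pos]

theorem blockRank_eq : blockRank p B = Nat.card (autE P e) := by
  have h1 := h.hm.card_of_free h.hB h.toCyL.comm fun v hv h1 => h.toCyL.free hv h1
  rw [← card_autE, s.card_B, ← s.card_exc h] at h1
  exact (Nat.eq_of_mul_eq_mul_left Nat.card_pos (by linarith)).symm

theorem dG_sum_exc {v : P} (hv : v ≠ 1) : ∑ ψ ∈ exc y, δ * dG Φ ψ.1 v = -1 := by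
  classical
  apply mul_left_cancel₀ (Nat.cast_ne_zero.2 (Nat.card_pos (α := autE P e)).ne' : (_ : ℂ) ≠ 0)
  rw [← s.sum_exc h, Finset.sum_congr rfl fun l hl => by
    rw [s.dY l (Finset.mem_filter.1 hl).2 v hv, ← mul_assoc, s.sq', one_mul], Finset.sum_comm,
    Finset.sum_congr rfl fun σ _ => sum_lin_ne (comm_of_le_cent h.toCyL.comm) (by simpa using hv)]
  simp [Nat.card_eq_fintype_card]

theorem modEq_X {χ χ' : IrrCharacter G} (h1 : χ ∈ X) (h2 : χ' ∈ X) :
    ε χ * charDegree χ.1 ≡ ε χ' * charDegree χ'.1 [ZMOD p ^ (Nat.card G).factorization p] := by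
  refine (Int.modEq_iff_dvd.2 (h.pow_dvd (a := (ε χ : ℂ) • χ.1 - (ε χ' : ℂ) • χ'.1) ?_ ?_
    (fun v hv => ?_) ?_)).symm
  · simpa only [Int.cast_smul_eq_zsmul] using (χ.2.isGen.zsmul _).sub (χ'.2.isGen.zsmul _)
  · rw [blockPart_sub, blockPart_smul, blockPart_smul, blockPart_irr_of_mem (s.mem_iff.2 (.inl h1)),
      blockPart_irr_of_mem (s.mem_iff.2 (.inl h2))]
  · rw [dG_sub, dG_smul, dG_smul, s.dX χ h1 v hv, s.dX χ' h2 v hv]
    linear_combination s.sq χ' - s.sq χ
  · simp [coe_charDegree χ.2.isCharacter, coe_charDegree χ'.2.isCharacter]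

theorem modEq_Y {ψ χ : IrrCharacter G} (h1 : ψ ∈ exc y) (h2 : χ ∈ X) : (charDegree ψ.1 : ℤ) ≡
    -(Nat.card (autE P e) * δ * ε χ * charDegree χ.1) [ZMOD p ^ (Nat.card G).factorization p] := by
  have h3 := s.apply_reg h1 (g := 1) (by simpa using hp.out.one_lt.ne')
  simp only [← fun χ : IrrCharacter G => coe_charDegree χ.2.isCharacter] at h3
  have h4 : (charDegree ψ.1 : ℤ) = -(δ * ∑ χ ∈ X, ε χ * charDegree χ.1) := by exact_mod_cast h3
  have h5 := Int.ModEq.sum (s := X) fun χ' h' => s.modEq_X h h' h2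
  rw [Finset.sum_const, s.card, nsmul_eq_mul] at h5
  rw [h4]
  convert (h5.mul_left δ).neg using 2
  ring

theorem height_eq_zero {χ : IrrCharacter G} (hχ : χ ∈ B) : blockHeight p B χ.1 = 0 := by
  have := Fintype.ofFinite G
  obtain ⟨χ₁, h1⟩ := s.nonempty
  have hq : Prime (p : ℤ) := Nat.prime_iff_prime_int.1 hp.out
  have h0 : ∀ a : ℤ, a = 1 ∨ a = -1 → ¬ (p : ℤ) ∣ a := by
    rintro _ (rfl | rfl) <;> simpa using hq.not_dvd_one
  have h2 : ∀ χ ∈ B, ∃ c : ℤ, ¬ (p : ℤ) ∣ c ∧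
      (charDegree χ.1 : ℤ) ≡ c * charDegree χ₁.1 [ZMOD p ^ (Nat.card G).factorization p] := by
    intro χ hχ
    rcases s.mem_iff.1 hχ with h2 | h2
    · refine ⟨ε χ * ε χ₁, hq.not_dvd_mul (h0 _ (s.sgn _)) (h0 _ (s.sgn _)), ?_⟩
      have := (s.modEq_X h h2 h1).mul_left (ε χ)
      rwa [← mul_assoc, show ε χ * ε χ = 1 from by exact_mod_cast s.sq χ, one_mul,
        ← mul_assoc] at this
    · refine ⟨-(Nat.card (autE P e) * δ * ε χ₁), ?_, by simpa using s.modEq_Y h h2 h1⟩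
      rw [dvd_neg]
      refine hq.not_dvd_mul (hq.not_dvd_mul ?_ (h0 _ s.sgn')) (h0 _ (s.sgn _))
      rw [Int.natCast_dvd_natCast, card_autE]
      exact h.hm.not_dvd_of_comm h.toCyL.comm
  obtain ⟨ξ, h3, h4⟩ := exists_height_zero (p := p) h.hB.nonempty
  obtain ⟨n, a1, a2, -⟩ := exists_degree_eq (p := p) (M := M) hχ
  obtain ⟨m, b1, b2, -⟩ := exists_degree_eq (p := p) (M := M) h3
  obtain ⟨c, c1, c2⟩ := h2 χ hχ
  obtain ⟨d, d1, d2⟩ := h2 ξ h3
  by_contra h5
  have h6 : 0 < blockDefect p B := Nat.pos_of_ne_zero fun h6 => h.toCyL.ne_one (by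
    have := h.hm.card_eq h.hB
    rw [h6, pow_zero, Subgroup.card_eq_one] at this
    simpa [this] using h.mem)
  have h7 : (p : ℤ) ^ ((Nat.card G).factorization p - blockDefect p B) * p ∣
      p ^ (Nat.card G).factorization p := by
    rw [← pow_succ]
    exact pow_dvd_pow _ (by have := blockDefect_le (p := p) B; omega)
  have h8 := ((c2.mul_left d).trans (by rw [mul_left_comm])).trans (d2.mul_left c).symm
  rw [a1, b1] at h8
  push_cast at h8
  rw [mul_left_comm d, mul_left_comm c] at h8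
  have h9 := (h8.of_dvd h7).mul_left_cancel' (pow_ne_zero _ hq.ne_zero)
  have h10 : (p : ℤ) ∣ c * m := h9.dvd_iff.1
    (dvd_mul_of_dvd_right (Int.natCast_dvd_natCast.2 (a2.2 h5)) _)
  exact b2.1 (Int.natCast_dvd_natCast.1 ((hq.dvd_or_dvd h10).resolve_left c1)) h4

end CyS

omit [Fintype C[Z[u]]] in
theorem MaxPr.exists_cyS (hm : MaxPr p (eB M B) P e) (hB : IsPBlock M B) (hc : IsCyclic P)
    (h1 : P ≠ ⊥) : ∃ (u : G) (β : _) (e' : _) (Φ : _) (_ : Fintype C[Z[u]]) (X : _) (y : _) (ε : _)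
      (δ : _), CyD p P e B u β e' Φ ∧ CyS p e B Φ X y ε δ := by
  obtain ⟨u, h2, h3⟩ := hm.exists_order h1
  obtain ⟨β, e', h4⟩ := hm.exists_cyL hB hc h2 h3
  obtain ⟨Φ, h5⟩ := h4.exists_cyD
  have := Fintype.ofFinite C[Z[u]]
  obtain ⟨X, y, ε, δ, h6⟩ := h5.exists_cyS
  exact ⟨u, β, e', Φ, this, X, y, ε, δ, h5, h6⟩

end CfsgH4
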