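import Cfsg.Agent.H4.Cy6
import Cfsg.Agent.H4.Prin
import Cfsg.Agent.H3.Apps

/-! Character values in blocks with cyclic defect groups; blocks of defect one. -/

set_option autoImplicit false
open Cfsg MonoidAlgebra CfsgL0 CfsgH1 CfsgH4
open CfsgH3 hiding cj cj_cj
open scoped ComplexConjugate Pointwise

namespace CfsgH4

local notation "C[" Q "]" => Subgroup.centralizer (SetLike.coe (Q : Subgroup _))
local notation "N[" Q "]" => Subgroup.normalizer (SetLike.coe (Q : Subgroup _))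
local notation "Z[" u "]" => Subgroup.zpowers u

variable {G : Type*} [Group G] [Finite G] {M : Ideal AlgInt} {p : ℕ} [hM : PMod p M]
  [hp : Fact p.Prime] {P : Subgroup G} {e : (Res M)[G]} {B : Set (IrrCharacter G)} {u : G}
  {β : Set (IrrCharacter C[Z[u]])} {e' : (Res M)[C[Z[u]]]}
  {Φ : (P →* ℂˣ) → IrrCharacter C[Z[u]]}

/-- Conjugation action of the normalizer on the centralizer. -/
def cjC {Q : Subgroup G} (t : N[Q]) : C[Q] →* C[Q] := cjHom (t : G) (conj_mem_cent_of_norm t.2)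

@[simp] theorem coe_cjC {Q : Subgroup G} (t : N[Q]) (c : C[Q]) : (cjC t c : G) = t * c * (t : G)⁻¹ := rfl

theorem CyL.card_mul_blockPart (h : CyL p P e B u β e') [Fintype N[Z[u]]] {a : G → ℂ}
    (ha : IsClassFunction G a) {c : C[Z[u]]} (hc : Z[ppart p (c : G)] = Z[u]) :
    Nat.card (stab N[Z[u]] (ie M _ β)) * blockPart B a c =
      ∑ t : N[Z[u]], blockPart β (fun x : C[Z[u]] => a x) (cjC t c) := by
  classical
  have h1 : Pr p Z[u] (ie M _ β) := h.ie_eq ▸ h.hm.pr.pr_dn h.zle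
  have h2 : ∀ t ∈ N[Z[u]], IsBlk C[Z[u]] C[Z[u]] (cnj t (ie M _ β)) := fun t ht =>
    h1.blk.cnj_of_norm (norm_le_norm_cent _ ht) (norm_le_norm_cent _ ht)
  have h3 := sum_cnj_eq N[Z[u]] (ie M _ β) fun b => ev a (lft M C[Z[u]] b * single (c : G) 1)
  rw [← h.hm.bs_one h.hB ha, bs, bst_apply, hc, ← Equiv.sum_comp (Equiv.inv _), ← nsmul_eq_mul]
  refine Eq.trans (congrArg _ ?_) (h3.symm.trans (Finset.sum_congr rfl fun t _ => ?_))
  · rw [← Finset.sum_subset (s₁ := orb N[Z[u]] (ie M _ β)) (fun b hb => by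
      obtain ⟨t, ht, rfl⟩ := mem_orb.1 hb
      exact (mem_blks le_rfl).2 (h2 t ht)) fun b _ h4 => ?_]
    · refine Finset.sum_congr rfl fun b hb => ?_
      obtain ⟨t, ht, rfl⟩ := mem_orb.1 hb
      rw [fSt_one.ext_eq (x := t⁻¹) (by
        rw [hc, cnj_inv_cnj, mem_normalizer_iff_cj.1 (inv_mem ht), h.ie_eq]
        exact h.hm.pr.ple_dn h.zle), Pi.one_apply, one_mul]
    · rw [ext_of_not, zero_mul]
      rintro ⟨x, hx⟩
      rw [hc] at hx
      have h5 := CfsgH2.eq_of_card_eq_of_cyclic h.cyc hx.le h.zle (card_cj _ _)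
      rw [h5] at hx
      exact h4 (mem_orb.2 ⟨x⁻¹, inv_mem (mem_normalizer_iff_cj.2 h5), by
        rw [h.ie_eq, ← hx.eq_dn h.hm.pr, cnj_inv_cnj]⟩)
  · rw [blockPart_eq_ev (ha.restrict _)]
    refine Eq.trans ?_ (ev_inc (C[Z[u]]).subtype a _)
    rw [map_mul (inc _), inc_single, ← lft_ie h.hβ.fB_mem, ← ev_cnj ha t (lft _ _ (ie _ _ _) * _),
      map_mul (cnj _), h1.blk.cnj_lft, cnj_single,
      mem_normalizer_iff_cj.1 (norm_le_norm_cent _ t.2)]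
    simp [mul_assoc]

theorem AbF.blockPart_central {A : Type*} [Group A] [Finite A] {ι : A →* G}
    {Φ : (A →* ℂˣ) → IrrCharacter G} (h : AbF p ι P e B Φ) [Fintype G] (a : G → ℂ) {g : G} {x : A}
    (h1 : ppart p g = ι x) (h2 : ι x ∈ Subgroup.center G) :
    blockPart B a g = dl Φ a x * (Φ 1).1 g := by
  classical
  rw [blockPart_eq, ← Finset.sum_filter, h.sum_mem, dl, Finset.sum_mul]
  exact Finset.sum_congr rfl fun l _ => by rw [h.apply_central l h1 h2, mul_assoc]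

theorem zpowers_eq_of_mem (hu : orderOf u = p) {v : G} (hv : v ∈ Z[u]) (h1 : v ≠ 1) : Z[v] = Z[u] :=
  le_antisymm (Subgroup.zpowers_le.2 hv) (zpowers_le_of_cyclic (isPGroup_zpowers_of_pelt
    ⟨1, by rw [hu, pow_one]⟩) inferInstance (Subgroup.mem_zpowers u) hu hv h1)

omit [Finite G] in
theorem mem_center_of_zpowers {v : C[Z[u]]} (hv : (v : G) ∈ Z[u]) : v ∈ Subgroup.center C[Z[u]] :=
  Subgroup.mem_center_iff.2 fun c => Subtype.ext (Subgroup.mem_centralizer_iff.1 c.2 v hv).symm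

theorem zpowers_le_cent : Z[u] ≤ C[Z[u]] := le_cent_of_cyclic inferInstance

variable (p e B u β e') in
/-- The data of a block of defect one. -/
structure D1 [Fintype C[Z[u]]] (Φ : (Z[u] →* ℂˣ) → IrrCharacter C[Z[u]])
    (X : Finset (IrrCharacter G)) (y : (Z[u] →* ℂˣ) → IrrCharacter G)
    (ε : IrrCharacter G → ℤ) (δ : ℤ) : Prop where
  d : CyD p Z[u] e B u β e' Φ
  s : CyS p e B Φ X y ε δ
  ker : ∀ v : C[Z[u]], (v : G) ∈ Z[u] → (Φ 1).1 v = (Φ 1).1 1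

theorem AbF.eq_of_ker {Q : Subgroup C[Z[u]]} {Φ : (Z[u] →* ℂˣ) → IrrCharacter C[Z[u]]}
    (h : AbF p (Subgroup.inclusion zpowers_le_cent) Q e' β Φ)
    (h1 : ∀ v : C[Z[u]], (v : G) ∈ Z[u] → (Φ 1).1 v = (Φ 1).1 1) {θ : IrrCharacter C[Z[u]]}
    (hθ : θ ∈ β) (h2 : ∀ v : C[Z[u]], (v : G) ∈ Z[u] → θ.1 v = θ.1 1) : θ = Φ 1 := by
  obtain ⟨l, rfl⟩ := (h.mem θ).1 hθ
  refine congrArg Φ (MonoidHom.ext fun v => Units.ext ?_)
  have h3 := h.apply_central l (a := v) (ppart_of_pelt (by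
    rw [orderOf_injective _ h.hι]; exact (IsPGroup.iff_orderOf.1 h.pgrp) v)) (mem_center_of_zpowers v.2)
  rw [h2 _ v.2, h1 _ v.2, h.apply_one] at h3
  exact (mul_eq_right₀ (Φ 1).2.apply_one_ne_zero).1 h3.symm

theorem MaxPr.exists_d1 (hm : MaxPr p (eB M B) Z[u] e) (hB : IsPBlock M B) (hu : orderOf u = p)
    [Fintype C[Z[u]]] : ∃ β e' Φ X y ε δ, D1 p e B u β e' Φ X y ε δ := by
  obtain ⟨β, e', h⟩ := hm.exists_cyL hB inferInstance (Subgroup.mem_zpowers u) hu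
  have : (Z[u].subgroupOf C[Z[u]]).Normal := ⟨fun v hv g => by
    rwa [Subgroup.mem_center_iff.1 (mem_center_of_zpowers hv) g, mul_inv_cancel_right]⟩
  obtain ⟨χ, hχ⟩ := h.hβ.comap_nonempty (QuotientGroup.mk'_surjective (Z[u].subgroupOf C[Z[u]]))
    (by rw [QuotientGroup.ker_mk']; exact h.hm'.pr.pgrp)
  obtain ⟨Φ, h1, h2⟩ := h.exists_abF hχ
  have h3 : ∀ v : C[Z[u]], (v : G) ∈ Z[u] → (Φ 1).1 v = (Φ 1).1 1 := fun v hv =>
    h2 ▸ irrComp_ker _ χ (by rwa [QuotientGroup.ker_mk'])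
  have h4 : CyD p Z[u] e B u β e' Φ := ⟨h, h1, fun t ht c c' hc => by
    have hb := cjHom_surjective t (conj_mem_cent_of_norm ht.1) fun l hl => by
      simpa using conj_mem_cent_of_norm (inv_mem ht.1) l hl
    conv_rhs => rw [← h1.eq_of_ker h3 (θ := irrComp _ hb (Φ 1))
      (h.mem_of_conj ht (h1.mem_B 1) fun _ => rfl) fun v hv => by
        rw [irrComp_apply, irrComp_apply, map_one, h3 _ (conj_mem_of_norm ht.1 _ hv)]]
    exact congrArg _ (Subtype.ext hc)⟩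
  obtain ⟨X, y, ε, δ, h5⟩ := h4.exists_cyS
  exact ⟨β, e', Φ, X, y, ε, δ, h4, h5, h3⟩

namespace D1
variable [Fintype C[Z[u]]] {Φ : (Z[u] →* ℂˣ) → IrrCharacter C[Z[u]]} {X : Finset (IrrCharacter G)}
  {y : (Z[u] →* ℂˣ) → IrrCharacter G} {ε : IrrCharacter G → ℤ} {δ : ℤ}
  (h : D1 p e B u β e' Φ X y ε δ)
include h

theorem ie_eq : ie M _ β = e := h.d.ie_eq.trans h.d.hm.pr.dn_self

theorem card : Nat.card Z[u] = p := by rw [Nat.card_zpowers, h.d.ord]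

theorem eq_of_ker {θ : IrrCharacter C[Z[u]]} (hθ : θ ∈ β)
    (h2 : ∀ v : C[Z[u]], (v : G) ∈ Z[u] → θ.1 v = θ.1 1) : θ = Φ 1 := h.d.abf.eq_of_ker h.ker hθ h2

theorem mem_stab_iff {t : G} : t ∈ stab N[Z[u]] e ↔ t ∈ N[Z[u]] ∧
    ∀ c c' : C[Z[u]], (c' : G) = t * c * t⁻¹ → (Φ 1).1 c' = (Φ 1).1 c :=
  ⟨fun ht => ⟨ht.1, h.d.st t ht⟩, fun ht => ⟨ht.1, h.ie_eq ▸
    (cnj_ie_eq_iff h.d.hβ (norm_le_norm_cent _ ht.1)).2 ⟨_, h.d.abf.mem_B 1, _, h.d.abf.mem_B 1,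
      Subtype.ext (funext fun c => ht.2 c _ rfl)⟩⟩⟩

theorem apply (l : Z[u] →* ℂˣ) {c : C[Z[u]]} {v : Z[u]} (hc : ppart p (c : G) = v) :
    (Φ l).1 c = l v * (Φ 1).1 c :=
  h.d.abf.apply_central l (Subtype.ext ((coe_ppart p c).trans hc)) (mem_center_of_zpowers v.2)

theorem apply_mul {v : C[Z[u]]} (hv : (v : G) ∈ Z[u]) (c : C[Z[u]]) :
    (Φ 1).1 (v * c) = (Φ 1).1 c := (Φ 1).2.isCharacter.apply_mul_of_eq' (h.ker v hv) c

theorem card_stab : Nat.card (stab N[Z[u]] e) = Nat.card (autE Z[u] e) * Nat.card C[Z[u]] := by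
  rw [card_autE, Subgroup.relIndex, ← Nat.card_congr (Subgroup.subgroupOfEquivOfLe
    h.d.hm.pr.cent_le_stab).toEquiv, Subgroup.index_mul_card]

variable [Fintype N[Z[u]]]

theorem val {a : G → ℂ} (ha : IsClassFunction G a) {c : C[Z[u]]} {v : Z[u]}
    (hc : ppart p (c : G) = v) (hv : v ≠ 1) : Nat.card (stab N[Z[u]] e) * blockPart B a c =
      ∑ t : N[Z[u]], dG Φ a (Z[u].normalizerMonoidHom t v) * (Φ 1).1 (cjC t c) := by
  rw [← h.ie_eq, h.d.toCyL.card_mul_blockPart ha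
    (hc ▸ zpowers_eq_of_mem h.d.ord v.2 (by simpa using hv))]
  exact Finset.sum_congr rfl fun t _ => h.d.abf.blockPart_central _ (Subtype.ext (by
    rw [coe_ppart, coe_cjC, ppart_conj, hc]; rfl)) (mem_center_of_zpowers (Z[u].normalizerMonoidHom t v).2)

theorem valX {χ : IrrCharacter G} (hχ : χ ∈ X) {c : C[Z[u]]} (hc : ppart p (c : G) ∈ Z[u])
    (hv : p ∣ orderOf (c : G)) :
    Nat.card (stab N[Z[u]] e) * χ.1 c = -ε χ * ∑ t : N[Z[u]], (Φ 1).1 (cjC t c) := by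
  have h1 : (⟨_, hc⟩ : Z[u]) ≠ 1 := fun h1 => ppart_eq_one_iff.1 (congrArg Subtype.val h1) hv
  rw [← blockPart_irr_of_mem (h.s.mem_iff.2 (.inl hχ)), h.val χ.2.isClassFunction (v := ⟨_, hc⟩) rfl
    h1, Finset.mul_sum]
  exact Finset.sum_congr rfl fun t _ => by rw [h.s.dX χ hχ _ (by simpa using h1)]

theorem valY {l : Z[u] →* ℂˣ} (hl : l ≠ 1) {c : C[Z[u]]} (hc : ppart p (c : G) ∈ Z[u])
    (hv : p ∣ orderOf (c : G)) :
    Nat.card C[Z[u]] * (y l).1 c = δ * ∑ t : N[Z[u]], (Φ l).1 (cjC t c) := by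
  have h1 : (⟨_, hc⟩ : Z[u]) ≠ 1 := fun h1 => ppart_eq_one_iff.1 (congrArg Subtype.val h1) hv
  apply mul_left_cancel₀ (Nat.cast_ne_zero.2 (Nat.card_pos (α := autE Z[u] e)).ne' : (_ : ℂ) ≠ 0)
  rw [← mul_assoc, ← Nat.cast_mul, ← h.card_stab,
    ← blockPart_irr_of_mem ((h.s.mem _).2 (.inr ⟨l, hl, rfl⟩)), h.val (y l).2.isClassFunction
    (v := ⟨_, hc⟩) rfl h1, Finset.sum_congr rfl fun t _ => by
      rw [h.s.dY l hl _ (by simpa using h1), mul_assoc, Finset.sum_mul], ← Finset.mul_sum,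
    Finset.sum_comm, mul_left_comm, Nat.card_eq_fintype_card, ← Finset.card_univ, ← nsmul_eq_mul,
    ← Finset.sum_const]
  refine congrArg _ (Finset.sum_congr rfl fun σ _ => ?_)
  obtain ⟨τ, h2, h3⟩ := mem_autE.1 σ.2
  rw [← Equiv.sum_comp (Equiv.mulLeft (⟨τ, h2.1⟩ : N[Z[u]])) fun t => (Φ l).1 (cjC t c)]
  refine Finset.sum_congr rfl fun t _ => ?_
  rw [h.apply l (v := σ.1 (Z[u].normalizerMonoidHom t ⟨_, hc⟩)) (by
    rw [coe_cjC, ppart_conj, h3]; simp [mul_assoc]), h.d.st τ h2 (cjC t c)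
      (cjC (Equiv.mulLeft _ t) c) (by simp [mul_assoc])]

omit [Fintype N[Z[u]]] in
theorem modEq_X {χ : IrrCharacter G} (hχ : χ ∈ X) : (charDegree χ.1 : ℤ) ≡
    -ε χ * ((stab N[Z[u]] e).relIndex N[Z[u]] * charDegree (Φ 1).1 : ℕ) [ZMOD p] := by
  have := Fintype.ofFinite N[Z[u]]
  have h1 := h.valX hχ (c := ⟨u, zpowers_le_cent (Subgroup.mem_zpowers u)⟩)
    (ppart_mem p (Subgroup.mem_zpowers u)) (by rw [h.d.ord])
  rw [Finset.sum_congr rfl fun t _ => h.ker _ (conj_mem_of_norm t.2 _ (Subgroup.mem_zpowers u)),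
    Finset.sum_const, Finset.card_univ, ← Nat.card_eq_fintype_card, nsmul_eq_mul,
    ← (stab N[Z[u]] e).subgroupOf N[Z[u]] |>.card_mul_index, Nat.card_congr
      (Subgroup.subgroupOfEquivOfLe (stab_le _ _)).toEquiv, Nat.cast_mul, mul_assoc, mul_left_comm,
    mul_right_inj' (Nat.cast_ne_zero.2 Nat.card_pos.ne')] at h1
  refine Int.modEq_iff_dvd.2 (χ.2.isGen.dvd_sub_of_commute hp.out (Commute.one_right u) (k := 1)
    (by rw [pow_one, ← h.d.ord, pow_orderOf_eq_one]) ?_)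
  rw [mul_one, h1, ← coe_charDegree χ.2.isCharacter, ← coe_charDegree (Φ 1).2.isCharacter]
  push_cast
  rfl

omit [Fintype N[Z[u]]] in
theorem modEq_Y {ψ : IrrCharacter G} (hψ : ψ ∈ exc y) : (charDegree ψ.1 : ℤ) ≡
    δ * (C[Z[u]].relIndex N[Z[u]] * charDegree (Φ 1).1 : ℕ) [ZMOD p] := by
  obtain ⟨χ, hχ⟩ := h.s.nonempty
  refine ((h.s.modEq_Y h.d hψ hχ).of_dvd (dvd_pow_self _ (hp.out.factorization_pos_of_dvd
    Nat.card_pos.ne' (h.d.ord ▸ orderOf_dvd_natCard u)).ne')).trans ?_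
  convert ((h.modEq_X hχ).mul_left (Nat.card (autE Z[u] e) * δ * ε χ)).neg using 2
  rw [← Subgroup.relIndex_mul_relIndex _ _ _ h.d.hm.pr.cent_le_stab (stab_le _ _), ← card_autE]
  have : ε χ * ε χ = 1 := by exact_mod_cast h.s.sq χ
  simp only [Nat.cast_mul]
  linear_combination (-δ * Nat.card (autE Z[u] e) * (stab N[Z[u]] e).relIndex N[Z[u]] *
    charDegree (Φ 1).1) * this

end D1

namespace D1
variable [Fintype C[Z[u]]] {Φ : (Z[u] →* ℂˣ) → IrrCharacter C[Z[u]]} {X : Finset (IrrCharacter G)}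
  {y : (Z[u] →* ℂˣ) → IrrCharacter G} {ε : IrrCharacter G → ℤ} {δ : ℤ}
  (h : D1 p (ie M C[Z[u]] (principalBlock M _)) B u β e' Φ X y ε δ)
include h

theorem one_eq : Φ 1 = irrOne _ := (h.eq_of_ker (h.d.hβ.ie_inj isPBlock_principal h.ie_eq ▸
  irrOne_mem_principal) fun _ _ => rfl).symm

theorem stab_eq : stab N[Z[u]] (ie M C[Z[u]] (principalBlock M _)) = N[Z[u]] :=
  stab_principal h.d.hm.pr.pgrp

theorem card_aut : Nat.card (autE Z[u] (ie M C[Z[u]] (principalBlock M _))) =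
    C[Z[u]].relIndex N[Z[u]] := by rw [card_autE, h.stab_eq]

theorem val_pr {a : G → ℂ} (ha : IsClassFunction G a) {g : G} {v : Z[u]} (hc : ppart p g = v)
    (hv : v ≠ 1) : blockPart B a g = dG Φ a v := by
  have := Fintype.ofFinite N[Z[u]]
  have h1 := h.val ha (c := ⟨g, by
    rw [← zpowers_eq_of_mem h.d.ord v.2 (by simpa using hv), ← hc]; exact mem_cent_ppart p g⟩) hc hv
  rwa [Finset.sum_congr rfl fun t _ => by
    rw [h.d.dG_aut ha (mem_autE.2 ⟨t, h.stab_eq.ge t.2, fun _ => rfl⟩), h.one_eq,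
      show (irrOne _).1 _ = 1 from rfl, mul_one], Finset.sum_const, Finset.card_univ,
    ← Nat.card_eq_fintype_card, nsmul_eq_mul, h.stab_eq,
    mul_right_inj' (Nat.cast_ne_zero.2 Nat.card_pos.ne')] at h1

theorem prX {χ : IrrCharacter G} (hχ : χ ∈ X) {g : G} (hc : ppart p g ∈ Z[u])
    (hv : p ∣ orderOf g) : χ.1 g = -ε χ := by
  have h1 : (⟨_, hc⟩ : Z[u]) ≠ 1 := fun h1 => ppart_eq_one_iff.1 (congrArg Subtype.val h1) hv
  rw [← blockPart_irr_of_mem (h.s.mem_iff.2 (.inl hχ)), h.val_pr χ.2.isClassFunction rfl h1,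
    h.s.dX χ hχ _ h1]

theorem prY {l : Z[u] →* ℂˣ} (hl : l ≠ 1) {g : G} {v : Z[u]} (hc : ppart p g = v) (hv : v ≠ 1) :
    (y l).1 g = δ * ∑ σ : autE Z[u] (ie M C[Z[u]] (principalBlock M _)), (l (σ.1 v) : ℂ) := by
  rw [← blockPart_irr_of_mem ((h.s.mem _).2 (.inr ⟨l, hl, rfl⟩)),
    h.val_pr (y l).2.isClassFunction hc hv, h.s.dY l hl _ hv]

theorem prX_modEq {χ : IrrCharacter G} (hχ : χ ∈ X) : (charDegree χ.1 : ℤ) ≡ -ε χ [ZMOD p] := by
  simpa [h.stab_eq, h.one_eq, irrOne, charDegree] using h.modEq_X hχ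

theorem prY_modEq {ψ : IrrCharacter G} (hψ : ψ ∈ exc y) :
    (charDegree ψ.1 : ℤ) ≡ δ * C[Z[u]].relIndex N[Z[u]] [ZMOD p] := by
  simpa [h.one_eq, irrOne, charDegree] using h.modEq_Y hψ

end D1

omit hM in
theorem exists_zpowers_eq (hP : Nat.card P = p) : ∃ u : G, orderOf u = p ∧ Z[u] = P := by
  obtain ⟨g, hg⟩ := (isCyclic_of_prime_card hP).exists_generator
  refine ⟨g, by rw [Subgroup.orderOf_coe, orderOf_eq_card_of_forall_mem_zpowers hg, hP],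
    le_antisymm (Subgroup.zpowers_le.2 g.2) fun x hx => ?_⟩
  obtain ⟨k, hk⟩ := hg ⟨x, hx⟩
  exact ⟨k, congrArg Subtype.val hk⟩

end CfsgH4
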