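import Cfsg.Agent.H4.Cy7

/-! Perfect isometries between blocks with cyclic defect groups. -/

set_option autoImplicit false
open Cfsg MonoidAlgebra CfsgL0 CfsgH1 CfsgH4
open CfsgH3 hiding cj cj_cj
open scoped ComplexConjugate Pointwise

namespace CfsgH4

local notation "C[" Q "]" => Subgroup.centralizer (SetLike.coe (Q : Subgroup _))
local notation "N[" Q "]" => Subgroup.normalizer (SetLike.coe (Q : Subgroup _))
local notation "Z[" u "]" => Subgroup.zpowers u

variable {G : Type*} [Group G] [Finite G] {M : Ideal AlgInt} {p : ℕ} [hM : PMod p M]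
  [hp : Fact p.Prime] {P : Subgroup G} {e : (Res M)[G]} {B : Set (IrrCharacter G)} {u : G}
  {β : Set (IrrCharacter C[Z[u]])} {e' : (Res M)[C[Z[u]]]}
  {Φ : (P →* ℂˣ) → IrrCharacter C[Z[u]]}

theorem pow_mul_mm_mem [Fintype G] {ξ : IrrCharacter G} (hξ : ξ ∈ B) {a : G → ℂ}
    (ha : IsClassFunction G a) (h : ∀ g, a g ∈ Loc M) :
    (p : ℂ) ^ blockDefect p B * mm p a ξ.1 ∈ Loc M := by
  have h1 : mm p a ξ.1 = mm p ξ.1 fun g => conj (a g⁻¹) := by
    simp only [mm, classInner]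
    rw [← Equiv.sum_comp (Equiv.inv G)]
    refine congrArg _ (Finset.sum_congr rfl fun g _ => ?_)
    by_cases hg : p ∣ orderOf g
    · rw [rg_of_sing _ hg, rg_of_sing _ (by simpa using hg), zero_mul, zero_mul]
    · rw [rg_of_reg _ hg, rg_of_reg _ (by simpa using hg), Equiv.inv_apply,
        ξ.2.isCharacter.apply_inv, Complex.conj_conj, Complex.conj_conj, mul_comm]
  rw [h1, pow_mul_mm (M := M)]
  exact mul_mem (pow_mul_deg_div_mem hξ) (om_mem_Loc ξ.2 (inv_zrg fun g x => by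
    simp only [mul_inv_rev, inv_inv, ← mul_assoc, ha g⁻¹ x]) (zrg_mem_LG' fun g _ => by simpa using h _))

theorem Pr.card_mul_cP_mem [Fintype G] (hP : Pr p P e) (hu : u ∈ P) {D : Subgroup G}
    (hD : IsDef p C[Z[u]] (dn p Z[u] P e) D) {a c : G → ℂ} (ha : IsClassFunction G a)
    (h : ∀ g, a g ∈ Loc M) (hc : IsGeneralizedCharacter G c) :
    Nat.card D * cP p P e a c u ∈ Loc M := by
  classical
  have := Fintype.ofFinite C[Z[u]]
  obtain ⟨β, hβ, h1, h2⟩ := (hP.pr_dn (Subgroup.zpowers_le.2 hu)).exists_ct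
  have hC := centralizer_zpowers u
  rw [h1] at hD
  rw [cP, h2 a c ha, hβ.card_of_isDef hD, Nat.cast_pow, ctr, mm_blockPart_left hβ.fB_mem
    (isClassFunction_tr hC ha) (isClassFunction_tr hC hc.isClassFunction), blockPart_eq_sum,
    mm_sum_right, Finset.mul_sum]
  refine Subring.sum_mem _ fun ξ _ => ?_
  rw [mm_smul_right, mul_left_comm]
  split_ifs with h3
  · obtain ⟨n, hn⟩ := (hc.restrict C[Z[u]]).exists_int_classInner ξ.2.isGen
    rw [classInner_tr hC hc.isClassFunction, hn]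
    exact mul_mem (mem_Loc_of_isIntegral (isIntegral_conj ((isIntegral_cw hC ξ).mul
      (isIntegral_intCast _)))) (pow_mul_mm_mem h3 (isClassFunction_tr hC ha) fun _ => h _)
  · simp

theorem div_card_cent_mem {θ : G → ℂ} (hθ : IsGeneralizedCharacter G θ)
    (h0 : ∀ g, p ∣ orderOf g → θ g = 0) (g : G) :
    θ g / Nat.card (Subgroup.centralizer ({g} : Set G)) ∈ Loc M := by
  by_cases hg : p ∣ orderOf g
  · simp [h0 g hg]
  obtain ⟨S⟩ : Nonempty (Sylow p (Subgroup.centralizer ({g} : Set G))) := inferInstance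
  have h1 := ZI_le_LI (M := M) ((cs_of_gen hθ).div_card_mem_of_sing h0 hg (S.isPGroup'.map
    (Subgroup.subtype _)) (Subgroup.map_subtype_le _))
  rw [Subgroup.card_subtype] at h1
  rw [← (S : Subgroup _).card_mul_index, Nat.cast_mul, ← div_div, div_eq_mul_inv]
  exact mul_mem h1 (inv_natCast_mem_Loc S.not_dvd_index)

omit [Finite G] in
theorem centralizer_inv_singleton (g : G) :
    Subgroup.centralizer ({g⁻¹} : Set G) = Subgroup.centralizer {g} := by
  rw [← centralizer_zpowers, Subgroup.zpowers_inv, centralizer_zpowers]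

/-- Generalized characters vanishing on `p`-singular elements. -/
noncomputable def piX (y : (P →* ℂˣ) → IrrCharacter G) (ε : IrrCharacter G → ℤ) (δ : ℤ)
    (χ : IrrCharacter G) : G → ℂ := (ε χ : ℂ) • χ.1 - ∑ ψ ∈ exc y, (δ : ℂ) • ψ.1

variable {X : Finset (IrrCharacter G)} {y : (P →* ℂˣ) → IrrCharacter G} {ε : IrrCharacter G → ℤ}
  {δ : ℤ}

omit hM hp in
theorem isGen_piX (χ : IrrCharacter G) : IsGeneralizedCharacter G (piX y ε δ χ) := by
  simpa only [piX, Int.cast_smul_eq_zsmul] using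
    (χ.2.isGen.zsmul _).sub (isGen_sum _ _ fun ψ _ => ψ.2.isGen.zsmul δ)

omit hM hp in
theorem classInner_piX [Fintype G] (a : G → ℂ) (χ : IrrCharacter G) : classInner a (piX y ε δ χ) =
    ε χ * classInner a χ.1 - ∑ ψ ∈ exc y, δ * classInner a ψ.1 := by
  simp [piX, classInner_sub_right, classInner_smul_right, classInner_sum_right]

variable [Fintype C[Z[u]]]

namespace CyS
variable (s : CyS p e B Φ X y ε δ)
include s

omit hp in
theorem blockPart_eq [Fintype G] (a : G → ℂ) : blockPart B a =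
    ∑ χ ∈ X, classInner a χ.1 • χ.1 + ∑ χ ∈ exc y, classInner a χ.1 • χ.1 := by
  classical
  rw [← s.sum_mem, blockPart_eq_sum, Finset.sum_filter]
  exact Finset.sum_congr rfl fun χ _ => by split_ifs <;> simp

omit hp in
theorem blockPart_reg [Fintype G] (a : G → ℂ) {g : G} (hg : ¬ p ∣ orderOf g) : blockPart B a g =
    ∑ χ ∈ X, classInner a (piX y ε δ χ) * (ε χ * χ.1 g) := by
  simp only [s.blockPart_eq, classInner_piX, Pi.add_apply, Finset.sum_apply, Pi.smul_apply,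
    smul_eq_mul, sub_mul, Finset.sum_sub_distrib, ← Finset.mul_sum _ _ (∑ _ ∈ _, _)]
  rw [sub_eq_add_neg, Finset.sum_mul, ← Finset.sum_neg_distrib]
  congr 1
  · exact Finset.sum_congr rfl fun χ _ => by linear_combination (-classInner a χ.1 * χ.1 g) * s.sq χ
  · exact Finset.sum_congr rfl fun ψ hψ => by rw [s.apply_reg hψ hg]; ring

variable (h : CyD p P e B u β e' Φ)
include h

theorem piX_sing {χ : IrrCharacter G} (hχ : χ ∈ X) {g : G} (hg : p ∣ orderOf g) :
    piX y ε δ χ g = 0 := by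
  have := h.vanish (isGen_piX (y := y) (ε := ε) (δ := δ) χ).isClassFunction (fun v hv => by
    rw [piX, dG_sub, dG_smul, dG_sum, s.dG_sum_exc h hv, s.dX χ hχ v hv]
    linear_combination -s.sq χ) hg
  rwa [piX, blockPart_sub, blockPart_smul, blockPart_sum,
    blockPart_irr_of_mem (s.mem_iff.2 (.inl hχ)), Finset.sum_congr rfl fun ψ hψ => by
      rw [blockPart_smul, blockPart_irr_of_mem (s.mem_iff.2 (.inr hψ))]] at this

theorem dG_eq [Fintype G] {a : G → ℂ} (ha : IsClassFunction G a) {v : P} (hv : v ≠ 1) : dG Φ a v =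
    ∑ χ ∈ X, classInner a χ.1 * -ε χ + ∑ χ ∈ exc y, classInner a χ.1 * dG Φ χ.1 v := by
  classical
  rw [← h.dG_blockPart ha hv, s.blockPart_eq, ← Finset.sum_union s.disjoint, dG_sum,
    Finset.sum_union s.disjoint, Finset.sum_congr rfl fun χ hχ => by rw [s.dX χ hχ v hv]]

theorem dG_eq_cP [Fintype G] {a : G → ℂ} (ha : IsClassFunction G a) {χ : IrrCharacter G}
    (hχ : χ ∈ X) {v : P} (hv : v ≠ 1) : dG Φ a v = -ε χ * (Nat.card P * cP p P e a χ.1 v) := by
  rw [h.cP_eq ha χ.2.isClassFunction hv, s.dX χ hχ v hv, map_neg, map_intCast]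
  linear_combination (-dG Φ a v) * s.sq χ

theorem dG_mem {a : G → ℂ} (ha : IsClassFunction G a) (h1 : ∀ g, a g ∈ Loc M) {v : P} (hv : v ≠ 1) :
    dG Φ a v ∈ Loc M := by
  have := Fintype.ofFinite G
  obtain ⟨χ, hχ⟩ := s.nonempty
  have h2 := Subgroup.zpowers_le.2 v.2
  rw [s.dG_eq_cP h ha hχ hv]
  exact mul_mem (neg_mem (intCast_mem _ _)) (h.hm.pr.card_mul_cP_mem v.2 (h.hm.isDef_cent_of_le
    (h.hm.pr.ple_dn h2) (h.toCyL.comm.trans (cent_anti h2))) ha h1 χ.2.isGen)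

theorem dG_of_sing {a : G → ℂ} (ha : IsClassFunction G a) (h1 : ∀ g, p ∣ orderOf g → a g = 0)
    {v : P} (hv : v ≠ 1) : dG Φ a v = 0 := by
  classical
  have := Fintype.ofFinite G
  obtain ⟨χ, hχ⟩ := s.nonempty
  rw [s.dG_eq_cP h ha hχ hv, ← h.hm.pr.conj_cP v.2 χ.2.isClassFunction ha, cP, ct,
    Finset.sum_eq_zero fun g hg => by
      rw [h1 g (by_contra fun h2 => hv (Subtype.ext ((Finset.mem_filter.1 hg).2.symm.trans
        (ppart_eq_one_iff.2 h2)))), map_zero, mul_zero]]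
  simp

theorem blockPart_mem [Fintype G] {a : G → ℂ} (ha : IsClassFunction G a)
    (h1 : ∀ χ ∈ X, classInner a (piX y ε δ χ) ∈ Loc M) (h2 : ∀ v, v ≠ 1 → dG Φ a v ∈ Loc M) (g : G) :
    blockPart B a g ∈ Loc M := by
  classical
  by_cases hg : p ∣ orderOf g
  swap
  · rw [s.blockPart_reg a hg]
    exact Subring.sum_mem _ fun χ hχ => mul_mem (h1 χ hχ)
      (mul_mem (intCast_mem _ _) (char_mem_Loc χ.2.isCharacter g))
  obtain ⟨χ, hχ⟩ := s.nonempty
  have hc := χ.2.isClassFunction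
  have h3 := h.fSt_ext (f := fun v => if v = 1 then 0 else -ε χ * dG Φ a v) fun σ hσ v => by
    simp [h.dG_aut ha hσ]
  rw [h.eq_of_dG ha (h3.isClassFunction hc) (fun v hv => ?_) hg, h.hm.blockPart_bs h.hB h3 hc]
  · refine bs_mem_Loc (fun v => ?_) (char_mem_Loc χ.2.isCharacter) g
    by_cases hv : v ∈ P
    · rw [extendByZero_of_mem _ hv]
      split_ifs with h4
      exacts [zero_mem _, mul_mem (neg_mem (intCast_mem _ _)) (h2 _ h4)]
    · rw [extendByZero_of_not_mem _ hv]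
      exact zero_mem _
  · rw [s.dG_eq_cP h (h3.isClassFunction hc) hχ hv, h.hm.pr.cP_left h3 v.2 hc, extendByZero_coe,
      if_neg hv, mul_left_comm (Nat.card P : ℂ), h.cP_eq hc hc hv, s.dX χ hχ v hv, map_neg,
      map_intCast]
    linear_combination (-dG Φ a v * (1 + ε χ * ε χ)) * s.sq χ

end CyS

variable {H : Type*} [Group H] [Finite H] {Q : Subgroup H} {f : (Res M)[H]}
  {A : Set (IrrCharacter H)} {w : H} {γ : Set (IrrCharacter C[Z[w]])} {f' : (Res M)[C[Z[w]]]}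
  {Ψ : (Q →* ℂˣ) → IrrCharacter C[Z[w]]} [Fintype C[Z[w]]] {X' : Finset (IrrCharacter H)}
  {y' : (Q →* ℂˣ) → IrrCharacter H} {ε' : IrrCharacter H → ℤ} {δ' : ℤ}

variable (ε δ ε' δ') in
/-- The kernel of the isometry. -/
noncomputable def pker (i : X' ≃ X) (j : exc y' ≃ exc y) (x : G) (z : H) : ℂ :=
  ∑ η : X', ε' η * ε (i η) * ((i η).1.1 x * η.1.1 z) +
    ∑ η : exc y', δ' * δ * ((j η).1.1 x * η.1.1 z)

omit hM hp [Fintype C[Z[u]]] [Fintype C[Z[w]]] in
theorem pker_symm (i : X' ≃ X) (j : exc y' ≃ exc y) (x : G) (z : H) :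
    pker ε' δ' ε δ i.symm j.symm z x = pker ε δ ε' δ' i j x z := by
  rw [pker, ← i.sum_comp, ← j.sum_comp]
  simp only [pker, Equiv.symm_apply_apply, mul_comm]

theorem pker_half (s : CyS p e B Φ X y ε δ) (h : CyD p P e B u β e' Φ)
    (s' : CyS p f A Ψ X' y' ε' δ') (h' : CyD p Q f A w γ f' Ψ) (i : X' ≃ X) (j : exc y' ≃ exc y)
    (κ : P ≃* Q) (hj : ∀ ψ v, v ≠ 1 → δ * dG Φ (j ψ).1.1 v = δ' * dG Ψ ψ.1.1 (κ v)) (x : G) (z : H) :
    pker ε δ ε' δ' i j x z / Nat.card (Subgroup.centralizer ({z} : Set H)) ∈ Loc M ∧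
      ((¬ p ∣ orderOf x ↔ ¬ p ∣ orderOf z) ∨ pker ε δ ε' δ' i j x z = 0) := by
  classical
  have := Fintype.ofFinite G
  have := Fintype.ofFinite H
  have hα := isClassFunction_classInd z⁻¹
  obtain ⟨c, hc⟩ : ∃ c : IrrCharacter G → ℂ, ∀ χ, c χ =
    if h : χ ∈ X then ε' (i.symm ⟨χ, h⟩) * ε χ * classInner (classInd z⁻¹) (i.symm ⟨χ, h⟩).1.1 else
    if h : χ ∈ exc y then δ' * δ * classInner (classInd z⁻¹) (j.symm ⟨χ, h⟩).1.1 else 0 :=
    ⟨_, fun _ => rfl⟩
  have ha := isClassFunction_sum_irr c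
  have h1 : ∀ η, c (i η) = ε' η * ε (i η) * classInner (classInd z⁻¹) η.1.1 := fun η => by
    simp [hc]
  have h2 : ∀ η, c (j η) = δ' * δ * classInner (classInd z⁻¹) η.1.1 := fun η => by
    simp [hc, Finset.disjoint_right.1 s.disjoint (j η).2]
  have h3 : blockPart B (∑ χ, c χ • χ.1) x =
      pker ε δ ε' δ' i j x z / Nat.card (Subgroup.centralizer ({z} : Set H)) := by
    simp only [s.blockPart_eq, classInner_sum_irr, Pi.add_apply, Finset.sum_apply, pker, add_div,
      Finset.sum_div]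
    rw [← X.sum_coe_sort, ← (exc y).sum_coe_sort, ← i.sum_comp, ← j.sum_comp]
    congr 1 <;> refine Finset.sum_congr rfl fun η _ => ?_ <;>
      simp only [h1, h2, classInner_classInd_left η.1.2.isClassFunction, centralizer_inv_singleton,
        η.1.2.isCharacter.apply_inv, Complex.conj_conj, Pi.smul_apply, smul_eq_mul] <;> ring
  have h4 : ∀ η, classInner (∑ χ, c χ • χ.1) (piX y ε δ (i η)) =
      classInner (classInd z⁻¹) (piX y' ε' δ' η) := fun η => by
    simp only [classInner_piX, classInner_sum_irr, h1]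
    rw [← (exc y).sum_coe_sort, ← (exc y').sum_coe_sort, ← j.sum_comp]
    congr 1
    · linear_combination (ε' η * classInner (classInd z⁻¹) η.1.1) * s.sq (i η)
    · exact Finset.sum_congr rfl fun ψ _ => by
        rw [h2]; linear_combination (δ' * classInner (classInd z⁻¹) ψ.1.1) * s.sq'
  have h5 : ∀ v, v ≠ 1 → dG Φ (∑ χ, c χ • χ.1) v = dG Ψ (classInd z⁻¹) (κ v) := fun v hv => by
    rw [s.dG_eq h ha hv, s'.dG_eq h' hα (by simpa using hv), ← X.sum_coe_sort, ← X'.sum_coe_sort,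
      ← (exc y).sum_coe_sort, ← (exc y').sum_coe_sort, ← i.sum_comp, ← j.sum_comp]
    simp only [classInner_sum_irr, h1, h2]
    congr 1 <;> refine Finset.sum_congr rfl fun η _ => ?_
    · linear_combination (-ε' η * classInner (classInd z⁻¹) η.1.1) * s.sq (i η)
    · linear_combination (δ' * classInner (classInd z⁻¹) η.1.1) * hj η v hv +
        (classInner (classInd z⁻¹) η.1.1 * dG Ψ η.1.1 (κ v)) * s'.sq'
  have h6 : ∀ η : X', classInner (classInd z⁻¹) (piX y' ε' δ' η) =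
      piX y' ε' δ' η z / Nat.card (Subgroup.centralizer ({z} : Set H)) := fun η => by
    rw [classInner_classInd_left (isGen_piX _).isClassFunction, (isGen_piX _).apply_inv,
      Complex.conj_conj, centralizer_inv_singleton, div_eq_inv_mul]
  have h7 := (div_eq_zero_iff (a := pker ε δ ε' δ' i j x z)).trans (or_iff_left
    (Nat.cast_ne_zero.2 (Nat.card_pos (α := Subgroup.centralizer ({z} : Set H))).ne'))
  rw [← h7, ← h3]
  refine ⟨s.blockPart_mem h ha (fun χ hχ => ?_) (fun v hv => ?_) x, ?_⟩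
  · obtain ⟨η, hη⟩ := i.surjective ⟨χ, hχ⟩
    rw [show χ = i η from by rw [hη], h4, h6]
    exact div_card_cent_mem (isGen_piX _) (fun g => s'.piX_sing h' η.2) z
  · rw [h5 v hv]
    exact s'.dG_mem h' hα (fun g => mem_Loc_of_isIntegral (isIntegral_classInd _ g))
      (by simpa using hv)
  by_cases hx : p ∣ orderOf x <;> by_cases hz : p ∣ orderOf z
  · simp [hx, hz]
  · refine .inr (h.vanish ha (fun v hv => ?_) hx)
    rw [h5 v hv, s'.dG_of_sing h' hα (fun g hg => classInd_of_not_isConj fun h8 => hz ?_)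
      (by simpa using hv)]
    rwa [← orderOf_inv, orderOf_eq_of_isConj h8]
  · right
    rw [s.blockPart_reg _ hx, ← X.sum_coe_sort, ← i.sum_comp]
    exact Finset.sum_eq_zero fun η _ => by rw [h4, h6, s'.piX_sing h' η.2 hz]; simp
  · simp [hx, hz]

omit [Fintype C[Z[w]]] in
theorem autE_map_eq (h : CyL p P e B u β e') (κ : P ≃* Q)
    (hc : Nat.card (autE Q f) = Nat.card (autE P e)) :
    autE Q f = (autE P e).map (MulAut.congr κ).toMonoidHom := by
  have h1 : Nat.card ((autE P e).map (MulAut.congr κ).toMonoidHom) = Nat.card (autE P e) :=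
    Subgroup.card_map_of_injective (MulAut.congr κ).injective
  rcases hp.out.eq_two_or_odd' with rfl | h2
  · have := Nat.dvd_one.1 (card_autE (P := P) (e := e) ▸ h.relIndex_dvd)
    rw [Subgroup.card_eq_one.1 (hc.trans this), Subgroup.card_eq_one.1 (h1.trans this)]
  have := h.cyc
  have := isCyclic_of_surjective κ κ.surjective
  obtain ⟨k, hk⟩ := IsPGroup.iff_card.1 (h.hm.pr.pgrp.of_equiv κ)
  have h3 : IsCyclic (ZMod (Nat.card Q))ˣ := hk ▸ ZMod.isCyclic_units_of_prime_pow p hp.out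
    (by rintro rfl; exact absurd h2 (by decide)) k
  have h4 := isCyclic_of_surjective _ (IsCyclic.mulAutMulEquiv Q).symm.surjective
  exact CfsgH2.eq_of_card_eq_of_cyclic (C := ⊤) inferInstance le_top le_top (hc.trans h1.symm)

theorem exists_perfect (s : CyS p e B Φ X y ε δ) (h : CyD p P e B u β e' Φ)
    (s' : CyS p f A Ψ X' y' ε' δ') (h' : CyD p Q f A w γ f' Ψ) (h1 : Nat.card Q = Nat.card P)
    (h2 : Nat.card (autE Q f) = Nat.card (autE P e)) :
    ∃ I σ, IsPerfectIsometry p M A B I σ ∧ ∀ η ∈ exc y', σ η = δ' * δ := by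
  classical
  have := h.cyc
  have := h'.cyc
  let κ : P ≃* Q := mulEquivOfCyclicCardEq h1.symm
  have h3 := autE_map_eq h.toCyL κ h2
  have h4 : ∀ l : Q →* ℂˣ, l ≠ 1 → l.comp κ.toMonoidHom ≠ 1 := fun l hl h4 =>
    hl (MonoidHom.ext fun v => by simpa using DFunLike.congr_fun h4 (κ.symm v))
  have h5 : ∀ ψ : exc y', ∃ l, l ≠ 1 ∧ y' l = ψ := fun ψ => mem_exc.1 ψ.2
  choose l h5 h6 using h5
  obtain ⟨i⟩ : Nonempty (X' ≃ X) := ⟨Finset.equivOfCardEq (by rw [s.card, s'.card, h2])⟩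
  let j : exc y' ≃ exc y := Equiv.ofBijective (fun ψ => ⟨_, mem_exc.2 ⟨_, h4 _ (h5 ψ), rfl⟩⟩)
    ((Fintype.bijective_iff_injective_and_card _).2 ⟨fun a b hab => by
      obtain ⟨σ, h7, h8⟩ := (s.eq_iff _ _ (h4 _ (h5 a)) (h4 _ (h5 b))).1 (congrArg Subtype.val hab)
      refine Subtype.ext ?_
      rw [← h6, ← h6, s'.eq_iff _ _ (h5 a) (h5 b)]
      exact ⟨_, h3.ge ⟨σ, h7, rfl⟩, fun v => by simpa using h8 (κ.symm v)⟩,
      by rw [Fintype.card_coe, Fintype.card_coe, s.card_exc' h, s'.card_exc' h', h1, h2]⟩)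
  have hj : ∀ ψ v, v ≠ 1 → δ * dG Φ (j ψ).1.1 v = δ' * dG Ψ ψ.1.1 (κ v) := fun ψ v hv => by
    rw [← h6 ψ, s'.dY _ (h5 ψ) _ (by simpa using hv), show (j ψ).1 = y _ from rfl,
      s.dY _ (h4 _ (h5 ψ)) _ hv, ← mul_assoc, ← mul_assoc, s.sq', s'.sq']
    refine congrArg _ (Fintype.sum_equiv (((MulAut.congr κ).subgroupMap _).trans
      (MulEquiv.subgroupCongr h3.symm)).toEquiv _ _ fun σ => ?_)
    exact congrArg (fun a => (l ψ (κ (σ.1 a)) : ℂ)) (κ.symm_apply_apply v).symm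
  obtain ⟨χ₀, -⟩ := h.hB.nonempty
  have h7 : ∀ η : exc y', η.1 ∉ X' := fun η => Finset.disjoint_right.1 s'.disjoint η.2
  refine ⟨fun η => if h : η ∈ X' then i ⟨η, h⟩ else if h : η ∈ exc y' then j ⟨η, h⟩ else χ₀,
    fun η => if h : η ∈ X' then ε' η * ε (i ⟨η, h⟩) else δ' * δ, ⟨?_, fun η _ => ?_, fun x z => ?_⟩,
    fun η hη => dif_neg (h7 ⟨η, hη⟩)⟩
  · rw [s.eq_union, s'.eq_union]
    refine Set.BijOn.union ?_ ?_ fun a ha b hb hab => ?_
    · exact ⟨fun η hη => by simp [Finset.mem_coe.1 hη], fun a ha b hb hab => by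
        simpa [Finset.mem_coe.1 ha, Finset.mem_coe.1 hb, ← Subtype.ext_iff] using hab,
        fun χ hχ => ⟨i.symm ⟨χ, hχ⟩, (i.symm _).2, by simp⟩⟩
    · exact ⟨fun η hη => by simp [Finset.mem_coe.1 hη, h7 ⟨η, hη⟩], fun a ha b hb hab => by
        simpa [Finset.mem_coe.1 ha, Finset.mem_coe.1 hb, h7 ⟨a, ha⟩, h7 ⟨b, hb⟩, ← Subtype.ext_iff]
          using hab, fun χ hχ => ⟨j.symm ⟨χ, hχ⟩, (j.symm _).2, by simp [h7]⟩⟩
    · have h8 := Finset.disjoint_left.1 s.disjoint
      rcases ha with ha | ha <;> rcases hb with hb | hb <;> rw [Finset.mem_coe] at ha hb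
      · simpa [ha, hb, ← Subtype.ext_iff] using hab
      · simp only [ha, hb, h7 ⟨b, hb⟩, dif_pos, dif_neg, not_false_eq_true] at hab
        exact (h8 (i _).2 (hab ▸ (j _).2)).elim
      · simp only [ha, hb, h7 ⟨a, ha⟩, dif_pos, dif_neg, not_false_eq_true] at hab
        exact (h8 (i _).2 (hab ▸ (j _).2)).elim
      · simpa [ha, hb, h7 ⟨a, ha⟩, h7 ⟨b, hb⟩, ← Subtype.ext_iff] using hab
  · dsimp only
    split_ifs with h8
    · rcases s'.sgn η with h | h <;> rcases s.sgn (i ⟨η, h8⟩) with h' | h' <;> simp [h, h']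
    · rcases s'.sgn' with h | h <;> rcases s.sgn' with h' | h' <;> simp [h, h']
  · rw [show signedBijectionKernel A _ _ x z = pker ε δ ε' δ' i j x z from by
      rw [signedBijectionKernel, s'.eq_union, ← Finset.coe_union, finsum_mem_coe_finset,
        Finset.sum_union s'.disjoint, ← X'.sum_coe_sort, ← (exc y').sum_coe_sort, pker]
      simp [h7, mul_assoc]]
    have h8 := pker_half s h s' h' i j κ hj x z
    have h9 := pker_half s' h' s h i.symm j.symm κ.symm (fun ψ v hv => by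
      simpa using (hj (j.symm ψ) (κ.symm v) (by simpa using hv)).symm) z x
    rw [pker_symm] at h9
    exact ⟨h9.1, h8.1, h8.2⟩

end CfsgH4
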