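import Cfsg.Agent.H4.Cy10
import Cfsg.Agent.H4.Col
import Cfsg.Agent.H3.Iso

/-! Blocks with abelian defect group and rank one nontrivial subsections. -/

set_option autoImplicit false
open Cfsg MonoidAlgebra CfsgL0 CfsgH1 CfsgH4
open CfsgH3 hiding cj cj_cj
open scoped ComplexConjugate Pointwise

namespace CfsgH4

local notation "C[" Q "]" => Subgroup.centralizer (SetLike.coe (Q : Subgroup _))
local notation "N[" Q "]" => Subgroup.normalizer (SetLike.coe (Q : Subgroup _))
local notation "Z[" u "]" => Subgroup.zpowers u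

variable {G : Type*} [Group G] [Fintype G] {M : Ideal AlgInt} {p : ℕ} [hM : PMod p M]
  [hp : Fact p.Prime] {P : Subgroup G} {e : (Res M)[G]} {B : Set (IrrCharacter G)}
  {d : (G → ℂ) →ₗ[ℂ] P → ℂ}

variable (p e B d) in
/-- Generalized decomposition numbers at the nontrivial elements of an abelian defect group. -/
structure GD : Prop where
  hm : MaxPr p (eB M B) P e
  hB : IsPBlock M B
  comm : P ≤ C[P]
  cP_eq : ∀ a c, IsClassFunction G a → IsClassFunction G c → ∀ v : P, v ≠ 1 →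
    Nat.card P * cP p P e a c v = d a v * conj (d c v)

theorem CS.div_card_cent_mem {θ : G → ℂ} (hθ : CS ZI θ) (h0 : ∀ g, p ∣ orderOf g → θ g = 0) (g : G) :
    θ g / Nat.card (Subgroup.centralizer ({g} : Set G)) ∈ Loc M := by
  by_cases hg : p ∣ orderOf g
  · simp [h0 g hg]
  obtain ⟨S⟩ : Nonempty (Sylow p (Subgroup.centralizer ({g} : Set G))) := inferInstance
  have h1 := ZI_le_LI (M := M) (hθ.div_card_mem_of_sing h0 hg (S.isPGroup'.map
    (Subgroup.subtype _)) (Subgroup.map_subtype_le _))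
  rw [Subgroup.card_subtype] at h1
  rw [← (S : Subgroup _).card_mul_index, Nat.cast_mul, ← div_div, div_eq_mul_inv]
  exact mul_mem h1 (inv_natCast_mem_Loc S.not_dvd_index)

namespace GD
variable (h : GD p e B d)
include h

theorem of_notMem {χ : IrrCharacter G} (hχ : χ ∉ B) {v : P} (hv : v ≠ 1) : d χ.1 v = 0 := by
  have := h.cP_eq _ _ χ.2.isClassFunction χ.2.isClassFunction v hv
  rw [h.hm.cP_of_notMem h.hB hχ v.2] at this
  simpa using this

theorem ne_zero {χ : IrrCharacter G} (hχ : χ ∈ B) {v : P} (hv : v ≠ 1) : d χ.1 v ≠ 0 := by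
  obtain ⟨ψ, -, h1⟩ := h.hm.exists_cP_ne h.hB h.comm
  have := h.cP_eq _ _ χ.2.isClassFunction ψ.2.isClassFunction v hv
  exact left_ne_zero_of_mul
    (this ▸ mul_ne_zero (Nat.cast_ne_zero.2 Nat.card_pos.ne') (h1 χ hχ v v.2))

theorem blockPart_eq {a : G → ℂ} (ha : IsClassFunction G a) {v : P} (hv : v ≠ 1) :
    d (blockPart B a) v = d a v := by
  classical
  conv_rhs => rw [ha.eq_sum_irr]
  simp only [blockPart_eq_sum, map_sum, map_smul, Finset.sum_apply, Pi.smul_apply, smul_eq_mul]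
  refine Finset.sum_congr rfl fun χ _ => ?_
  split_ifs with h1
  · rfl
  · simp [h.of_notMem h1 hv]

omit h [Fintype G] hp in
theorem fSt_ite {η : G → ℂ} (hη : FSt p P e η) (z : ℂ) [DecidableEq G] :
    FSt p P e fun v => if v = 1 then z else η v := fun v x hx => by
  simp only [conj_eq_one_iff, hη v x hx]

theorem vanish {a : G → ℂ} (ha : IsClassFunction G a) (h0 : ∀ v, v ≠ 1 → d a v = 0) {g : G}
    (hg : p ∣ orderOf g) : blockPart B a g = 0 := by
  classical
  have h1 := fSt_ite (fSt_const (p := p) (P := P) (e := e) 0) 1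
  have h2 := fSt_ite (fSt_const (p := p) (P := P) (e := e) 1) 0
  have h3 := (h2.isClassFunction ha).eq_zero_of_orthogonal fun χ hχ => by
    rw [h.hm.pr.classInner_bs h2 ha hχ.isClassFunction]
    refine Finset.sum_eq_zero fun v hv => ?_
    split_ifs with h3
    · simp
    · have := h.cP_eq _ _ ha hχ.isClassFunction ⟨v, (Finset.mem_filter.1 hv).2⟩ (by simpa using h3)
      rw [h0 _ (by simpa using h3), zero_mul, mul_eq_zero] at this
      simp [this.resolve_left (Nat.cast_ne_zero.2 Nat.card_pos.ne')]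
  rw [← h.hm.bs_one h.hB ha, bs_congr (η' := (fun v => if v = 1 then 1 else 0) +
    fun v => if v = 1 then 0 else 1) fun v hv => by
      simp only [Pi.add_apply]; split_ifs <;> simp, bs_add_left, h3, add_zero, bs, bst_apply]
  refine Finset.sum_eq_zero fun b _ => mul_eq_zero_of_left ?_ _
  by_cases h4 : ∃ x, PLe p (cj x Z[ppart p g]) (cnj x b) P e
  · obtain ⟨x, hx⟩ := h4
    rw [h1.ext_eq hx, if_neg fun h6 => ppart_eq_one_iff.1 (conj_eq_one_iff.1 h6) hg]
  · exact ext_of_not h4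

theorem of_sing {a : G → ℂ} (ha : IsClassFunction G a) (h1 : ∀ g, p ∣ orderOf g → a g = 0)
    {v : P} (hv : v ≠ 1) : d a v = 0 := by
  classical
  obtain ⟨χ, hχ⟩ := h.hB.nonempty
  have := h.cP_eq _ _ χ.2.isClassFunction ha v hv
  rw [cP, ct, Finset.sum_eq_zero fun g hg => by
      rw [h1 g (by_contra fun h2 => hv (Subtype.ext ((Finset.mem_filter.1 hg).2.symm.trans
        (ppart_eq_one_iff.2 h2)))), map_zero, mul_zero]] at this
  simpa [h.ne_zero hχ hv] using this

theorem card_mul_mem {a c : G → ℂ} (ha : IsClassFunction G a) (h1 : ∀ g, a g ∈ Loc M)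
    (hc : IsGeneralizedCharacter G c) (v : P) : Nat.card P * cP p P e a c v ∈ Loc M :=
  h.hm.pr.card_mul_cP_mem v.2 (h.hm.isDef_cent_of_le (h.hm.pr.ple_dn (Subgroup.zpowers_le.2 v.2))
    (h.comm.trans (cent_anti (Subgroup.zpowers_le.2 v.2)))) ha h1 hc

theorem d_bs {η a : G → ℂ} (hη : FSt p P e η) (ha : IsClassFunction G a) {v : P} (hv : v ≠ 1) :
    d (bs p P e η a) v = η v * d a v := by
  obtain ⟨χ, hχ⟩ := h.hB.nonempty
  have h1 := h.cP_eq _ _ (hη.isClassFunction ha) χ.2.isClassFunction v hv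
  rw [h.hm.pr.cP_left hη v.2 ha, mul_left_comm, h.cP_eq _ _ ha χ.2.isClassFunction v hv,
    ← mul_assoc] at h1
  exact (mul_right_cancel₀ ((map_ne_zero _).2 (h.ne_zero hχ hv)) h1).symm

theorem mem_of_sing {a : G → ℂ} (ha : IsClassFunction G a) {χ : IrrCharacter G}
    (h1 : ∀ v, v ≠ 1 → d χ.1 v * conj (d χ.1 v) = 1)
    (h2 : ∀ v, v ≠ 1 → d a v * conj (d χ.1 v) ∈ Loc M) {g : G} (hg : p ∣ orderOf g) :
    blockPart B a g ∈ Loc M := by
  classical
  have hc := χ.2.isClassFunction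
  have h3 := (fSt_ite ((h.hm.pr.fSt_cP ha hc).smul (Nat.card P)) 0).congr
    (η' := fun v => if hv : v ∈ P ∧ v ≠ 1 then d a ⟨v, hv.1⟩ * conj (d χ.1 ⟨v, hv.1⟩) else 0)
    fun v hv => by
      by_cases h3 : v = 1
      · simp [h3]
      · simpa [h3, hv] using h.cP_eq _ _ ha hc ⟨v, hv⟩ (by simpa using h3)
  have h4 := h.vanish (ha.sub (h3.isClassFunction hc)) (fun v hv => by
    rw [map_sub, Pi.sub_apply, h.d_bs h3 hc hv, dif_pos ⟨v.2, by simpa using hv⟩, mul_assoc,
      mul_comm (conj _), h1 v hv, mul_one, sub_self]) hg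
  rw [blockPart_sub, Pi.sub_apply, sub_eq_zero, h.hm.blockPart_bs h.hB h3 hc] at h4
  rw [h4]
  refine bs_mem_Loc (fun v => ?_) (char_mem_Loc χ.2.isCharacter) g
  split_ifs with hv
  exacts [h2 _ (by simpa using hv.2), zero_mem _]

end GD

omit hM hp in
theorem blockPart_eq_range {ι : Type*} [Fintype ι] {f : ι → IrrCharacter G}
    (hf : Function.Injective f) (a : G → ℂ) :
    blockPart (Set.range f) a = ∑ i, classInner a (f i).1 • (f i).1 := by
  classical
  rw [blockPart_eq_sum, ← Finset.sum_image (f := fun χ : IrrCharacter G => classInner a χ.1 • χ.1)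
    hf.injOn, ← Finset.sum_subset (Finset.univ.image f).subset_univ fun χ _ h => by
      rw [if_neg (by simpa using h), zero_smul]]
  exact Finset.sum_congr rfl fun χ h => by rw [if_pos (by simpa using h)]

omit hM hp in
theorem blockPart_sum_range {ι : Type*} [Fintype ι] (f : ι → IrrCharacter G) (c : ι → ℂ) :
    blockPart (Set.range f) (∑ i, c i • (f i).1) = ∑ i, c i • (f i).1 := by
  rw [blockPart_sum]
  exact Finset.sum_congr rfl fun i _ => by rw [blockPart_smul, blockPart_irr_of_mem (Set.mem_range_self i)]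

section Perf
variable {H : Type*} [Group H] [Fintype H] {Q : Subgroup H} {e' : (Res M)[H]}
  {d' : (H → ℂ) →ₗ[ℂ] Q → ℂ} {ι : Type*} [Fintype ι] {f : ι → IrrCharacter G}
  {g : ι → IrrCharacter H} {ε : ι → ℤ}

theorem GD.perf_half (h : GD p e (Set.range f) d) (h' : GD p e' (Set.range g) d')
    (hf : Function.Injective f) (hg : Function.Injective g) (hε : ∀ i, ε i = 1 ∨ ε i = -1)
    (κ : P ≃* Q) (h1 : ∀ i v, v ≠ 1 → d' (g i).1 (κ v) = ε i * d (f i).1 v) {i₀ : ι}
    (h2 : ∀ v, v ≠ 1 → d (f i₀).1 v * conj (d (f i₀).1 v) = 1) (x : G) (z : H) :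
    (∑ i, ε i * (f i).1 x * (g i).1 z) / Nat.card (Subgroup.centralizer ({z} : Set H)) ∈ Loc M ∧
      (¬ p ∣ orderOf x → p ∣ orderOf z → ∑ i, ε i * (f i).1 x * (g i).1 z = 0) := by
  classical
  have hs : ∀ i, (ε i : ℂ) * ε i = 1 := fun i => by rcases hε i with h | h <;> simp [h]
  by_cases hx : p ∣ orderOf x
  · refine ⟨?_, fun h => (h hx).elim⟩
    have hα := isClassFunction_classInd z⁻¹
    have h3 := h.mem_of_sing (a := ∑ i, (ε i * classInner (classInd z⁻¹) (g i).1) • (f i).1)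
      (blockPart_sum_range f _ ▸ isClassFunction_blockPart _ _) h2 (fun v hv => by
        have h3 := h'.blockPart_eq hα (v := κ v) (by simpa using hv)
        have h4 := h'.card_mul_mem hα (fun g => mem_Loc_of_isIntegral (isIntegral_classInd _ g))
          (g i₀).2.isGen (κ v)
        rw [h'.cP_eq _ _ hα (g i₀).2.isClassFunction _ (by simpa using hv), ← h3, h1 i₀ v hv,
          blockPart_eq_range hg] at h4
        convert mul_mem (intCast_mem _ (ε i₀)) h4 using 1
        simp only [map_sum, map_smul, Finset.sum_apply, Pi.smul_apply, smul_eq_mul, h1 _ v hv,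
          map_mul, map_intCast, mul_assoc, mul_left_comm (ε _ : ℂ)]
        rw [← mul_assoc (ε i₀ : ℂ), hs, one_mul]) hx
    rw [blockPart_sum_range] at h3
    convert h3 using 1
    simp only [Finset.sum_apply, Finset.sum_div, classInner_classInd_left (g _).2.isClassFunction,
      centralizer_inv_singleton, (g _).2.isCharacter.apply_inv, Complex.conj_conj, Pi.smul_apply,
      smul_eq_mul]
    exact Finset.sum_congr rfl fun i _ => by ring
  have h3 : ∀ y, p ∣ orderOf y → (∑ i, (ε i * (f i).1 x) • (g i).1) y = 0 := fun y hy => by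
    rw [← blockPart_sum_range g]
    refine h'.vanish (blockPart_sum_range g _ ▸ isClassFunction_blockPart _ _) (fun w hw => ?_) hy
    obtain ⟨v, rfl⟩ := κ.surjective w
    have hv : v ≠ 1 := by simpa using hw
    have h4 := h.of_sing (isClassFunction_colB (Set.range f) x⁻¹)
      (colB_eq_zero_of_sing h.hB.fB_mem (by simpa using hx)) hv
    rw [← blockPart_colB, blockPart_eq_range hf] at h4
    rw [← h4]
    simp only [map_sum, map_smul, Finset.sum_apply, Pi.smul_apply, smul_eq_mul, h1 _ v hv,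
      classInner_colB, Set.mem_range_self, if_true, (f _).2.isCharacter.apply_inv, Complex.conj_conj]
    exact Finset.sum_congr rfl fun i _ => by linear_combination (f i).1 x * d (f i).1 v * hs i
  have h4 := CS.div_card_cent_mem (M := M) (CS.sum _ fun i _ => (cs_irr (g i)).smul_of_ZI
    (mem_ZI.2 ((isIntegral_intCast _).mul ((f i).2.isGen.isIntegral x)))) h3 z
  exact ⟨by simpa using h4, fun _ hz => by simpa using h3 z hz⟩

theorem GD.exists_perfect [Nonempty ι] (h : GD p e (Set.range f) d) (h' : GD p e' (Set.range g) d')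
    (hf : Function.Injective f) (hg : Function.Injective g) (hε : ∀ i, ε i = 1 ∨ ε i = -1)
    (κ : P ≃* Q) (h1 : ∀ i v, v ≠ 1 → d' (g i).1 (κ v) = ε i * d (f i).1 v) {i₀ : ι}
    (h2 : ∀ v, v ≠ 1 → d (f i₀).1 v * conj (d (f i₀).1 v) = 1) :
    ∃ I σ, IsPerfectIsometry p M (Set.range g) (Set.range f) I σ := by
  have hs : ∀ i, (ε i : ℂ) * ε i = 1 := fun i => by rcases hε i with h | h <;> simp [h]
  have h3 := Function.leftInverse_invFun hg
  refine ⟨f ∘ Function.invFun g, ε ∘ Function.invFun g, ⟨?_, ?_, ?_⟩, fun η _ => hε _, fun x z => ?_⟩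
  · exact fun _ _ => ⟨_, rfl⟩
  · rintro _ ⟨i, rfl⟩ _ ⟨j, rfl⟩ h4
    exact congrArg g (by simpa [h3 _] using hf h4)
  · rintro _ ⟨i, rfl⟩
    exact ⟨g i, ⟨i, rfl⟩, by simp [h3 i]⟩
  rw [show signedBijectionKernel _ _ _ x z = ∑ i, ε i * (f i).1 x * (g i).1 z from by
    rw [signedBijectionKernel, finsum_mem_range hg, finsum_eq_sum_of_fintype]
    simp [h3 _]]
  have h4 := h.perf_half h' hf hg hε κ h1 h2 x z
  have h5 := h'.perf_half h hg hf hε κ.symm (i₀ := i₀) (fun i v hv => by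
    have := h1 i (κ.symm v) (by simpa using hv)
    rw [κ.apply_symm_apply] at this
    rw [this, ← mul_assoc, hs, one_mul]) (fun w hw => by
    obtain ⟨v, rfl⟩ := κ.surjective w
    rw [h1 _ v (by simpa using hw), map_mul, map_intCast, mul_mul_mul_comm, hs, one_mul,
      h2 v (by simpa using hw)]) z x
  simp only [mul_right_comm _ ((g _).1 z)] at h5
  refine ⟨h5.1, h4.1, ?_⟩
  by_cases hx : p ∣ orderOf x <;> by_cases hz : p ∣ orderOf z
  exacts [.inl (iff_of_false (not_not.2 hx) (not_not.2 hz)), .inr (h5.2 hz hx), .inr (h4.2 hx hz),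
    .inl (iff_of_true hx hz)]

end Perf

variable (P e) in
/-- The stabilizer of the pair acts freely. -/
def Free : Prop := ∀ u ∈ P, u ≠ 1 → C[Z[u]] ⊓ stab N[P] e ≤ C[P]

omit hp [Fintype G] in
theorem Free.aut (h : Free P e) {σ : MulAut P} (hσ : σ ∈ autE P e) {v : P} (h1 : v ≠ 1)
    (h2 : σ v = v) : σ = 1 := by
  obtain ⟨t, ht, h3⟩ := mem_autE.1 hσ
  have := h v v.2 (by simpa using h1) ⟨mem_cent_zpowers.2 (mul_inv_eq_iff_eq_mul.1
    ((h3 v).symm.trans (congrArg _ h2))), ht⟩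
  ext w
  rw [h3, mem_cent_iff_conj.1 this _ w.2, MulAut.one_apply]

omit hp in
theorem Free.lin (h : Free P e) {σ : MulAut P} (hσ : σ ∈ autE P e) {l : P →* ℂˣ} (h1 : l ≠ 1)
    (h2 : ∀ v, l (σ v) = l v) : σ = 1 := by_contra fun h3 => h1 (MonoidHom.ext fun v => by
  obtain ⟨w, rfl⟩ := surj_of_free (map_mul σ) (fun v h4 => by_contra fun h5 =>
    h3 (h.aut hσ h5 h4)) v
  simp [h2])

open Classical in
omit hp in
theorem Free.sum_ite (h : Free P e) {l : P →* ℂˣ} (hl : l ≠ 1) (f : (P →* ℂˣ) → ℂ) :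
    ∑ σ : autE P e, f (l.comp σ.1.toMonoidHom) = ∑ l', if Orb e l l' then f l' else 0 := by
  rw [← Finset.sum_filter]
  refine Finset.sum_bij (fun σ _ => l.comp σ.1.toMonoidHom) (fun σ _ => by
    simpa using ⟨σ.1, σ.2, fun _ => rfl⟩) (fun σ _ τ _ h1 => ?_) (fun l' h1 => ?_) fun _ _ => rfl
  · refine Subtype.ext (mul_inv_eq_one.1 (h.lin (mul_mem σ.2 (inv_mem τ.2)) hl fun v => ?_))
    simpa using DFunLike.congr_fun h1 (τ.1⁻¹ v)
  · obtain ⟨σ, h2, h3⟩ := (Finset.mem_filter.1 h1).2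
    exact ⟨⟨σ, h2⟩, Finset.mem_univ _, MonoidHom.ext h3⟩

theorem Pr.cP_aut (h : Pr p P e) {a c : G → ℂ} (ha : IsClassFunction G a)
    (hc : IsClassFunction G c) {σ : MulAut P} (hσ : σ ∈ autE P e) (v : P) :
    cP p P e a c (σ v) = cP p P e a c v := by
  obtain ⟨t, ht, h1⟩ := mem_autE.1 hσ
  rw [h1]
  exact h.fSt_cP ha hc v t (h.fuses (Subgroup.zpowers_le.2 v.2) ht)

end CfsgH4
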