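import Cfsg.Agent.H4.Fr1

/-! Exceptional characters for a free inertial action on an abelian defect group. -/

set_option autoImplicit false
open Cfsg MonoidAlgebra CfsgL0 CfsgH1 CfsgH4
open CfsgH3 hiding cj cj_cj
open scoped ComplexConjugate Pointwise

namespace CfsgH4

local notation "C[" Q "]" => Subgroup.centralizer (SetLike.coe (Q : Subgroup _))
local notation "N[" Q "]" => Subgroup.normalizer (SetLike.coe (Q : Subgroup _))
local notation "Z[" u "]" => Subgroup.zpowers u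

variable {G : Type*} [Group G] [Fintype G] {M : Ideal AlgInt} {p : ℕ} [hM : PMod p M]
  [hp : Fact p.Prime] {P : Subgroup G} {e : (Res M)[G]} {B : Set (IrrCharacter G)}
  {d : (G → ℂ) →ₗ[ℂ] P → ℂ}

variable (e) in
/-- The orbit sum of a linear character. -/
noncomputable def orbS (l : P →* ℂˣ) (v : P) : ℂ := ∑ σ : autE P e, (l (σ.1 v) : ℂ)

omit hp in
theorem orbS_aut (l : P →* ℂˣ) {τ : MulAut P} (hτ : τ ∈ autE P e) (v : P) :
    orbS e l (τ v) = orbS e l v :=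
  Equiv.sum_comp (Equiv.mulRight (⟨τ, hτ⟩ : autE P e)) fun σ : autE P e => (l (σ.1 v) : ℂ)

omit hp in
theorem orbS_one (l : P →* ℂˣ) : orbS e l 1 = Nat.card (autE P e) := by
  simp [orbS, Nat.card_eq_fintype_card]

open Classical in
omit hp in
theorem Free.orbS_eq (h : Free P e) {l : P →* ℂˣ} (hl : l ≠ 1) (v : P) :
    orbS e l v = ∑ l', if Orb e l l' then (l' v : ℂ) else 0 := h.sum_ite hl fun k => (k v : ℂ)

open Classical in
omit hp in
theorem Free.sum_orbS_mul (h : Free P e) [Fintype P] {l : P →* ℂˣ} (hl : l ≠ 1) (k : P →* ℂˣ) :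
    ∑ v, orbS e l v * conj (k v : ℂ) = if Orb e l k then (Nat.card P : ℂ) else 0 := by
  simp only [h.orbS_eq hl, Finset.sum_mul]
  rw [Finset.sum_comm, Finset.sum_eq_single k (fun l' _ h => by simp [sum_lin_mul_conj, h]) (by simp)]
  simp [sum_lin_mul_conj]

variable (p e B d) in
/-- The character theory in the free case. -/
structure FrS (X : Finset (IrrCharacter G)) (y : (P →* ℂˣ) → IrrCharacter G)
    (a : IrrCharacter G → ℤ) (c δ : ℤ) : Prop where
  sgn : δ = 1 ∨ δ = -1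
  mem : ∀ χ, χ ∈ B ↔ χ ∈ X ∨ χ ∈ exc y
  notMem : ∀ l, l ≠ 1 → y l ∉ X
  eq_iff : ∀ l l', l ≠ 1 → l' ≠ 1 → (y l = y l' ↔ Orb e l l')
  ne : ∀ χ ∈ X, a χ ≠ 0
  dX : ∀ χ ∈ X, ∀ v, v ≠ 1 → d χ.1 v = a χ
  dY : ∀ l, l ≠ 1 → ∀ v, v ≠ 1 → d (y l).1 v = c + δ * orbS e l v
  card : Nat.card (autE P e) * (exc y).card + 1 = Nat.card P
  two_le : 2 ≤ (exc y).card
  norm : (c - δ) ^ 2 + ((exc y).card - 1) * c ^ 2 + ∑ χ ∈ X, a χ ^ 2 = Nat.card (autE P e) + 1
  reg : ∀ l, l ≠ 1 → ∀ g, ¬ p ∣ orderOf g →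
    δ * (y l).1 g = c * ∑ ψ ∈ exc y, ψ.1 g + ∑ χ ∈ X, a χ * χ.1 g

theorem GD.exists_frS (h : GD p e B d) (hf : Free P e) {θ : G → ℂ} (hθ : IsGeneralizedCharacter G θ)
    (h1 : ∀ v, v ≠ 1 → d θ v = 1) (h2 : Nat.card (autE P e) + 1 < Nat.card P) :
    ∃ X y a c δ, FrS p e B d X y a c δ := by
  classical
  have := Fintype.ofFinite P
  have hq : (Nat.card P : ℂ) ≠ 0 := Nat.cast_ne_zero.2 Nat.card_pos.ne'
  have he : (Nat.card (autE P e) : ℂ) ≠ 0 := Nat.cast_ne_zero.2 Nat.card_pos.ne'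
  have hc := comm_of_le_cent h.comm
  have hθ' := hθ.isClassFunction
  have hsl : ∀ v : P, v ≠ 1 → ∑ l : P →* ℂˣ with l ≠ 1, (l v : ℂ) = -1 := fun v hv => by
    convert sum_lin_ne hc hv
  have h3 : ∀ l : P →* ℂˣ, FSt p P e (extendByZero P fun v => orbS e l v - Nat.card (autE P e)) :=
    fun l => h.hm.fSt_of_comm h.comm fun v hv t ht => by
      rw [extendByZero_of_mem _ hv, extendByZero_of_mem _ (conj_mem_of_norm ht.1 v hv)]
      exact congrArg (· - _) (orbS_aut l ⟨⟨t, ht⟩, rfl⟩ ⟨v, hv⟩)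
  obtain ⟨J, hJ⟩ : ∃ J : (P →* ℂˣ) → G → ℂ, ∀ l, J l = bs p P e (extendByZero P fun v =>
    orbS e l v - Nat.card (autE P e)) θ := ⟨_, fun _ => rfl⟩
  have hJ1 : ∀ l, IsGeneralizedCharacter G (J l) := fun l => hJ l ▸ h.hm.isGen_bs (h3 l) (by
    simp only [extendByZero_coe]
    have := (isGen_sum (Finset.univ : Finset (autE P e)) _ fun σ _ =>
      (isIrr_of_unitsHom (l.comp σ.1.toMonoidHom)).isGen).sub
      ((irrOne P).2.isGen.zsmul (Nat.card (autE P e)))
    convert this using 1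
    ext v
    simp [orbS, irrOne]) hθ
  have hJ2 : ∀ l g, ¬ p ∣ orderOf g → J l g = 0 := fun l g hg => by
    rw [hJ, h.hm.bs_reg h.hB (h3 l) hθ' hg, extendByZero_of_mem _ (one_mem P)]
    simp [show (⟨1, one_mem P⟩ : P) = 1 from rfl, orbS_one]
  have hJ3 : ∀ l v, v ≠ 1 → d (J l) v = orbS e l v - Nat.card (autE P e) := fun l v hv => by
    rw [hJ, h.d_bs (h3 l) hθ' hv, h1 v hv, extendByZero_coe, mul_one]
  have h4 : ∀ a, IsClassFunction G a → ∀ σ ∈ autE P e, ∀ v, v ≠ 1 → d a (σ v) = d a v :=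
    fun a ha σ hσ v hv => by
      have := h.cP_eq _ _ ha hθ' (σ v) (by simpa using hv)
      rw [h.hm.pr.cP_aut ha hθ' hσ, h.cP_eq _ _ ha hθ' v hv, h1 v hv, h1 _ (by simpa using hv)] at this
      simpa using this.symm
  have hJ4 : ∀ l c, IsClassFunction G c → classInner (J l) c =
      (Nat.card P : ℂ)⁻¹ * ∑ v, ((l v : ℂ) - 1) * conj (d c v) := fun l c hc' => by
    have h5 : ∀ σ : autE P e, ∑ v, ((l (σ.1 v) : ℂ) - 1) * conj (d c v) =
        ∑ v, ((l v : ℂ) - 1) * conj (d c v) := fun σ => by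
      rw [← Equiv.sum_comp σ.1.toEquiv fun v => ((l v : ℂ) - 1) * conj (d c v)]
      refine Finset.sum_congr rfl fun v _ => ?_
      by_cases hv : v = 1
      · simp [hv]
      · rw [← h4 c hc' σ.1 σ.2 v hv]; rfl
    have h6 := Finset.sum_congr (s₁ := Finset.univ) rfl fun σ _ => h5 σ
    rw [Finset.sum_const, Finset.card_univ, ← Nat.card_eq_fintype_card, nsmul_eq_mul,
      eq_comm, ← eq_inv_mul_iff_mul_eq₀ he, Finset.sum_comm] at h6
    rw [hJ, h.hm.pr.classInner_bs (h3 l) hθ' hc', sum_mem_eq, h6, Finset.mul_sum, Finset.mul_sum]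
    refine Finset.sum_congr rfl fun v _ => ?_
    rw [extendByZero_coe, ← Finset.sum_mul, Finset.sum_sub_distrib, Finset.sum_const, Finset.card_univ,
      ← Nat.card_eq_fintype_card, nsmul_one]
    by_cases hv : v = 1
    · simp [hv, orbS_one, Nat.card_eq_fintype_card]
    · have := h.cP_eq _ _ hθ' hc' v hv
      rw [h1 v hv, one_mul] at this
      rw [h.hm.fw_of_free h.comm v.2 (hf v v.2 (by simpa using hv)), ← card_autE, ← this, orbS]
      field_simp
  have h5 : ∀ l l', l ≠ 1 → l' ≠ 1 → classInner (J l) (J l') =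
      Nat.card (autE P e) + if Orb e l l' then 1 else 0 := fun l l' hl hl' => by
    have a1 := congrArg conj (hf.sum_orbS_mul hl' l)
    have a2 := congrArg conj (hf.sum_orbS_mul hl' 1)
    have a3 := sum_lin_mul_conj l 1
    rw [if_neg fun h => Orb.ne_one h hl' rfl] at a2
    simp only [map_sum, map_mul, Complex.conj_conj, MonoidHom.one_apply, Units.val_one, map_one,
      mul_one, if_neg hl, map_zero] at a1 a2 a3
    rw [hJ4 _ _ (hJ1 l').isClassFunction, Finset.sum_congr rfl (g := fun v => conj (orbS e l' v) * l v -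
      conj (orbS e l' v) - Nat.card (autE P e) * l v + Nat.card (autE P e)) fun v _ => by
        by_cases hv : v = 1
        · simp [hv]
        · rw [hJ3 _ _ hv, map_sub, map_natCast]; ring]
    simp only [Finset.sum_add_distrib, Finset.sum_sub_distrib, ← Finset.mul_sum, a1, a2, a3,
      Finset.sum_const, Finset.card_univ, ← Nat.card_eq_fintype_card, nsmul_eq_mul,
      show Orb e l' l ↔ Orb e l l' from ⟨orb_equiv.symm, orb_equiv.symm⟩]
    split_ifs <;> simp [hq, mul_add, add_comm]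
  choose μ hμ using fun l (χ : IrrCharacter G) => (hJ1 l).exists_int_classInner χ.2.isGen
  have h10 : ∀ l, classInner (J l) (J l) = ∑ χ, (μ l χ : ℂ) * μ l χ := fun l => by
    rw [(hJ1 _).isClassFunction.classInner_eq_sum_irr]
    exact Finset.sum_congr rfl fun χ _ => by rw [← conj_classInner (J l), hμ, map_intCast]
  have h6 : ∀ (χ : IrrCharacter G) v, v ≠ 1 → d χ.1 v = ∑ l with l ≠ 1, μ l χ * (l v : ℂ) :=
    fun χ v hv => by
      rw [Finset.sum_filter_of_ne (p := (· ≠ 1)) fun l _ h h' => h (by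
        rw [← hμ, hJ4 _ _ χ.2.isClassFunction, h']; simp)]
      apply star_injective
      simp only [star_sum, star_mul', star_intCast]
      simp only [RCLike.star_def, ← hμ, hJ4 _ _ χ.2.isClassFunction, Finset.sum_mul, mul_assoc, ← Finset.mul_sum, conj_lin]
      rw [Finset.sum_comm, Finset.sum_eq_single v (fun w _ hw => ?_) (by simp)] <;>
        simp only [mul_comm (conj _), ← mul_assoc, ← Finset.sum_mul, sub_mul, one_mul,
          Finset.sum_sub_distrib, ← Units.val_mul, ← map_mul, sum_lin hc]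
      · simp [hv, hq]
      · simp [hv, hw, mul_inv_eq_one]
  obtain ⟨l₀, l₁, b1, b2, b3⟩ : ∃ l₀ l₁ : P →* ℂˣ, l₀ ≠ 1 ∧ l₁ ≠ 1 ∧ ¬ Orb e l₀ l₁ := by
    by_contra! h7
    have : Nontrivial (P →* ℂˣ) := Finite.one_lt_card_iff_nontrivial.1 (by rw [card_lin hc]; omega)
    obtain ⟨l, hl⟩ := exists_ne (1 : P →* ℂˣ)
    have h8 := hf.sum_ite hl fun _ => 1
    rw [Finset.sum_congr rfl fun k _ => if_congr (show Orb e l k ↔ k ≠ 1 from
      ⟨fun h => h.ne_one hl, h7 l k hl⟩) rfl rfl, Finset.sum_boole, Finset.filter_ne',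
      Finset.card_erase_of_mem (Finset.mem_univ _), Finset.sum_const, Finset.card_univ,
      Finset.card_univ, ← Nat.card_eq_fintype_card, ← Nat.card_eq_fintype_card, card_lin hc,
      nsmul_one, Nat.cast_inj] at h8
    omega
  let s : Setoid {l : P →* ℂˣ // l ≠ 1} := ⟨_, orb_equiv (e := e).comap Subtype.val⟩
  have h7 : ∀ i j : Quotient s, Orb e i.out.1 j.out.1 ↔ i = j := fun i j =>
    Quotient.out_equiv_out (x := i) (y := j)
  have h9 : ∀ i j : Quotient s, classInner (J i.out.1) (J j.out.1) =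
      Nat.card (autE P e) + if i = j then 1 else 0 := fun i j => by
    rw [h5 _ _ i.out.2 j.out.2, if_congr (h7 i j) rfl rfl]
  have h8 : ∀ l l', l ≠ 1 → Orb e l l' → J l = J l' := fun l l' hl ⟨σ, a1, a2⟩ => by
    rw [hJ, hJ]
    congr 2
    ext v
    simp only [orbS, ← a2]
    exact congrArg (· - _) (Equiv.sum_comp (Equiv.mulLeft (⟨σ, a1⟩ : autE P e))
      fun τ : autE P e => (l (τ.1 v) : ℂ)).symm
  obtain ⟨ε, c1, ν, c2, c3, c4⟩ := exists_signed_family (⟦⟨l₀, b1⟩⟧ : Quotient s)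
    (fun i => J i.out.1 - J (⟦⟨l₀, b1⟩⟧ : Quotient s).out.1) (sub_self _)
    (fun _ => (hJ1 _).sub (hJ1 _)) (fun _ => by simp [hJ2, hp.out.ne_one])
    (fun i hi => by
      simp only [classInner_sub_left, classInner_sub_right, h9]
      simp [hi, hi.symm]; ring)
    (fun i j hi hj hij => by
      simp only [classInner_sub_left, classInner_sub_right, h9]
      simp [hi, hj.symm, hij])
  obtain ⟨δ, rfl, c5⟩ : ∃ δ : ℤ, δ = ε ∧ (δ = 1 ∨ δ = -1) := by
    rcases c1 with rfl | rfl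
    exacts [⟨1, by simp⟩, ⟨-1, by simp⟩]
  obtain ⟨y, hy⟩ : ∃ y : (P →* ℂˣ) → IrrCharacter G, ∀ l (hl : l ≠ 1), (y l).1 = ν ⟦⟨l, hl⟩⟧ :=
    ⟨fun l => if hl : l = 1 then irrOne G else ⟨_, c2 ⟦⟨l, hl⟩⟧⟩, fun l hl => by simp only [dif_neg hl]⟩
  have d1 : ∀ l l', l ≠ 1 → l' ≠ 1 → (y l = y l' ↔ Orb e l l') := fun l l' hl hl' => by
    rw [Subtype.ext_iff, hy l hl, hy l' hl', c3.eq_iff, Quotient.eq]; rfl
  have d2 : ∀ l l', l ≠ 1 → l' ≠ 1 → ∀ χ, μ l χ - μ l' χ =
      δ * ((if y l = χ then 1 else 0) - if y l' = χ then 1 else 0) := fun l l' hl hl' χ => by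
    have a1 := congrArg₂ (· - ·) (c4 ⟦⟨l, hl⟩⟧) (c4 ⟦⟨l', hl'⟩⟧)
    simp only [sub_sub_sub_cancel_right, ← smul_sub, ← hy] at a1
    rw [h8 _ l (⟦⟨l, hl⟩⟧ : Quotient s).out.2 (Quotient.mk_out (s := s) _),
      h8 _ l' (⟦⟨l', hl'⟩⟧ : Quotient s).out.2 (Quotient.mk_out (s := s) _)] at a1
    have a2 := congrArg (classInner · χ.1) a1
    simp only [classInner_sub_left, classInner_smul_left, hμ, (y _).2.classInner_eq_ite χ.2,
      ← Subtype.ext_iff] at a2
    exact_mod_cast a2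
  have d3 : δ * δ = 1 := by rcases c5 with h | h <;> simp [h]
  have d4 : ∀ l l', l ≠ 1 → l' ≠ 1 → μ l (y l) = μ l' (y l') := fun l l' hl hl' => by
    have a1 := congrArg₂ (· - ·) (h5 l l hl hl) (h5 l' l' hl' hl')
    simp only [h10, orb_equiv.refl, if_true, sub_self, ← Finset.sum_sub_distrib] at a1
    have a2 : ∑ χ, (μ l χ + μ l' χ) * (μ l χ - μ l' χ) = 0 := by
      simp only [← mul_self_sub_mul_self]; exact_mod_cast a1
    simp only [d2 l l' hl hl', mul_sub, mul_ite, mul_one, mul_zero, Finset.sum_sub_distrib,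
      Finset.sum_ite_eq, Finset.mem_univ, if_true] at a2
    have a3 := d2 l l' hl hl' (y l)
    have a4 := d2 l l' hl hl' (y l')
    by_cases h : y l = y l'
    · simpa [h, sub_eq_zero] using a4
    · simp only [h, Ne.symm h, if_true, if_false] at a3 a4
      have : 2 * (μ l (y l) - μ l' (y l')) = 0 := by
        linear_combination δ * a2 + a3 + a4 - (μ l (y l) + μ l' (y l) - μ l (y l') - μ l' (y l')) * d3
      omega
  obtain ⟨c, d5⟩ : ∃ c, ∀ l k, l ≠ 1 → k ≠ 1 → μ l (y k) = (if Orb e k l then δ else 0) - c :=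
    ⟨δ - μ l₀ (y l₀), fun l k hl hk => by
      have := d2 l k hl hk (y k)
      rw [d4 k l₀ hk b1, if_pos rfl, if_congr ((d1 l k hl hk).trans
        ⟨orb_equiv.symm, orb_equiv.symm⟩) rfl rfl] at this
      split_ifs at this ⊢ <;> linarith⟩
  have d6 : ∀ l, l ≠ 1 → ∀ χ ∉ exc y, μ l χ = μ l₀ χ := fun l hl χ hχ => by
    have := d2 l l₀ hl b1 χ
    rwa [if_neg fun h => hχ (mem_exc.2 ⟨l, hl, h⟩), if_neg fun h => hχ (mem_exc.2 ⟨l₀, b1, h⟩),
      sub_self, mul_zero, sub_eq_zero] at this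
  have d7 : ∀ χ ∉ exc y, ∀ v, v ≠ 1 → d χ.1 v = (-μ l₀ χ : ℤ) := fun χ hχ v hv => by
    rw [h6 χ v hv, Finset.sum_congr rfl fun l hl => by rw [d6 l (Finset.mem_filter.1 hl).2 χ hχ],
      ← Finset.mul_sum, hsl v hv]
    simp
  have d8 : ∀ l χ, χ ∉ B → μ l χ = 0 := fun l χ hχ => by
    have := hμ l χ
    rw [hJ4 _ _ χ.2.isClassFunction, Finset.sum_eq_zero fun v _ => by
      by_cases hv : v = 1 <;> simp [hv, h.of_notMem hχ]] at this
    exact_mod_cast (mul_zero _).symm.trans this |>.symm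
  have d9 : ∀ χ ∈ exc y, χ ∈ B := fun χ hχ => by_contra fun h' => by
    obtain ⟨l, hl, rfl⟩ := mem_exc.1 hχ
    have a1 := d5 l₀ l b1 hl
    have a2 := d5 l₁ l b2 hl
    have a3 := d5 l l hl hl
    rw [d8 _ _ h'] at a1 a2 a3
    rw [if_pos (orb_equiv.refl _)] at a3
    split_ifs at a1 a2 with a4 a5 a5
    · exact b3 (orb_equiv.trans (orb_equiv.symm a4) a5)
    all_goals omega
  have : Nontrivial P := Finite.one_lt_card_iff_nontrivial.1 (by omega)
  obtain ⟨v₀, hv₀⟩ := exists_ne (1 : P)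
  have e1 : ∀ (l : P →* ℂˣ) {V : Type} [AddCommMonoid V] (f : IrrCharacter G → V),
      (∀ χ, μ l χ = 0 → f χ = 0) →
      ∑ χ, f χ = ∑ χ ∈ exc y, f χ + ∑ χ with χ ∈ B ∧ χ ∉ exc y, f χ := fun l V _ f h0 => by
    rw [← Finset.sum_union (Finset.disjoint_left.2 fun χ h1 h2 => (Finset.mem_filter.1 h2).2.2 h1)]
    refine (Finset.sum_subset (Finset.subset_univ _) fun χ _ hχ => h0 χ (d8 l χ fun h => hχ ?_)).symm
    by_cases h' : χ ∈ exc y <;> simp [h, h']
  have e2 : ∀ l, l ≠ 1 → ∀ χ ∈ exc y, μ l χ = (if χ = y l then δ else 0) - c := fun l hl χ hχ => by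
    obtain ⟨k, hk, rfl⟩ := mem_exc.1 hχ
    rw [d5 l k hl hk, if_congr (d1 k l hk hl) rfl rfl]
  refine ⟨Finset.univ.filter fun χ => χ ∈ B ∧ χ ∉ exc y, y, fun χ => -μ l₀ χ, c, δ, c5,
    fun χ => ⟨fun h => by simpa [h] using (em _).symm, fun h => h.elim
      (fun h => (Finset.mem_filter.1 h).2.1) (d9 χ)⟩, fun l hl h => (Finset.mem_filter.1 h).2.2
      (mem_exc.2 ⟨l, hl, rfl⟩), d1, fun χ hχ h0 => h.ne_zero (Finset.mem_filter.1 hχ).2.1 hv₀ (by
        rw [d7 χ (Finset.mem_filter.1 hχ).2.2 v₀ hv₀, h0, Int.cast_zero]),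
    fun χ hχ => d7 χ (Finset.mem_filter.1 hχ).2.2, fun l hl v hv => ?_, ?_,
    Finset.one_lt_card.2 ⟨_, mem_exc.2 ⟨l₀, b1, rfl⟩, _, mem_exc.2 ⟨l₁, b2, rfl⟩,
      mt (d1 _ _ b1 b2).1 b3⟩, ?_, fun l hl g hg => ?_⟩
  · rw [h6 _ v hv, Finset.sum_congr rfl fun k hk => by rw [d5 k l (Finset.mem_filter.1 hk).2 hl],
      hf.orbS_eq hl, Finset.mul_sum]
    simp only [Int.cast_sub, sub_mul, Finset.sum_sub_distrib, ← Finset.mul_sum _ _ (c : ℂ),
      hsl v hv]
    rw [Finset.sum_filter_of_ne fun k _ h => Orb.ne_one (e := e) (by_contra fun h' => h (by simp [h'])) hl]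
    simp [add_comm]
  · rw [← card_lin hc, Nat.card_eq_fintype_card (α := P →* ℂˣ), ← Finset.card_univ,
      ← Finset.card_erase_add_one (Finset.mem_univ 1), ← Finset.filter_ne',
      Finset.card_eq_sum_card_image y, mul_comm, ← smul_eq_mul, ← Finset.sum_const]
    refine congrArg (· + 1) (Finset.sum_congr (by ext; simp [mem_exc]) fun ψ hψ => ?_)
    obtain ⟨l, hl, rfl⟩ : ∃ l, l ≠ 1 ∧ y l = ψ := by simpa using hψ
    have := hf.sum_ite hl fun _ => 1
    rw [Finset.sum_const, Finset.card_univ, ← Nat.card_eq_fintype_card, Finset.sum_boole,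
      nsmul_one, Nat.cast_inj] at this
    rw [this]
    congr 1
    ext l'
    simp only [Finset.mem_filter, Finset.mem_univ, true_and]
    exact ⟨fun h => ⟨h.ne_one hl, ((d1 _ _ hl (h.ne_one hl)).2 h).symm⟩,
      fun h => (d1 _ _ hl h.1).1 h.2.symm⟩
  · have a1 := h5 l₀ l₀ b1 b1
    simp only [h10, orb_equiv.refl, if_true] at a1
    have a2 : ∑ χ, μ l₀ χ * μ l₀ χ = Nat.card (autE P e) + 1 := by exact_mod_cast a1
    have a3 : y l₀ ∈ exc y := mem_exc.2 ⟨l₀, b1, rfl⟩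
    rw [e1 l₀ _ fun χ h => by simp [h], ← Finset.add_sum_erase _ _ a3, Finset.sum_congr rfl
      fun χ hχ => by rw [e2 l₀ b1 χ (Finset.mem_of_mem_erase hχ), if_neg (Finset.ne_of_mem_erase hχ)],
      e2 l₀ b1 _ a3, if_pos rfl, Finset.sum_const, Finset.card_erase_of_mem a3, nsmul_eq_mul,
      Nat.cast_pred (Finset.card_pos.2 ⟨_, a3⟩)] at a2
    rw [← a2]
    simp only [pow_two, neg_mul_neg]
    ring
  · have a1 := (hJ1 l).isClassFunction.apply_eq_sum_irr g
    simp only [hJ2 l g hg, hμ] at a1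
    rw [e1 l _ fun χ h => by simp [h], Finset.sum_congr rfl fun χ hχ => by rw [e2 l hl χ hχ],
      Finset.sum_congr (s₁ := Finset.univ.filter _) rfl fun χ hχ => by
        rw [d6 l hl χ (Finset.mem_filter.1 hχ).2.2]] at a1
    simp only [Int.cast_sub, sub_mul, Finset.sum_sub_distrib, Int.cast_ite, ite_mul, Int.cast_zero,
      zero_mul, Finset.sum_ite_eq', show y l ∈ exc y from mem_exc.2 ⟨l, hl, rfl⟩, if_true, ← Finset.mul_sum] at a1
    simp only [Int.cast_neg, neg_mul, Finset.sum_neg_distrib]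
    linear_combination -a1

end CfsgH4
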