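import Cfsg.Agent.H4.Fr2
import Cfsg.Agent.H3.CTI

/-! The principal block for an abelian Sylow subgroup with free automizer. -/

set_option autoImplicit false
open Cfsg MonoidAlgebra CfsgL0 CfsgH1 CfsgH4
open CfsgH3 hiding cj cj_cj
open scoped ComplexConjugate Pointwise

namespace CfsgH4

local notation "C[" Q "]" => Subgroup.centralizer (SetLike.coe (Q : Subgroup _))
local notation "N[" Q "]" => Subgroup.normalizer (SetLike.coe (Q : Subgroup _))
local notation "Z[" u "]" => Subgroup.zpowers u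

variable {G : Type*} [Group G] [Fintype G] {M : Ideal AlgInt} {p : ℕ} [hM : PMod p M]
  [hp : Fact p.Prime] {P : Subgroup G} {e : (Res M)[G]} {B : Set (IrrCharacter G)}
  {d : (G → ℂ) →ₗ[ℂ] P → ℂ} {X : Finset (IrrCharacter G)} {y : (P →* ℂˣ) → IrrCharacter G}
  {a : IrrCharacter G → ℤ} {c δ : ℤ}

namespace FrS
variable (h : FrS p e B d X y a c δ)
include h
omit hp

theorem sq : δ * δ = 1 := by rcases h.sgn with h | h <;> simp [h]

theorem y_mem {l : P →* ℂˣ} (hl : l ≠ 1) : y l ∈ B := (h.mem _).2 (.inr (mem_exc.2 ⟨l, hl, rfl⟩))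

theorem mem_of_const (hf : Free P e) {χ : IrrCharacter G} (hχ : χ ∈ B) {k : ℂ}
    (hk : ∀ v, v ≠ 1 → d χ.1 v = k) : χ ∈ X := by
  classical
  have := Fintype.ofFinite P
  refine ((h.mem χ).1 hχ).resolve_right fun h1 => ?_
  obtain ⟨ψ, h2, h3⟩ := Finset.exists_mem_ne h.two_le χ
  obtain ⟨l, hl, rfl⟩ := mem_exc.1 h1
  obtain ⟨l', hl', rfl⟩ := mem_exc.1 h2
  have a1 := hf.sum_orbS_mul hl l'
  have a2 := hf.sum_orbS_mul hl 1
  have a3 := sum_lin_mul_conj 1 l'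
  rw [if_neg fun h4 => h3 ((h.eq_iff _ _ hl hl').2 h4).symm] at a1
  rw [if_neg fun h4 => h4.ne_one hl rfl] at a2
  rw [if_neg hl'.symm] at a3
  have a4 : ∀ v, v ≠ 1 → orbS e l v = δ * (k - c) := fun v hv => by
    have : (δ : ℂ) * δ = 1 := by exact_mod_cast h.sq
    linear_combination δ * hk v hv - δ * h.dY l hl v hv - orbS e l v * this
  have a5 : ∑ v, (orbS e l v - δ * (k - c)) * (conj (l' v : ℂ) - 1) = 0 :=
    Finset.sum_eq_zero fun v _ => by by_cases hv : v = 1 <;> simp [hv, a4]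
  simp only [MonoidHom.one_apply, Units.val_one, map_one, mul_one, one_mul] at a2 a3
  simp only [sub_mul, mul_sub, Finset.sum_sub_distrib, mul_one, ← Finset.mul_sum, a1, a2, a3] at a5
  rw [Finset.sum_eq_single 1 (fun v _ hv => ?_) (by simp), orbS_one] at a2
  · exact Nat.card_pos.ne' (Nat.cast_eq_zero.1 a2)
  · rw [a4 v hv]
    simpa [mul_sub, ← mul_sub_one, sub_eq_zero] using a5

theorem reg_eq {ψ η : IrrCharacter G} (hψ : ψ ∈ exc y) (hη : η ∈ exc y) {g : G}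
    (hg : ¬ p ∣ orderOf g) : ψ.1 g = η.1 g := by
  obtain ⟨l, hl, rfl⟩ := mem_exc.1 hψ
  obtain ⟨k, hk, rfl⟩ := mem_exc.1 hη
  exact mul_left_cancel₀ (Int.cast_ne_zero.2 (left_ne_zero_of_mul_eq_one h.sq))
    ((h.reg l hl g hg).trans (h.reg k hk g hg).symm)

theorem reg' {ψ : IrrCharacter G} (hψ : ψ ∈ exc y) {g : G} (hg : ¬ p ∣ orderOf g) :
    ((exc y).card * c - δ) * ψ.1 g + ∑ χ ∈ X, a χ * χ.1 g = 0 := by
  obtain ⟨l, hl, rfl⟩ := mem_exc.1 hψ
  have := h.reg l hl g hg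
  rw [Finset.sum_congr rfl fun η hη => h.reg_eq hη hψ hg, Finset.sum_const, nsmul_eq_mul] at this
  linear_combination -this

theorem card_le_sum : (X.card : ℤ) ≤ ∑ χ ∈ X, a χ ^ 2 := by
  simpa using Finset.card_nsmul_le_sum X _ 1 fun χ hχ => (one_le_sq_iff_one_le_abs _).2
    (Int.one_le_abs (h.ne χ hχ))

theorem card_le : X.card ≤ Nat.card (autE P e) := by
  have h1 := h.norm
  have h2 := h.card_le_sum
  have h3 : (2 : ℤ) ≤ (exc y).card := by exact_mod_cast h.two_le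
  have h4 : 1 ≤ (c - δ) ^ 2 + c ^ 2 := by
    rcases h.sgn with rfl | rfl <;> rcases le_or_gt c 0 with h | h <;> nlinarith
  nlinarith [sq_nonneg c]

theorem swap (hf : Free P e) (hc : P ≤ C[P]) (h1 : c = δ) (h2 : (exc y).card = 2) :
    ∃ y', FrS p e B d X y' a 0 (-δ) := by
  classical
  obtain ⟨α, β, h3, h4⟩ := Finset.card_eq_two.1 h2
  have h5 : ∀ l, l ≠ 1 → y l = α ∨ y l = β := fun l hl => by
    simpa [h4] using show y l ∈ exc y from mem_exc.2 ⟨l, hl, rfl⟩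
  have h6 : exc (Equiv.swap α β ∘ y) = exc y := by
    have : exc (Equiv.swap α β ∘ y) = (exc y).image (Equiv.swap α β) := by
      ext; simp [mem_exc]
    rw [this, h4]
    simp [Finset.pair_comm]
  have h7 : ∀ l, l ≠ 1 → ∃ k, k ≠ 1 ∧ y k = Equiv.swap α β (y l) := fun l hl =>
    mem_exc.1 (h6 ▸ mem_exc.2 ⟨l, hl, rfl⟩)
  refine ⟨Equiv.swap α β ∘ y, h.sgn.symm.imp (by simp +contextual) (by simp +contextual),
    h6 ▸ h.mem, fun l hl => ?_, fun l k hl hk => (Equiv.apply_eq_iff_eq _).trans (h.eq_iff l k hl hk),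
    h.ne, h.dX, fun l hl v hv => ?_, h6 ▸ h.card, h6 ▸ h.two_le, ?_, fun l hl g hg => ?_⟩
  · obtain ⟨k, hk, h8⟩ := h7 l hl
    exact fun h9 => h.notMem k hk (h8 ▸ h9)
  · obtain ⟨k, hk, h8⟩ := h7 l hl
    have h9 : orbS e k v + orbS e l v = -1 := by
      rw [hf.orbS_eq hl, hf.orbS_eq hk, ← Finset.sum_add_distrib,
        ← sum_lin_ne (comm_of_le_cent hc) hv, Finset.sum_filter]
      refine Finset.sum_congr rfl fun j _ => ?_
      by_cases hj : j = 1
      · rw [if_neg fun h => h.ne_one hk hj, if_neg fun h => h.ne_one hl hj, if_neg (not_not.2 hj),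
          add_zero]
      · rw [if_congr (h.eq_iff _ _ hk hj).symm rfl rfl, if_congr (h.eq_iff _ _ hl hj).symm rfl rfl, h8]
        rcases h5 l hl with a1 | a1 <;> rcases h5 j hj with a2 | a2 <;> simp [a1, a2, hj, h3, h3.symm]
    rw [Function.comp_apply, ← h8, h.dY k hk v hv, h1]
    push_cast
    linear_combination δ * h9
  · have := h.norm
    rw [h2, h1] at this
    rw [← this]
    push_cast
    ring
  · have := h.reg' (h6 ▸ mem_exc.2 ⟨l, hl, rfl⟩) hg
    rw [h2, h1] at this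
    push_cast at this ⊢
    linear_combination -this

end FrS

variable (B P) in
/-- The values of the `B`-part on `P`. -/
noncomputable def dB : (G → ℂ) →ₗ[ℂ] P → ℂ where
  toFun a v := blockPart B a v
  map_add' a c := funext fun v => by simp [blockPart_add]
  map_smul' z a := funext fun v => by simp [blockPart_smul]

omit hM hp in
theorem dB_irr {χ : IrrCharacter G} (hχ : χ ∈ B) (v : P) : dB P B χ.1 v = χ.1 v :=
  congrFun (blockPart_irr_of_mem hχ) v

local notation "B₀" => principalBlock M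

variable (M p P) in
/-- The situation of an abelian Sylow subgroup with free automizer. -/
structure FP : Prop where
  syl : IsSylowIn p P ⊤
  comm : P ≤ C[P]
  free : ∀ u ∈ P, u ≠ 1 → Subgroup.centralizer ({u} : Set G) ⊓ N[P] ≤ C[P]

namespace FP
variable (h : FP p P)
include h

variable (M) in
theorem free' : Free P (ie M C[P] (B₀ _)) := fun u hu h1 => by
  rw [stab_principal h.syl.isPGroup, centralizer_zpowers]; exact h.free u hu h1

variable (M) in
theorem card : Nat.card (autE P (ie M C[P] (B₀ _))) = C[P].relIndex N[P] := by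
  rw [card_autE, stab_principal h.syl.isPGroup]

theorem orb_iff {l k : P →* ℂˣ} : Orb (ie M C[P] (B₀ _)) l k ↔
    ∃ n ∈ N[P], ∀ w w' : P, (w' : G) = n * w * n⁻¹ → k w' = l w := by
  rw [show Orb _ l k ↔ Orb _ k l from ⟨orb_equiv.symm, orb_equiv.symm⟩]
  constructor
  · rintro ⟨σ, h1, h2⟩
    obtain ⟨t, ht, h3⟩ := mem_autE.1 h1
    exact ⟨t, ht.1, fun w w' hw => by rw [← h2, Subtype.ext (hw.trans (h3 w).symm)]⟩
  · rintro ⟨n, hn, h1⟩
    exact ⟨_, ⟨⟨n, (stab_principal h.syl.isPGroup).ge hn⟩, rfl⟩, fun v => h1 _ _ rfl⟩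

variable (M) in
theorem finsum_eq {l : P →* ℂˣ} (hl : l ≠ 1) (v : P) : ∑ᶠ k ∈ {k : P →* ℂˣ | ∃ n : G, n ∈ N[P] ∧
    ∀ w w' : P, (w' : G) = n * w * n⁻¹ → k w' = l w}, (k v : ℂ) = orbS (ie M C[P] (B₀ _)) l v := by
  classical
  rw [(h.free' M).orbS_eq hl, finsum_eq_sum_of_fintype]
  simp only [finsum_eq_if, h.orb_iff, Set.mem_setOf_eq]

theorem dY (hF : FrS p (ie M C[P] (B₀ _)) (B₀ G) (dB P (B₀ G)) X y a c δ) {l : P →* ℂˣ}
    (hl : l ≠ 1) (v : P) (hv : (v : G) ≠ 1) : (y l).1 v = c + δ * orbS (ie M C[P] (B₀ _)) l v :=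
  (dB_irr (hF.y_mem hl) v).symm.trans (hF.dY l hl v (by simpa using hv))

theorem dX (hF : FrS p e (B₀ G) (dB P (B₀ G)) X y a c δ) {χ : IrrCharacter G} (hχ : χ ∈ X) {v : G}
    (h1 : v ∈ P) (hv : v ≠ 1) : χ.1 v = a χ :=
  (dB_irr ((hF.mem χ).2 (.inl hχ)) ⟨v, h1⟩).symm.trans (hF.dX χ hχ _ (by simpa using hv))

variable (M) in
theorem unif {u : G} (hu : u ∈ P) (h1 : u ≠ 1) : Unif p (B₀ C[Z[u]]) (Nat.card P) :=
  (maxPr_principal h.syl).unif_dn h.comm (Subgroup.zpowers_le.2 hu) (h.free' M u hu h1)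
    isPBlock_principal ((ple_principal h.syl.isPGroup (Subgroup.zpowers_le.2 hu)).eq_dn
      (pr_principal h.syl.isPGroup)).symm

variable (M) in
theorem gd : GD p (ie M C[P] (B₀ _)) (B₀ G) (dB P (B₀ G)) := by
  refine ⟨maxPr_principal h.syl, isPBlock_principal, h.comm, fun a c ha hc v hv => ?_⟩
  have := Fintype.ofFinite C[Z[(v : G)]]
  have hv' : (v : G) ≠ 1 := by simpa using hv
  obtain ⟨β, a1, a2, a3, a4, -⟩ := (maxPr_principal (M := M) h.syl).exists_gd isPBlock_principal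
    h.comm v.2 (h.free' M v v.2 hv')
  obtain rfl := a1.1.ie_inj isPBlock_principal (a2.symm.trans ((ple_principal h.syl.isPGroup
    (Subgroup.zpowers_le.2 v.2)).eq_dn (pr_principal h.syl.isPGroup)).symm)
  have a5 : ∀ a, IsClassFunction G a → gsum (B₀ _) (tr C[Z[(v : G)]] v a) = dB P (B₀ G) a v :=
    fun a ha => by
      have h1 : ¬ p ∣ orderOf (1 : C[Z[(v : G)]]) := by simp [hp.out.ne_one]
      have hu := pelt_of_mem h.syl.isPGroup v.2
      have h2 := blockPart_tr_brSet (centralizer_zpowers _) hu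
        (isPBlock_principal (M := M) (G := G)).fB_mem ha h1
      rw [brSet_principal (centralizer_zpowers _) hu, a3.blockPart_apply irrOne_mem_principal _ h1] at h2
      simpa [irrOne, dB] using h2
  rw [a4 a c ha hc, a5 a ha, a5 c hc]

theorem val {χ : IrrCharacter G} (hχ : χ ∈ B₀ G) {z u : G} (hz : IsPPart p z u) (hu : u ∈ P)
    (h1 : u ≠ 1) : χ.1 z = χ.1 u := by
  have := (npc_iff_rank (M := M)).2 (h.unif M hu h1).rank
  rw [centralizer_zpowers] at this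
  rw [Cfsg.IsPPart.eq_ppart hz] at this ⊢
  exact principal_apply_ppart this hχ

variable (M) in
theorem exists_frS (h2 : C[P].relIndex N[P] + 1 < Nat.card P) : ∃ X y a c δ,
    FrS p (ie M C[P] (B₀ _)) (B₀ G) (dB P (B₀ G)) X y a c δ ∧ irrOne G ∈ X ∧ a (irrOne G) = 1 := by
  have h1 : ∀ v : P, v ≠ 1 → dB P (B₀ G) (irrOne G).1 v = 1 := fun v _ => dB_irr irrOne_mem_principal v
  obtain ⟨X, y, a, c, δ, h3⟩ := (h.gd M).exists_frS (h.free' M) (irrOne G).2.isGen h1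
    (by rwa [h.card M])
  have h4 := h3.mem_of_const (h.free' M) irrOne_mem_principal h1
  have : Nontrivial P := Finite.one_lt_card_iff_nontrivial.1 (by omega)
  obtain ⟨v, hv⟩ := exists_ne (1 : P)
  exact ⟨X, y, a, c, δ, h3, h4, by exact_mod_cast (h3.dX _ h4 v hv).symm.trans (h1 v hv)⟩

variable (M) in
theorem exists_three (h3 : C[P].relIndex N[P] = 3) (h4 : 4 < Nat.card P) : ∃ χ ψ y a δ,
    FrS p (ie M C[P] (B₀ _)) (B₀ G) (dB P (B₀ G)) {irrOne G, χ, ψ} y a 0 δ ∧ irrOne G ≠ χ ∧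
      irrOne G ≠ ψ ∧ χ ≠ ψ ∧ a (irrOne G) = 1 ∧ (a χ = 1 ∨ a χ = -1) ∧ (a ψ = 1 ∨ a ψ = -1) := by
  obtain ⟨X, y, a, c, δ, a1, a2, a3⟩ := h.exists_frS M (by omega)
  have b1 : ∀ χ ∈ X, a χ ^ 2 ≤ ∑ χ ∈ X, a χ ^ 2 := fun χ hχ =>
    Finset.single_le_sum (f := fun χ => a χ ^ 2) (fun _ _ => sq_nonneg _) hχ
  obtain ⟨y, δ, a1⟩ : ∃ y δ, FrS p (ie M C[P] (B₀ _)) (B₀ G) (dB P (B₀ G)) X y a 0 δ := by
    by_cases hc : c = 0
    · exact ⟨y, δ, hc ▸ a1⟩
    have b2 := a1.norm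
    have b3 := a1.card
    have b4 := b1 _ a2
    have b5 : (2 : ℤ) ≤ (exc y).card := by exact_mod_cast a1.two_le
    rw [h.card M, h3] at b2 b3
    rw [a3] at b4
    push_cast at b2
    have b6 : c ^ 2 ≤ 3 := by nlinarith [sq_nonneg c, sq_nonneg (c - δ)]
    have b7 : -2 < c ∧ c < 2 := ⟨by nlinarith, by nlinarith⟩
    have b8 : c = δ := by
      obtain rfl | rfl : c = 1 ∨ c = -1 := by omega
      all_goals rcases a1.sgn with rfl | rfl <;> omega
    rw [b8, sub_self, pow_two δ, a1.sq] at b2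
    have b9 : (exc y).card ≠ 3 := fun b9 => by
      obtain ⟨k, hk⟩ := IsPGroup.iff_card.1 h.syl.isPGroup
      rw [b9, hk] at b3
      have c1 := (Nat.prime_dvd_prime_iff_eq Nat.prime_two hp.out).1
        (Nat.prime_two.dvd_of_dvd_pow (n := k) (by omega))
      have c2 := (Nat.prime_dvd_prime_iff_eq Nat.prime_five hp.out).1
        (Nat.prime_five.dvd_of_dvd_pow (n := k) (by omega))
      omega
    have b10 : (exc y).card ≠ 4 := fun b10 => by
      obtain ⟨η, hη⟩ := Finset.card_pos.1 (zero_lt_two.trans_le a1.two_le)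
      have c1 := a1.card_le_sum
      have c2 := a1.reg' hη (g := 1) (by simp [hp.out.ne_one])
      obtain rfl : X = {irrOne G} := Finset.eq_singleton_iff_unique_mem.2 ⟨a2, fun χ hχ =>
        Finset.card_le_one.1 (by omega) _ hχ _ a2⟩
      rw [b10, b8, irr_one_eq, Finset.sum_singleton, a3] at c2
      have c3 : (4 * δ - δ) * (charDegree η.1 : ℤ) + 1 = 0 := by
        simp only [irrOne] at c2; exact_mod_cast c2
      rcases a1.sgn with rfl | rfl <;> omega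
    obtain ⟨y', c1⟩ := a1.swap (h.free' M) h.comm b8 (by omega)
    exact ⟨_, _, c1⟩
  have b2 := a1.norm
  rw [h.card M, h3, zero_sub, neg_sq, pow_two δ, a1.sq, Nat.cast_ofNat] at b2
  have b3 : ∀ χ ∈ X, a χ = 1 ∨ a χ = -1 := fun χ hχ => by
    have := b1 χ hχ
    have := a1.ne χ hχ
    have : -2 < a χ ∧ a χ < 2 := ⟨by nlinarith, by nlinarith⟩
    omega
  rw [Finset.sum_congr rfl (g := fun _ => 1) fun χ hχ => by
    rcases b3 χ hχ with h | h <;> simp [h], Finset.sum_const, ← Finset.card_erase_add_one a2] at b2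
  obtain ⟨χ, ψ, c1, c2⟩ := Finset.card_eq_two.1 (show (X.erase (irrOne G)).card = 2 by
    simp only [nsmul_eq_mul] at b2; omega)
  have c3 : χ ∈ X.erase (irrOne G) := by simp [c2]
  have c4 : ψ ∈ X.erase (irrOne G) := by simp [c2]
  refine ⟨χ, ψ, y, a, δ, ?_, (Finset.ne_of_mem_erase c3).symm, (Finset.ne_of_mem_erase c4).symm, c1,
    a3, b3 _ (Finset.mem_of_mem_erase c3), b3 _ (Finset.mem_of_mem_erase c4)⟩
  rwa [← c2, Finset.insert_erase a2]

theorem aut_of_isConj {u v : P} (hc : IsConj (u : G) v) :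
    ∃ σ ∈ autE P (ie M C[P] (B₀ _)), σ u = v := by
  obtain ⟨S, rfl⟩ := h.syl.exists_sylow_top
  have := Subgroup.le_centralizer_iff_isMulCommutative.1 h.comm
  obtain ⟨g, hg⟩ := isConj_iff.1 hc
  obtain ⟨n, hn, h1⟩ := S.conj_eq_normalizer_conj_of_mem u g⁻¹ u.2 (by rw [inv_inv, hg]; exact v.2)
  refine ⟨_, ⟨⟨n⁻¹, (stab_principal h.syl.isPGroup).ge (inv_mem hn)⟩, rfl⟩, Subtype.ext ?_⟩
  rw [inv_inv, hg] at h1
  exact (congrArg (n⁻¹ * u * ·) (inv_inv n)).trans h1.symm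

omit [Fintype G] in
theorem exists_conj_mem [Finite G] {C : Subgroup G} (hC : P ≤ C) {w : G} (h1 : w ∈ C)
    (hw : ∃ k, orderOf w = p ^ k) : ∃ g ∈ C, g * w * g⁻¹ ∈ P := by
  obtain ⟨g, hg, h2⟩ := (h.syl.mono hC le_top).exists_conj_le (isPGroup_zpowers_of_pelt hw)
    (Subgroup.zpowers_le.2 h1)
  exact ⟨g, hg, h2 (Subgroup.smul_mem_pointwise_smul _ _ _ (Subgroup.mem_zpowers w))⟩

include hM in
variable (M) in
theorem sq_of_real (h3 : Odd (C[P].relIndex N[P])) {v : P} (hc : IsConj (v : G) v⁻¹) : v * v = 1 := by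
  by_cases hv : v = 1
  · simp [hv]
  obtain ⟨σ, h1, h2⟩ := h.aut_of_isConj (M := M) (v := v⁻¹) hc
  have h4 : (⟨σ, h1⟩ : autE P _) ^ 2 = 1 :=
    Subtype.ext ((h.free' M).aut (pow_mem h1 2) hv (by simp [pow_two, h2]))
  rw [← h.card M] at h3
  have h5 := Subtype.ext_iff.1 (orderOf_eq_one_iff.1 (Nat.eq_one_of_dvd_coprimes
    (Nat.coprime_two_left.2 h3) (orderOf_dvd_of_pow_eq_one h4) (orderOf_dvd_natCard _)))
  rw [show σ = 1 from h5] at h2
  exact mul_eq_one_iff_eq_inv.2 h2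

variable (M) in
theorem exists_lin (h3 : C[P].relIndex N[P] = 3) (h4 : 4 < Nat.card P)
    (h5 : Nat.card P % 3 = 1) {t : G} (ht : t * t = 1) : ∃ l : P →* ℂˣ, l ≠ 1 ∧
      ∀ u : P, IsConj t u → ∀ σ ∈ autE P (ie M C[P] (B₀ _)), l (σ u) = 1 := by
  classical
  have hc := card_lin (comm_of_le_cent h.comm)
  have : Nontrivial (P →* ℂˣ) := Finite.one_lt_card_iff_nontrivial.1 (by omega)
  obtain ⟨l, hl⟩ := exists_ne (1 : P →* ℂˣ)
  by_cases h6 : ∀ u : P, IsConj t u → u = 1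
  · exact ⟨l, hl, fun u hu σ _ => by simp [h6 u hu]⟩
  push Not at h6
  obtain ⟨u, a1, a2⟩ := h6
  have a3 : u * u = 1 := by
    obtain ⟨g, hg⟩ := isConj_iff.1 a1
    exact Subtype.ext (by simp [← hg, ht])
  obtain ⟨k, hk⟩ := IsPGroup.iff_card.1 h.syl.isPGroup
  have a4 := orderOf_dvd_natCard u
  rw [orderOf_eq_prime ((sq u).trans a3) a2] at a4
  obtain rfl := (Nat.prime_dvd_prime_iff_eq Nat.prime_two hp.out).1
    (Nat.prime_two.dvd_of_dvd_pow (hk ▸ a4))
  have := Fintype.ofFinite (P →* ℂˣ)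
  obtain ⟨l, l', b1, b2⟩ := Fintype.exists_ne_map_eq_of_card_lt
    (fun (l : P →* ℂˣ) (σ : autE P (ie M C[P] (B₀ _))) => l (σ.1 u) = 1) (by
      rw [Fintype.card_fun, ← Nat.card_eq_fintype_card (α := autE _ _), h.card M, h3,
        ← Nat.card_eq_fintype_card (α := _ →* _), hc, Fintype.card_prop]
      omega)
  refine ⟨l / l', div_ne_one.2 b1, fun w hw σ hσ => ?_⟩
  obtain ⟨τ, hτ, rfl⟩ := h.aut_of_isConj (M := M) (a1.symm.trans hw)
  have b3 : ∀ l : P →* ℂˣ, l (σ (τ u)) = 1 ∨ l (σ (τ u)) = -1 := fun l => by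
    rw [← Units.inv_eq_self_iff, inv_eq_iff_mul_eq_one, ← map_mul, ← map_mul, ← map_mul, a3,
      map_one, map_one, map_one]
  have b4 : l (σ (τ u)) = 1 ↔ l' (σ (τ u)) = 1 := iff_of_eq (congrFun b2 ⟨σ * τ, mul_mem hσ hτ⟩)
  rw [MonoidHom.div_apply, div_eq_one]
  by_cases b5 : l (σ (τ u)) = 1
  · rw [b5, b4.1 b5]
  · rw [(b3 l).resolve_left b5, (b3 l').resolve_left (mt b4.2 b5)]

theorem theta (hF : FrS p (ie M C[P] (B₀ _)) (B₀ G) (dB P (B₀ G)) X y a 0 δ) {l : P →* ℂˣ}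
    (hl : l ≠ 1) {z k : G} {v : P} (hz : k * ppart p z * k⁻¹ = v)
    (hv : ∀ σ ∈ autE P (ie M C[P] (B₀ _)), l (σ v) = 1) :
    δ * (y l).1 z = ∑ χ ∈ X, a χ * χ.1 z := by
  by_cases h1 : v = 1
  · simpa using hF.reg l hl z (ppart_eq_one_iff.1 (conj_eq_one_iff.1 (hz.trans (by simp [h1]))))
  have h2 : ∀ χ ∈ B₀ G, χ.1 z = dB P (B₀ G) χ.1 v := fun χ hχ => by
    rw [dB_irr hχ, ← h.val hχ (z := k * z * k⁻¹) (isPPart_iff.2 (by rw [ppart_conj, hz])) v.2
      (by simpa using h1), χ.2.isClassFunction]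
  have h3 := congrArg (Int.cast : ℤ → ℂ) hF.norm
  push_cast at h3
  have h4 : (δ : ℂ) * δ = 1 := by exact_mod_cast hF.sq
  rw [h2 _ (hF.y_mem hl), hF.dY l hl v h1, Finset.sum_congr rfl fun χ hχ => by
    rw [h2 χ ((hF.mem χ).2 (.inl hχ)), hF.dX χ hχ v h1, ← sq], orbS,
    Finset.sum_congr rfl fun σ _ => by rw [hv σ.1 σ.2], Finset.sum_const, Finset.card_univ,
    ← Nat.card_eq_fintype_card]
  simp only [Units.val_one, nsmul_one, Int.cast_zero]
  linear_combination (Nat.card (autE P (ie M C[P] (B₀ _))) + 1) * h4 - h3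

theorem pair (hF : FrS p (ie M C[P] (B₀ _)) (B₀ G) (dB P (B₀ G)) X y a 0 δ)
    (h3 : C[P].relIndex N[P] = 3) {t : G} (ht : orderOf t = 2) : ∃ l, l ≠ 1 ∧
      δ * (y l).1 t = ∑ χ ∈ X, a χ * χ.1 t ∧
      δ * ((y l).1 t ^ 2 / (y l).1 1) = ∑ χ ∈ X, a χ * (χ.1 t ^ 2 / χ.1 1) := by
  classical
  have a1 := hF.card
  have a2 := hF.two_le
  rw [h.card M, h3] at a1
  obtain ⟨l, hl, a3⟩ := h.exists_lin M h3 (by omega) (by omega) (orderOf_two_iff.1 ht).1
  have a4 : ∀ z w : G, ppart p z = w → w ≠ 1 → w * w = 1 → p = 2 := fun z w h1 h2 h3 => by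
    obtain ⟨k, hk⟩ := pelt_ppart p z
    rw [h1, orderOf_two_iff.2 ⟨h3, h2⟩] at hk
    exact ((Nat.prime_dvd_prime_iff_eq Nat.prime_two hp.out).1
      (Nat.prime_two.dvd_of_dvd_pow hk.dvd)).symm
  have a5 : ∀ x z, IsConj t x → IsConj t z →
      ((δ : ℂ) • (y l).1 - ∑ χ ∈ X, (a χ : ℂ) • χ.1) (x * z) = 0 := fun x z hx hz => by
    have b0 : ∀ x, IsConj t x → x * x = 1 := fun x hx => by
      obtain ⟨g, rfl⟩ := isConj_iff.1 hx
      simp [(orderOf_two_iff.1 ht).1]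
    have b1 : x * (x * z) * x⁻¹ = (x * z)⁻¹ := by
      rw [← mul_assoc x x, b0 x hx, one_mul, mul_inv_rev, inv_eq_of_mul_eq_one_left (b0 z hz)]
    have b2 : x * ppart p (x * z) * x⁻¹ = (ppart p (x * z))⁻¹ := by rw [← ppart_conj, b1, ppart_inv]
    have b3 : x * rpart p (x * z) * x⁻¹ = (rpart p (x * z))⁻¹ := by rw [← rpart_conj, b1, rpart_inv]
    obtain ⟨g, -, hg⟩ := h.exists_conj_mem le_top trivial (pelt_ppart p (x * z))
    have b4 := Subtype.ext_iff.1 (h.sq_of_real M (by rw [h3]; decide) (v := ⟨_, hg⟩)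
      (isConj_iff.2 ⟨g * x * g⁻¹, by simp [mul_assoc, ← b2]⟩))
    simp only [Pi.sub_apply, Finset.sum_apply, Pi.smul_apply, smul_eq_mul, sub_eq_zero]
    by_cases b5 : ppart p (x * z) = 1
    · exact h.theta hF hl (k := 1) (v := 1) (by simp [b5]) (by simp)
    replace b4 : ppart p (x * z) * ppart p (x * z) = 1 := by simpa using b4
    obtain rfl := a4 _ _ rfl b5 b4
    rw [inv_eq_of_mul_eq_one_left b4] at b2
    obtain ⟨c, b6, b7⟩ := h.exists_conj_mem (w := g * x * g⁻¹)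
      (h.comm.trans (cent_anti (Subgroup.zpowers_le.2 hg))) (mem_cent_zpowers.2 (by
        rw [conj_mul, conj_mul, mul_inv_eq_iff_eq_mul.1 b2]))
      (by rw [orderOf_conj', ← orderOf_eq_of_isConj hx]; exact ⟨1, ht⟩)
    have b8 := mul_inv_eq_iff_eq_mul.2 (mem_cent_zpowers.1 b6)
    refine h.theta hF hl (k := g) (v := ⟨_, hg⟩) rfl fun σ hσ => ?_
    have b9 := a3 ⟨_, b7⟩ (hx.trans (isConj_iff.2 ⟨c * g, by group⟩)) σ hσ
    obtain ⟨m, hm⟩ : ∃ m, rpart 2 (x * z) ^ m * rpart 2 (x * z) ^ m = rpart 2 (x * z) := by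
      obtain ⟨m, hm⟩ := Nat.not_even_iff_odd.1 (mt even_iff_two_dvd.1 (reg_rpart 2 (x * z)))
      exact ⟨m + 1, by rw [← pow_add, show m + 1 + (m + 1) = 2 * m + 1 + 1 by ring, ← hm, pow_succ,
        pow_orderOf_eq_one, one_mul]⟩
    have b10 := a3 (⟨_, b7⟩ * ⟨_, hg⟩) (hz.trans (isConj_iff.2 ⟨c * g * rpart 2 (x * z) ^ m, by
      have c1 : z = x * ppart 2 (x * z) * (rpart 2 (x * z) ^ m * rpart 2 (x * z) ^ m) := by
        rw [hm, mul_assoc, ppart_mul_rpart, ← mul_assoc, b0 x hx, one_mul]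
      have c2 : rpart 2 (x * z) ^ m * x = x * (rpart 2 (x * z) ^ m)⁻¹ := by
        rw [← inv_pow, ← b3, conj_pow, ← mul_assoc, ← mul_assoc, b0 x hx, one_mul,
          inv_eq_of_mul_eq_one_left (b0 x hx)]
      have c3 := ((commute_ppart_rpart 2 (x * z)).pow_right m).inv_right.eq
      show _ = c * (g * x * g⁻¹) * c⁻¹ * (g * ppart 2 (x * z) * g⁻¹)
      generalize rpart 2 (x * z) ^ m = s, ppart 2 (x * z) = w at c1 c2 c3 b8
      rw [← b8, c1]
      calc _ = c * g * (s * x * w * s) * g⁻¹ * c⁻¹ := by group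
        _ = _ := by rw [c2, mul_assoc x, ← c3]; group⟩)) σ hσ
    rwa [map_mul, map_mul, b9, one_mul] at b10
  have a6 := sum_pair_eq_zero ((y l).2.isClassFunction.smul _ |>.sub
    (isClassFunction_sum _ _ fun χ _ => χ.2.isClassFunction.smul _)) a5
  refine ⟨l, hl, ?_, ?_⟩
  · obtain ⟨g, -, hg⟩ := h.exists_conj_mem le_top trivial (pelt_ppart p t)
    refine h.theta hF hl (k := g) (v := ⟨_, hg⟩) rfl fun σ hσ => ?_
    by_cases b5 : ppart p t = 1
    · simp [b5, show (⟨1, one_mem P⟩ : P) = 1 from rfl]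
    obtain rfl := a4 _ _ rfl b5 (by
      obtain ⟨k, hk⟩ := ppart_mem_zpowers p t
      simp only [← hk, ← (Commute.refl t).mul_zpow, (orderOf_two_iff.1 ht).1, one_zpow])
    exact a3 _ (isConj_iff.2 ⟨g, by simp [ppart_of_pelt (p := 2) ⟨1, ht⟩]⟩) σ hσ
  · simp only [classInner_sub_left, classInner_sum_left, classInner_smul_left,
      fun χ ψ : IrrCharacter G => χ.2.classInner_eq_ite ψ.2, ← Subtype.ext_iff, sub_mul, sub_div,
      Finset.sum_sub_distrib, Finset.sum_mul, Finset.sum_div] at a6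
    rw [Finset.sum_comm] at a6
    simpa [ite_div, sub_eq_zero, sq, mul_div_assoc, mul_assoc] using a6

open Classical in
theorem three_int {χ ψ : IrrCharacter G}
    (hF : FrS p (ie M C[P] (B₀ _)) (B₀ G) (dB P (B₀ G)) {irrOne G, χ, ψ} y a 0 δ)
    (h1 : irrOne G ≠ χ) (h2 : irrOne G ≠ ψ) (h4 : χ ≠ ψ) (h5 : a (irrOne G) = 1)
    (h3 : C[P].relIndex N[P] = 3) {t : G} (ht : orderOf t = 2) : ∃ l, l ≠ 1 ∧ ∃ τ α β D A B : ℤ,
      χ.1 t = α ∧ ψ.1 t = β ∧ D = charDegree (y l).1 ∧ A = charDegree χ.1 ∧ B = charDegree ψ.1 ∧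
      δ * D = 1 + a χ * A + a ψ * B ∧ δ * τ = 1 + a χ * α + a ψ * β ∧
      δ * τ ^ 2 * A * B = D * A * B + a χ * α ^ 2 * D * B + a ψ * β ^ 2 * D * A := by
  obtain ⟨l, hl, a1, a2⟩ := h.pair hF h3 ht
  have a3 := hF.reg l hl 1 (by simp [hp.out.ne_one])
  choose f hf using fun η : IrrCharacter G => exists_int_of_sq η.2.isGen (orderOf_two_iff.1 ht).1
  have a4 : ∀ η : IrrCharacter G, ((charDegree η.1 : ℤ) : ℂ) ≠ 0 := fun η => by
    simpa using charDegree_ne_zero η.2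
  rw [Finset.sum_insert (by simp [h1, h2]), Finset.sum_pair h4, h5, show (irrOne G).1 = 1 from rfl]
    at a1 a2 a3
  simp only [hf, irr_one_eq, Pi.one_apply] at a1 a2 a3
  refine ⟨l, hl, f (y l), f χ, f ψ, _, _, _, hf _, hf _, rfl, rfl, rfl, ?_, ?_, ?_⟩ <;>
    rw [← Int.cast_inj (α := ℂ)] <;> push_cast at a1 a2 a3 a4 ⊢
  · linear_combination a3
  · linear_combination a1
  · have := a4 χ
    have := a4 ψ
    have := a4 (y l)
    field_simp at a2
    linear_combination a2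

end FP

theorem isSquare_of_pair {j k m u w : ℤ} (hk : 0 < k) (hm : 0 < m) (h1 : j + 1 = k + m)
    (h2 : (u + w) ^ 2 * k * m = j * (u ^ 2 * m + w ^ 2 * k)) (h3 : u ≠ 0 ∨ w ≠ 0) :
    IsSquare (j * k * m) := by
  have h4 : (u * m - w * k) ^ 2 = u ^ 2 * m + w ^ 2 * k := by
    linear_combination -h2 - (u ^ 2 * m + w ^ 2 * k) * h1
  have h5 : 0 < (u * m - w * k) ^ 2 := by rw [h4]; rcases h3 with h | h <;> positivity
  have h6 : ((u + w) * k * m) ^ 2 = (u * m - w * k) ^ 2 * (j * k * m) := by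
    rw [h4]; linear_combination k * m * h2
  obtain ⟨q, hq⟩ := (Int.pow_dvd_pow_iff two_ne_zero).1 ⟨_, h6⟩
  exact ⟨q, mul_left_cancel₀ h5.ne' (by rw [← h6, hq]; ring)⟩

theorem eq_zero_of_pair {j k m u w : ℤ} (hk : 0 < k) (hm : 0 < m) (h1 : j = 1 + k + m)
    (h2 : (u + w) ^ 2 * k * m = j * (u ^ 2 * m + w ^ 2 * k)) : u = 0 ∧ w = 0 := by
  have h4 : (u * m - w * k) ^ 2 + u ^ 2 * m + w ^ 2 * k = 0 := by
    linear_combination -h2 - (u ^ 2 * m + w ^ 2 * k) * h1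
  constructor <;> by_contra h <;> exact h4.not_gt (by positivity)

theorem three_num {δ a b D A B τ α β : ℤ} (hδ : δ = 1 ∨ δ = -1) (ha : a = 1 ∨ a = -1)
    (hb : b = 1 ∨ b = -1) (hD : 0 < D) (hA : 0 < A) (hB : 0 < B) (h1 : δ * D = 1 + a * A + b * B)
    (h2 : δ * τ = 1 + a * α + b * β)
    (h3 : δ * τ ^ 2 * A * B = D * A * B + a * α ^ 2 * D * B + b * β ^ 2 * D * A) (h4 : α ≠ A)
    (h5 : β ≠ B) : ((if a = -1 then 1 else 0) + (if b = -1 then 1 else 0) +
      if δ = 1 then 1 else 0) = 2 ∧ IsSquare (D * A * B) := by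
  obtain ⟨s, rfl⟩ : ∃ s, τ = D + s := ⟨τ - D, by ring⟩
  obtain ⟨u, rfl⟩ : ∃ s, α = A + s := ⟨α - A, by ring⟩
  obtain ⟨w, rfl⟩ : ∃ s, β = B + s := ⟨β - B, by ring⟩
  have h6 : δ * s = a * u + b * w := by linear_combination h2 - h1
  have h7 : δ * s ^ 2 * A * B = a * u ^ 2 * D * B + b * w ^ 2 * D * A := by
    linear_combination h3 - 2 * D * A * B * h2 + D * A * B * h1
  have hu : u ≠ 0 := by simpa using h4
  have hw : w ≠ 0 := by simpa using h5
  rcases hδ with rfl | rfl <;> rcases ha with rfl | rfl <;> rcases hb with rfl | rfl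
  · obtain rfl : s = u + w := by omega
    exact (hu (eq_zero_of_pair (j := D) (w := w) hA hB (by omega) (by linear_combination h7)).1).elim
  · obtain rfl : u = s + w := by omega
    exact ⟨by simp, by
      convert isSquare_of_pair (j := A) (u := s) hD hB (by omega) (by linear_combination -h7)
        (.inr hw) using 1; ring⟩
  · obtain rfl : w = s + u := by omega
    exact ⟨by simp, by
      convert isSquare_of_pair (j := B) (u := s) hD hA (by omega) (by linear_combination -h7)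
        (.inr hu) using 1; ring⟩
  · omega
  · omega
  · obtain rfl : w = s + u := by omega
    exact (hu (eq_zero_of_pair (j := B) (u := s) hD hA (by omega) (by linear_combination h7)).2).elim
  · obtain rfl : u = s + w := by omega
    exact (hw (eq_zero_of_pair (j := A) (u := s) hD hB (by omega) (by linear_combination h7)).2).elim
  · obtain rfl : s = u + w := by omega
    exact ⟨by simp, isSquare_of_pair (w := w) hA hB (by omega) (by linear_combination -h7) (.inl hu)⟩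

end CfsgH4
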