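import Cfsg.Agent.H4.Fr3
import Cfsg.Agent.H4.K4
import Cfsg.Agent.H4.K4b
import Cfsg.Agent.H1.Cop2

/-! Brauer's theorem on abelian Sylow `2`-subgroups of rank two. -/

set_option autoImplicit false
open Cfsg MonoidAlgebra CfsgL0 CfsgH1 CfsgH4
open CfsgH3 hiding cj cj_cj
open scoped ComplexConjugate Pointwise

namespace CfsgH4

local notation "C[" Q "]" => Subgroup.centralizer (SetLike.coe (Q : Subgroup _))
local notation "N[" Q "]" => Subgroup.normalizer (SetLike.coe (Q : Subgroup _))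

universe u
variable {G : Type*} [Group G] [Finite G] {P : Subgroup G} {a b : G}

theorem eq_zero_of_sixteen {u w : ℤ} (h : 9 * (1 + 16 * u) * (1 + 16 * w) = (3 + 16 * (u + w)) *
    ((1 + 16 * u) * (1 + 16 * w) + 2 + 16 * (u + w))) : u = 0 := by
  obtain ⟨k, rfl⟩ : ∃ k, w = k - u := ⟨u + w, by ring⟩
  have h1 : u * (k - u) * (3 - 8 * k) = k ^ 2 := by linarith
  have h2 : 3 - 8 * k ∣ 9 := ⟨64 * (u * (k - u)) + (3 + 8 * k), by linear_combination -64 * h1⟩
  have h3 := Int.le_of_dvd (by norm_num) h2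
  have h4 := Int.le_of_dvd (by norm_num) h2.neg_left
  obtain rfl : k = 0 := by
    obtain rfl | rfl : k = 0 ∨ k = 1 := by omega
    · rfl
    · omega
  nlinarith

theorem eq_of_npc {K : Subgroup G} [K.Normal] (hS : CfsgH2.Syl 2 P K) (h : K ⊓ N[P] ≤ C[P])
    (hO : pPrimeCore 2 G = ⊥) : P = K := by
  obtain ⟨k, hk⟩ := npc_iff_index.1 (CfsgH2.npc_iff.2 (hS.npc_of_norm_le_cent h))
  have := map_pPrimeCore_le_of_normal 2 K
  rw [hO, le_bot_iff, Subgroup.map_eq_bot_iff_of_injective _ K.subtype_injective] at this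
  rw [this, Subgroup.index_bot] at hk
  exact hS.eq_of_pgroup (IsPGroup.of_card hk)

theorem R2.exists_ker (h : R2 P a b) (hS : CfsgH2.Syl 2 P ⊤) (h4 : 4 < Nat.card P)
    (h3 : C[P].relIndex N[P] = 3) : ∃ K : Subgroup G, K.Normal ∧ P ≤ K ∧ K ≠ ⊤ := by
  classical
  have := Fintype.ofFinite G
  obtain ⟨M, hM⟩ := exists_pmod 2
  have hF : FP 2 P := ⟨syl_iff.2 hS, h.le_cent, fun u hu h1 n hn => h.mem_cent_of_fix hS trivial
    hn.2 hu h1 (Subgroup.mem_centralizer_singleton_iff.1 hn.1)⟩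
  obtain ⟨χ, ψ, y, c, δ, a0, a1, a2, a3, a4, a5, a6⟩ := hF.exists_three M h3 h4
  obtain ⟨l, -, τ, α, β, D, A, B, b1, b2, -, b3, b4, b5, b6, b7⟩ := hF.three_int a0 a1 a2 a3 a4 h3
    (orderOf_two_iff.2 ⟨h.a2, h.a1⟩)
  have c1 : ∀ v ∈ P, v ≠ 1 → χ.1 v = c χ := fun v => hF.dX a0 (by simp)
  have c2 : ∀ v ∈ P, v ≠ 1 → ψ.1 v = c ψ := fun v => hF.dX a0 (by simp)
  obtain rfl : α = c χ := by exact_mod_cast b1.symm.trans (c1 a h.ma h.a1)
  obtain rfl : β = c ψ := by exact_mod_cast b2.symm.trans (c2 a h.ma h.a1)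
  have c3 : (16 : ℤ) ∣ Nat.card P := by
    obtain ⟨k, hk⟩ := IsPGroup.iff_card.1 hS.pg
    have c3 := a0.card
    rw [hF.card M, h3] at c3
    rw [hk] at h4 c3 ⊢
    have : 4 ≤ k := by
      by_contra h
      obtain rfl | rfl | rfl | rfl : k = 0 ∨ k = 1 ∨ k = 2 ∨ k = 3 := by omega
      all_goals omega
    exact_mod_cast pow_dvd_pow 2 this
  obtain ⟨u, hu⟩ := c3.trans (card_dvd_sub_of_const χ.2.isGen (b3 ▸ irr_one_eq χ) c1)
  obtain ⟨w, hw⟩ := c3.trans (card_dvd_sub_of_const ψ.2.isGen (b4 ▸ irr_one_eq ψ) c2)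
  have c4 : c χ * c χ = 1 := by rcases a5 with h | h <;> simp [h]
  have c5 : c ψ * c ψ = 1 := by rcases a6 with h | h <;> simp [h]
  have c6 := a0.sq
  obtain rfl : A = c χ + 16 * u := by omega
  obtain rfl : B = c ψ + 16 * w := by omega
  obtain rfl : τ = 3 * δ := by linear_combination δ * b6 - τ * c6 + δ * c4 + δ * c5
  obtain rfl : D = δ * (3 + 16 * (c χ * u + c ψ * w)) := by
    linear_combination δ * b5 - D * c6 + δ * c4 + δ * c5
  have c7 := eq_zero_of_sixteen (u := c χ * u) (w := c ψ * w) (by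
    rcases a0.sgn with h | h <;> rcases a5 with h1 | h1 <;> rcases a6 with h2 | h2 <;>
      rw [h, h1, h2] at b7 <;> rw [h1, h2] <;> linarith)
  refine ⟨_, χ.2.isCharacter.charKer_normal, fun v hv => χ.2.isCharacter.mem_charKer.2 ?_,
    χ.2.charKer_ne_top fun h => a1 (Subtype.ext h.symm)⟩
  by_cases h1 : v = 1
  · rw [h1]
  · rw [c1 v hv h1, irr_one_eq, ← b3, (mul_eq_zero.1 c7).resolve_left (left_ne_zero_of_mul_eq_one c4)]
    simp

theorem r2_normal_aux (n : ℕ) : ∀ (G : Type u) [Group G] [Finite G], Nat.card G = n →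
    ∀ (P : Subgroup G) (a b : G), R2 P a b → CfsgH2.Syl 2 P ⊤ → 4 < Nat.card P →
      pPrimeCore 2 G = ⊥ → P.Normal := by
  induction n using Nat.strong_induction_on with | _ n ih => ?_
  rintro G _ _ rfl P a b h hS h4 hO
  rcases h.relIndex_cases hS with h3 | h3
  · exact eq_of_npc hS (Subgroup.relIndex_eq_one.1 h3) hO ▸ inferInstance
  obtain ⟨K, _, h1, h2⟩ := h.exists_ker hS h4 (by rwa [top_inf_eq] at h3)
  have h5 := ih _ (CfsgH2.card_lt_of_ne_top h2) K rfl _ _ _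
    (h.subgroupOf h1) (hS.mono h1 le_top).subgroupOf (by rwa [card_subgroupOf_of_le h1]) (by
      simpa [hO, Subgroup.map_eq_bot_iff_of_injective _ K.subtype_injective] using
        map_pPrimeCore_le_of_normal 2 K)
  rw [Subgroup.normal_subgroupOf_iff_le_normalizer h1] at h5
  exact Subgroup.normalizer_eq_top_iff.1 (top_le_iff.1 ((Subgroup.normalizer_eq_top K).ge.trans
    ((hS.mono h1 le_top).norm_le_of_norm h5)))

theorem R2.normal (h : R2 P a b) (hS : CfsgH2.Syl 2 P ⊤) (h4 : 4 < Nat.card P)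
    (hO : pPrimeCore 2 G = ⊥) : P.Normal := r2_normal_aux _ G rfl P a b h hS h4 hO

end CfsgH4
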