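import Cfsg.Agent.H4.Ch1

open Cfsg CfsgH3 Module
open scoped ComplexConjugate InnerProductSpace

namespace CfsgH4.Jor

variable {G : Type*} [Group G] [Finite G]

theorem exists_proj {W : Type*} [AddCommGroup W] [Module ℂ W] (σ : Representation ℂ G W)
    (H : Subgroup G) (hH : ∀ x ∈ H, ∀ y ∈ H, x * y = y * x) :
    ∃ e : IrrCharacter H → W → W, (∀ x, ∑ l, e l x = x) ∧
      ∀ l x (h : H), σ h (e l x) = l.1 h • e l x := by
  haveI := Fintype.ofFinite H
  have h1 : ∀ l : IrrCharacter H, l.1 1 = 1 := fun l =>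
    l.2.apply_one_of_comm fun a b => Subtype.ext (hH _ a.2 _ b.2)
  refine ⟨fun l x => (Nat.card H : ℂ)⁻¹ • ∑ k : H, l.1 k⁻¹ • σ k x, fun x => ?_, fun l x h => ?_⟩
  · rw [← Finset.smul_sum, Finset.sum_comm]
    have : ∀ k : H, ∑ l : IrrCharacter H, l.1 k⁻¹ • σ k x = regChar H k⁻¹ • σ k x := fun k => by
      rw [← Finset.sum_smul, ← sum_irr_deg_mul]
      simp only [h1, one_mul]
    simp only [this]
    rw [Finset.sum_eq_single (1 : H)]
    · simp [regChar_one, smul_smul, inv_mul_cancel₀ (natCard_ne_zero H)]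
    · intro k _ hk
      rw [regChar_of_ne (inv_ne_one.2 hk), zero_smul]
    · simp
  · simp only [map_smul, map_sum]
    rw [smul_comm (l.1 h)]
    congr 1
    rw [Finset.smul_sum, ← Equiv.sum_comp (Equiv.mulLeft h) (fun k : H => l.1 h • l.1 k⁻¹ • σ k x)]
    refine Finset.sum_congr rfl fun k _ => ?_
    simp only [Equiv.coe_mulLeft, smul_smul, Subgroup.coe_mul, map_mul, Module.End.mul_apply]
    congr 1
    rw [← l.2.isCharacter.map_mul_of_apply_one (h1 l), mul_inv_rev, l.2.isClassFunction.mul_comm]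
    simp

variable {W : Type*} [NormedAddCommGroup W] [InnerProductSpace ℂ W]

/-- unitary representation -/
def Uni (σ : Representation ℂ G W) : Prop := ∀ g x y, ⟪σ g x, σ g y⟫_ℂ = ⟪x, y⟫_ℂ

/-- `‖σ g - a‖ ≤ r` -/
def Bd (σ : Representation ℂ G W) (g : G) (a : ℂ) (r : ℝ) : Prop :=
  ∀ x, ‖σ g x - a • x‖ ≤ r * ‖x‖

/-- elements close to a scalar -/
def Sm (σ : Representation ℂ G W) (g : G) : Prop := ∃ a r, 0 ≤ r ∧ r < 1 / 2 ∧ Bd σ g a r

variable {σ : Representation ℂ G W}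

omit [Finite G] in
theorem Uni.norm (h : Uni σ) (g : G) (x : W) : ‖σ g x‖ = ‖x‖ := by
  rw [@norm_eq_sqrt_re_inner ℂ, @norm_eq_sqrt_re_inner ℂ _ _ _ _ x, h]

omit [Finite G] in
theorem Uni.orth (h : Uni σ) {g : G} {v w : W} {α β : ℂ} (hv : σ g v = α • v) (hw : σ g w = β • w)
    (hne : α ≠ β) : ⟪v, w⟫_ℂ = 0 := by
  by_cases h0 : v = 0
  · simp [h0]
  have h1 : ‖α‖ = 1 := by
    have := h.norm g v
    rw [hv, norm_smul] at this
    exact mul_right_cancel₀ (norm_ne_zero_iff.2 h0) (by rw [this, one_mul])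
  have h2 := h g v w
  rw [hv, hw, inner_smul_left, inner_smul_right, ← mul_assoc] at h2
  by_contra h3
  have h4 : conj α * β = 1 := mul_right_cancel₀ h3 (by rw [h2, one_mul])
  have h5 : α * conj α = 1 := by rw [Complex.mul_conj, Complex.normSq_eq_norm_sq, h1]; simp
  apply hne
  calc α = α * (conj α * β) := by rw [h4, mul_one]
    _ = β := by rw [← mul_assoc, h5, one_mul]

omit [Finite G] in
theorem Sm.nr (h : Uni σ) {b : G} (hb : Sm σ b) {w : W} (hw : ⟪σ b w, w⟫_ℂ = 0) : w = 0 := by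
  obtain ⟨a, r, h0, hr, hb⟩ := hb
  by_contra hne
  have hp : 0 < ‖w‖ := norm_pos_iff.2 hne
  have h1 := hb w
  have h2 : ‖w‖ ≤ r * ‖w‖ + ‖a‖ * ‖w‖ := by
    calc ‖w‖ = ‖(σ b w - a • w) + a • w‖ := by rw [sub_add_cancel, h.norm]
      _ ≤ ‖σ b w - a • w‖ + ‖a • w‖ := norm_add_le _ _
      _ ≤ _ := by rw [norm_smul]; linarith
  have h3 : ‖⟪σ b w - a • w, w⟫_ℂ‖ ≤ r * ‖w‖ * ‖w‖ :=
    (norm_inner_le_norm _ _).trans (mul_le_mul_of_nonneg_right h1 hp.le)
  rw [inner_sub_left, hw, zero_sub, norm_neg, inner_smul_left, norm_mul, RCLike.norm_conj,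
    inner_self_eq_norm_sq_to_K, norm_pow] at h3
  simp only [RCLike.norm_ofReal, abs_norm] at h3
  have h4 : ‖a‖ ≤ r := by
    by_contra h5
    push Not at h5
    nlinarith [mul_pos hp hp]
  nlinarith

omit [Finite G] in
theorem Bd.conj (h : Uni σ) {g : G} {a : ℂ} {r : ℝ} (hg : Bd σ g a r) (y : G) :
    Bd σ (y * g * y⁻¹) a r := fun x => by
  have h1 := hg (σ y⁻¹ x)
  rw [h.norm, ← h.norm y, map_sub, map_smul] at h1
  simpa [map_mul] using h1

omit [Finite G] in
theorem Bd.comm (h : Uni σ) {g b : G} {a β : ℂ} {r s : ℝ} (hr : 0 ≤ r) (hs : 0 ≤ s)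
    (hg : Bd σ g a r) (hb : Bd σ b β s) : Bd σ (g * b * g⁻¹ * b⁻¹) 1 (2 * r * s) := fun x => by
  set y := σ g⁻¹ (σ b⁻¹ x) with hy
  have hn : ‖y‖ = ‖x‖ := by rw [hy, h.norm, h.norm]
  have e : σ (g * b * g⁻¹ * b⁻¹) x - (1 : ℂ) • x =
      (σ g (σ b y - β • y) - a • (σ b y - β • y)) - (σ b (σ g y - a • y) - β • (σ g y - a • y)) := by
    have e1 : σ b (σ g y) = x := by simp [hy]
    have e2 : σ g (σ b y) = σ (g * b * g⁻¹ * b⁻¹) x := by simp [hy, map_mul]
    simp only [map_sub, map_smul, e1, e2, smul_sub, smul_smul, mul_comm a β, one_smul]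
    abel
  rw [e]
  have h1 := (hg (σ b y - β • y)).trans (mul_le_mul_of_nonneg_left (hb y) hr)
  have h2 := (hb (σ g y - a • y)).trans (mul_le_mul_of_nonneg_left (hg y) hs)
  refine (norm_sub_le _ _).trans ?_
  rw [hn] at h1 h2
  linarith

theorem frob (h : Uni σ) (hf : ∀ g, σ g = 1 → g = 1) {g b : G} (hb : Sm σ b)
    (hc : g * (g * b * g⁻¹ * b⁻¹) = (g * b * g⁻¹ * b⁻¹) * g) : g * b = b * g := by
  set g' := b * g * b⁻¹ with hg'
  have h1 : Commute g g' := by
    have h2 : Commute g (g * b * g⁻¹ * b⁻¹) := hc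
    have h3 : g' = (g * b * g⁻¹ * b⁻¹)⁻¹ * g := by rw [hg']; group
    rw [h3]
    exact h2.inv_right.mul_right (Commute.refl g)
  set H := Subgroup.closure ({g, g'} : Set G)
  have hH : ∀ x ∈ H, ∀ y ∈ H, x * y = y * x := by
    have : IsMulCommutative H := Subgroup.isMulCommutative_closure (by
      rintro x (rfl | rfl) y (rfl | rfl)
      exacts [rfl, h1, h1.symm, rfl])
    intro x hx y hy
    exact congrArg Subtype.val (this.is_comm.comm (⟨x, hx⟩ : H) ⟨y, hy⟩)
  obtain ⟨e, he1, he2⟩ := exists_proj σ H hH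
  have hg : g ∈ H := Subgroup.subset_closure (by simp)
  have hg2 : g' ∈ H := Subgroup.subset_closure (by simp)
  have key : ∀ l x, σ g (e l x) = σ g' (e l x) := fun l x => by
    have a1 := he2 l x ⟨g, hg⟩
    have a2 := he2 l x ⟨g', hg2⟩
    by_cases h0 : l.1 ⟨g, hg⟩ = l.1 ⟨g', hg2⟩
    · exact a1.trans (h0 ▸ a2.symm)
    have a3 : σ g (σ b⁻¹ (e l x)) = l.1 ⟨g', hg2⟩ • σ b⁻¹ (e l x) := by
      rw [← map_smul, ← a2]
      simp [hg', map_mul]
    have a4 := h.orth a1 a3 h0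
    have a5 : σ b⁻¹ (e l x) = 0 := hb.nr h (by simpa using a4)
    have a6 : e l x = 0 := by simpa using congrArg (σ b) a5
    simp [a6]
  have h2 : σ (g⁻¹ * g') = 1 := by
    ext x
    have : σ g x = σ g' x := by
      conv_lhs => rw [← he1 x]
      conv_rhs => rw [← he1 x]
      simp only [map_sum, key]
    simp [map_mul, ← this]
  have h3 := hf _ h2
  rw [inv_mul_eq_one, hg', eq_mul_inv_iff_mul_eq] at h3
  exact h3

theorem Sm.comm [FiniteDimensional ℂ W] (h : Uni σ) (hf : ∀ g, σ g = 1 → g = 1) {g b : G}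
    (hg : Sm σ g) (hb : Sm σ b) : g * b = b * g := by
  by_contra hne
  obtain ⟨a, r, h0, hr, hg⟩ := hg
  let μ : G → ℝ := fun c => ‖LinearMap.toContinuousLinearMap (σ c - 1)‖
  have hμ : ∀ c, Bd σ c 1 (μ c) := fun c x => by
    rw [one_smul]
    exact (LinearMap.toContinuousLinearMap (σ c - 1)).le_opNorm x
  obtain ⟨c, ⟨hc, hc2⟩, hmin⟩ := Set.exists_min_image {c | Sm σ c ∧ g * c ≠ c * g} μ
    (Set.toFinite _) ⟨b, hb, hne⟩
  have h1 : Sm σ (g * c * g⁻¹ * c⁻¹) := by
    obtain ⟨β, s, hs0, hs, hc⟩ := hc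
    exact ⟨1, _, by positivity, by nlinarith, hg.comm h h0 hs0 hc⟩
  have h2 := hmin _ ⟨h1, fun h3 => hc2 (frob h hf hc h3)⟩
  have h3 : μ (g * c * g⁻¹ * c⁻¹) ≤ 2 * r * μ c :=
    ContinuousLinearMap.opNorm_le_bound _ (by positivity) fun x => by
      have := hg.comm h h0 (norm_nonneg _) (hμ c) x
      rw [one_smul] at this
      exact this
  have h4 : 0 ≤ μ c := norm_nonneg _
  have h5 : μ c = 0 := by nlinarith
  have h6 : c = 1 := hf _ (by
    ext x
    have := hμ c x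
    rw [h5, zero_mul, one_smul] at this
    simpa [sub_eq_zero] using this)
  simp [h6] at hc2

theorem box_close {z w : ℂ} (hz : ‖z‖ = 1) (hw : ‖w‖ = 1)
    (h : ⌊6 * (Real.pi - z.arg) / Real.pi⌋₊ = ⌊6 * (Real.pi - w.arg) / Real.pi⌋₊) :
    ‖conj z * w - (√3 / 2 : ℝ)‖ < 1 / 2 := by
  have hp := Real.pi_pos
  have a1 : 0 ≤ 6 * (Real.pi - z.arg) / Real.pi := by
    have := Complex.arg_le_pi z; positivity
  have a2 : 0 ≤ 6 * (Real.pi - w.arg) / Real.pi := by
    have := Complex.arg_le_pi w; positivity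
  have b1 := Nat.floor_le a1
  have b2 := Nat.floor_le a2
  have c1 := Nat.lt_floor_add_one (6 * (Real.pi - z.arg) / Real.pi)
  have c2 := Nat.lt_floor_add_one (6 * (Real.pi - w.arg) / Real.pi)
  rw [h] at b1 c1
  have d1 : 6 * (Real.pi - z.arg) / Real.pi < 6 * (Real.pi - w.arg) / Real.pi + 1 := by linarith
  have d2 : 6 * (Real.pi - w.arg) / Real.pi < 6 * (Real.pi - z.arg) / Real.pi + 1 := by linarith
  rw [div_add_one hp.ne', div_lt_div_iff_of_pos_right hp] at d1 d2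
  have e1 : |w.arg - z.arg| < Real.pi / 6 := abs_lt.2 ⟨by linarith, by linarith⟩
  have e2 : √3 / 2 < Real.cos (w.arg - z.arg) := by
    rw [← Real.cos_abs, ← Real.cos_pi_div_six]
    exact Real.cos_lt_cos_of_nonneg_of_le_pi (abs_nonneg _) (by linarith) e1
  have f1 := Complex.cos_arg (norm_ne_zero_iff.1 (hz.trans_ne one_ne_zero))
  have f2 := Complex.cos_arg (norm_ne_zero_iff.1 (hw.trans_ne one_ne_zero))
  have f3 := Complex.sin_arg z
  have f4 := Complex.sin_arg w
  rw [hz, div_one] at f1 f3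
  rw [hw, div_one] at f2 f4
  rw [Real.cos_sub, f1, f2, f3, f4] at e2
  have g1 : z.re ^ 2 + z.im ^ 2 = 1 := by
    have := Complex.sq_norm z; rw [hz, Complex.normSq_apply] at this; nlinarith
  have g2 : w.re ^ 2 + w.im ^ 2 = 1 := by
    have := Complex.sq_norm w; rw [hw, Complex.normSq_apply] at this; nlinarith
  have g3 : √3 ^ 2 = 3 := Real.sq_sqrt (by norm_num)
  have g4 : 0 < √3 := Real.sqrt_pos.2 (by norm_num)
  apply lt_of_pow_lt_pow_left₀ 2 (by norm_num)
  rw [Complex.sq_norm, Complex.normSq_apply]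
  simp only [Complex.sub_re, Complex.mul_re, Complex.conj_re, Complex.conj_im, Complex.ofReal_re,
    Complex.sub_im, Complex.mul_im, Complex.ofReal_im]
  have g5 : (z.re * w.re + z.im * w.im) ^ 2 + (z.re * w.im - z.im * w.re) ^ 2 = 1 := by
    have : (z.re * w.re + z.im * w.im) ^ 2 + (z.re * w.im - z.im * w.re) ^ 2 =
      (z.re ^ 2 + z.im ^ 2) * (w.re ^ 2 + w.im ^ 2) := by ring
    rw [this, g1, g2, one_mul]
  nlinarith [mul_lt_mul_of_pos_left e2 g4]

theorem box_lt (z : ℂ) : ⌊6 * (Real.pi - z.arg) / Real.pi⌋₊ < 12 := by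
  have hp := Real.pi_pos
  have a1 : 0 ≤ 6 * (Real.pi - z.arg) / Real.pi := by
    have := Complex.arg_le_pi z; positivity
  rw [Nat.floor_lt a1, div_lt_iff₀ hp]
  have := Complex.neg_pi_lt_arg z
  push_cast
  linarith

theorem exists_bound {ι : Type*} [Finite ι] (f : ι → ℝ) {c : ℝ} (hc : 0 < c) (h : ∀ i, f i < c) :
    ∃ r, 0 ≤ r ∧ r < c ∧ ∀ i, f i ≤ r := by
  obtain ⟨r, hr, hm⟩ := Set.exists_max_image (insert 0 (Set.range f)) id
    ((Set.finite_range f).insert 0) ⟨0, by simp⟩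
  refine ⟨r, hm 0 (by simp), ?_, fun i => hm _ (by simp)⟩
  rcases hr with rfl | ⟨i, rfl⟩
  exacts [hc, h i]

theorem main [FiniteDimensional ℂ W] (h : Uni σ) (hf : ∀ g, σ g = 1 → g = 1) :
    ∃ A : Subgroup G, A.Normal ∧ (∀ x ∈ A, ∀ y ∈ A, x * y = y * x) ∧
      ∀ H : Subgroup G, (∀ x ∈ H, ∀ y ∈ H, x * y = y * x) →
        (A.subgroupOf H).index ≤ 12 ^ finrank ℂ W := by
  refine ⟨Subgroup.closure {g | Sm σ g}, ?_, ?_, fun H hH => ?_⟩
  · refine ⟨fun x hx y => ?_⟩
    induction hx using Subgroup.closure_induction with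
    | mem x hx =>
      obtain ⟨a, r, h0, hr, hx⟩ := hx
      exact Subgroup.subset_closure ⟨a, r, h0, hr, hx.conj h y⟩
    | one => simp
    | mul a b _ _ ha hb =>
      have := mul_mem ha hb
      rwa [show y * a * y⁻¹ * (y * b * y⁻¹) = y * (a * b) * y⁻¹ by group] at this
    | inv a _ ha =>
      have := inv_mem ha
      rwa [show (y * a * y⁻¹)⁻¹ = y * a⁻¹ * y⁻¹ by group] at this
  · have : IsMulCommutative (Subgroup.closure {g | Sm σ g}) :=
      Subgroup.isMulCommutative_closure fun x hx y hy => Sm.comm h hf hx hy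
    intro x hx y hy
    exact congrArg Subtype.val (this.is_comm.comm (⟨x, hx⟩ : Subgroup.closure {g | Sm σ g}) ⟨y, hy⟩)
  obtain ⟨e, he1, he2⟩ := exists_proj σ H hH
  have h1 : ∀ l : IrrCharacter H, l.1 1 = 1 := fun l =>
    l.2.apply_one_of_comm fun a b => Subtype.ext (hH _ a.2 _ b.2)
  have horth : ∀ l m : IrrCharacter H, l ≠ m → ∀ x y, ⟪e l x, e m y⟫_ℂ = 0 := fun l m hlm x y => by
    obtain ⟨k, hk⟩ : ∃ k, l.1 k ≠ m.1 k := by
      by_contra h2
      push Not at h2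
      exact hlm (Subtype.ext (funext h2))
    exact h.orth (he2 l x k) (he2 m y k) hk
  set S := {l : IrrCharacter H // ∃ x, e l x ≠ 0}
  have hS : Nat.card S ≤ finrank ℂ W := by
    have h3 := linearIndependent_of_ne_zero_of_inner_eq_zero (𝕜 := ℂ)
      (v := fun l : S => e l.1 l.2.choose) (fun l => l.2.choose_spec)
      fun l m hlm => horth _ _ (fun h2 => hlm (Subtype.ext h2)) _ _
    haveI := Fintype.ofFinite S
    rw [Nat.card_eq_fintype_card]
    exact h3.fintype_card_le_finrank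
  let F : H → S → Fin 12 := fun k l => ⟨_, box_lt (l.1.1 k)⟩
  have hF : ∀ k k' : H, F k = F k' → Sm σ ((k⁻¹ * k' : H) : G) := fun k k' hk => by
    obtain ⟨r, h0, hr, hb⟩ := exists_bound (fun l : S => ‖l.1.1 (k⁻¹ * k') - (√3 / 2 : ℝ)‖)
      (c := 1 / 2) (by norm_num) fun l => by
        rw [l.1.2.isCharacter.map_mul_of_apply_one (h1 _), l.1.2.isCharacter.apply_inv]
        exact box_close (norm_eq_one_of_lin l.1.2.isCharacter (h1 _) _)
          (norm_eq_one_of_lin l.1.2.isCharacter (h1 _) _) (congrArg Fin.val (congrFun hk l))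
    refine ⟨(√3 / 2 : ℝ), r, h0, hr, fun x => ?_⟩
    have e1 : σ (k⁻¹ * k' : H) x - ((√3 / 2 : ℝ) : ℂ) • x =
        ∑ l, (l.1 (k⁻¹ * k') - ((√3 / 2 : ℝ) : ℂ)) • e l x := by
      conv_lhs => rw [← he1 x]
      simp only [map_sum, he2, Finset.smul_sum, ← Finset.sum_sub_distrib, sub_smul]
    have e2 : ∀ c : IrrCharacter H → ℂ, ‖∑ l, c l • e l x‖ ^ 2 = ∑ l, ‖c l‖ ^ 2 * ‖e l x‖ ^ 2 :=
      fun c => by
        rw [@norm_sq_eq_re_inner ℂ, sum_inner, map_sum]
        refine Finset.sum_congr rfl fun l _ => ?_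
        rw [inner_sum, Finset.sum_eq_single l, ← @norm_sq_eq_re_inner ℂ, norm_smul, mul_pow]
        · intro m _ hm
          rw [inner_smul_left, inner_smul_right, horth _ _ hm.symm]; simp
        · simp
    have e3 : ‖x‖ ^ 2 = ∑ l, ‖e l x‖ ^ 2 := by
      have := e2 fun _ => 1
      simpa [he1] using this
    refine le_of_sq_le_sq ?_ (by positivity)
    rw [e1, e2, mul_pow, e3, Finset.mul_sum]
    refine Finset.sum_le_sum fun l _ => ?_
    by_cases h0 : e l x = 0
    · simp [h0]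
    · have := hb ⟨l, x, h0⟩
      gcongr
  set A := (Subgroup.closure {g | Sm σ g}).subgroupOf H
  have hinj : Function.Injective fun q : H ⧸ A => F q.out := fun q q' hq => by
    rw [← q.out_eq, ← q'.out_eq]
    exact QuotientGroup.eq.2 (Subgroup.subset_closure (hF _ _ hq))
  have := Nat.card_le_card_of_injective _ hinj
  rw [Nat.card_fun, Nat.card_eq_fintype_card (α := Fin 12), Fintype.card_fin] at this
  exact this.trans (Nat.pow_le_pow_right (by norm_num) hS)

omit [Finite G] in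
theorem exists_uni [Fintype G] {χ : G → ℂ} (hχ : IsCharacter G χ) :
    ∃ (m : ℕ) (W : Submodule ℂ (EuclideanSpace ℂ (G × Fin m))) (σ : Representation ℂ G W),
      σ.character = χ ∧ Uni (G := G) (W := W) σ := by
  obtain ⟨m, ρ, rfl⟩ := hχ
  let ι : (Fin m → ℂ) →ₗ[ℂ] EuclideanSpace ℂ (G × Fin m) :=
    { toFun := fun x => WithLp.toLp 2 fun q => ρ q.1 x q.2
      map_add' := fun x y => by ext q; simp
      map_smul' := fun c x => by ext q; simp }
  have hι : Function.Injective ι := fun x y hxy => by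
    ext i
    have := congrArg (fun v : EuclideanSpace ℂ (G × Fin m) => v (1, i)) hxy
    simpa [ι] using this
  refine ⟨m, LinearMap.range ι, transport ρ (LinearEquiv.ofInjective ι hι), ?_, fun g x y => ?_⟩
  · exact (Representation.char_iso (transportEquiv ρ _)).symm
  · obtain ⟨x, rfl⟩ := (LinearEquiv.ofInjective ι hι).surjective x
    obtain ⟨y, rfl⟩ := (LinearEquiv.ofInjective ι hι).surjective y
    simp only [transport_apply, LinearEquiv.symm_apply_apply, Submodule.coe_inner,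
      LinearEquiv.ofInjective_apply, PiLp.inner_apply]
    refine Fintype.sum_equiv ((Equiv.mulRight g).prodCongr (Equiv.refl _)) _ _ fun q => ?_
    simp [ι]

theorem jordan_abelian {χ : G → ℂ} (hχ : IsCharacter G χ) (hf : ∀ g : G, χ g = χ 1 → g = 1) :
    ∃ A : Subgroup G, A.Normal ∧ (∀ x ∈ A, ∀ y ∈ A, x * y = y * x) ∧
      ∀ H : Subgroup G, (∀ x ∈ H, ∀ y ∈ H, x * y = y * x) →
        (A.subgroupOf H).index ≤ 12 ^ charDegree χ := by
  haveI := Fintype.ofFinite G
  obtain ⟨m, W, σ, rfl, h⟩ := exists_uni hχ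
  have : charDegree σ.character = finrank ℂ W := by
    simp [charDegree, Representation.char_one]
  rw [this]
  exact main (W := W) h fun g hg => hf g ((character_eq_one_iff σ g).2 hg)

end CfsgH4.Jor
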