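import Cfsg.Agent.H4.Rey
import Cfsg.Agent.H4.BF
import Cfsg.Agent.H4.PairF
import Cfsg.Agent.H4.Sec

/-! Central defect groups; kernels of blocks along Brauer pairs. -/

set_option autoImplicit false
open Cfsg MonoidAlgebra CfsgL0 CfsgH1 CfsgH4
open CfsgH3 hiding cj cj_cj
open scoped ComplexConjugate

namespace CfsgH4

variable {G H : Type*} [Group G] [Group H] {M : Ideal AlgInt}

local notation "C[" Q "]" => Subgroup.centralizer (SetLike.coe (Q : Subgroup _))
local notation "N[" Q "]" => Subgroup.normalizer (SetLike.coe (Q : Subgroup _))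

section PM
variable {p : ℕ} [hM : PMod p M] [Finite G]
include hM

theorem _root_.Cfsg.IsPBlock.defect_eq_zero_of_dz {B : Set (IrrCharacter G)} (hB : IsPBlock M B)
    {χ : IrrCharacter G} (hχ : χ ∈ B)
    (h : (Nat.card G).factorization p ≤ (charDegree χ.1).factorization p) :
    blockDefect p B = 0 := by
  classical
  have := Fintype.ofFinite G
  have h1 := sub_fact_eq (p := p) (M := M) hχ
  by_contra h0
  have h2 : blockHeight p B χ.1 ≠ 0 := by omega
  have := hB.height_add_two_le hχ h2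
  omega

theorem _root_.Cfsg.IsDefectGroup.eq_bot_of_dz {B : Set (IrrCharacter G)} (hB : IsPBlock M B)
    {D : Subgroup G} (hD : IsDefectGroup p M B D) {χ : IrrCharacter G} (hχ : χ ∈ B)
    (h : (Nat.card G).factorization p ≤ (charDegree χ.1).factorization p) : D = ⊥ := by
  haveI : Fact p.Prime := ⟨PMod.prime M⟩
  have h1 := hD.fact_card hB
  rw [hB.defect_eq_zero_of_dz hχ h] at h1
  obtain ⟨k, hk⟩ := IsPGroup.iff_card.1 (hB.isDefectGroup_iff.1 hD).pgrp
  rw [hk, Nat.Prime.factorization_pow Fact.out] at h1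
  simp only [Finsupp.single_eq_same] at h1
  rw [h1, pow_zero] at hk
  exact Subgroup.eq_bot_of_card_eq _ hk

theorem _root_.Cfsg.IsPBlock.isDefectGroup_of_ker {B : Set (IrrCharacter G)} (hB : IsPBlock M B)
    {Z : Subgroup G} [Z.Normal] (hZ : IsPGroup p Z)
    (hc : ∀ x : G, ¬ p ∣ orderOf x → x ∈ C[Z]) {θ : IrrCharacter G} (hθ : θ ∈ B)
    (hk : ∀ z ∈ Z, θ.1 z = θ.1 1)
    (hd : (Nat.card G).factorization p ≤
      (charDegree θ.1).factorization p + (Nat.card Z).factorization p) :
    IsDefectGroup p M B Z := by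
  haveI : Fact p.Prime := ⟨PMod.prime M⟩
  have hs := QuotientGroup.mk'_surjective Z
  have hker : (QuotientGroup.mk' Z).ker = Z := QuotientGroup.ker_mk' Z
  have hp : IsPGroup p (QuotientGroup.mk' Z).ker := by rw [hker]; exact hZ
  have hb := hB.comap_of_pker hs hp (by rw [hker]; exact hc)
  obtain ⟨χ, hχ⟩ := exists_irrComp_eq_of_ker hs (ξ := θ) (by rw [hker]; exact hk)
  obtain ⟨P, hP⟩ := hB.exists_defectGroup (p := p)
  have h1 := hP.map_of_comap hs hp hB hb
  have h2 : P.map (QuotientGroup.mk' Z) = ⊥ := by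
    refine h1.eq_bot_of_dz hb (χ := χ) (by rw [Set.mem_preimage, hχ]; exact hθ) ?_
    rw [← charDegree_irrComp hs χ, hχ]
    have := fact_card_eq_add p Z
    rw [Subgroup.index_eq_card] at this
    omega
  rw [Subgroup.map_eq_bot_iff, hker] at h2
  have h3 : Z ≤ P := (hB.isDefectGroup_iff.1 hP).normal_le (eB_mem_ZA B) hB.eB_idem hZ le_top
    (by rw [Subgroup.normalizer_eq_top])
  rwa [le_antisymm h3 h2]

theorem _root_.Cfsg.IsDefectGroup.exists_ker_deg {B : Set (IrrCharacter G)} (hB : IsPBlock M B)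
    {Z : Subgroup G} (hD : IsDefectGroup p M B Z) (hG : Z ⊔ C[Z] = ⊤) :
    ∃ θ ∈ B, (∀ z ∈ Z, θ.1 z = θ.1 1) ∧
      (charDegree θ.1).factorization p + (Nat.card Z).factorization p =
        (Nat.card G).factorization p := by
  classical
  haveI : Fact p.Prime := ⟨PMod.prime M⟩
  have := Fintype.ofFinite G
  haveI := normal_of_sup_cent hG
  obtain ⟨θ, hθ, hk⟩ := hB.exists_ker (P := Z) (hB.isDefectGroup_iff.1 hD).pgrp
  refine ⟨θ, hθ, hk, ?_⟩
  have h1 := hB.pc_height_of_ker hD hG hθ hk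
  have h2 := sub_fact_eq (p := p) (M := M) hθ
  have h3 := hD.fact_card hB
  have h4 : (charDegree θ.1).factorization p ≤ (Nat.card G).factorization p :=
    Nat.factorization_le_factorization_of_dvd_right
      (θ.2.degree_dvd_card (coe_charDegree θ.2.isCharacter).symm) (charDegree_ne_zero θ.2) Nat.card_pos.ne'
  omega

end PM
end CfsgH4
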