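import Cfsg.Agent.H4.Cy9
import Cfsg.Agent.H4.Col
import Cfsg.Agent.H4.BS1
import Cfsg.Agent.H4.Mx

/-! Bounds for `k(B)` from major subsections. -/

set_option autoImplicit false
open Cfsg MonoidAlgebra CfsgL0 CfsgH1 CfsgH4
open CfsgH3 hiding cj cj_cj
open scoped ComplexConjugate

namespace CfsgH4

universe u

local notation "C[" Q "]" => Subgroup.centralizer (SetLike.coe (Q : Subgroup _))
local notation "N[" Q "]" => Subgroup.normalizer (SetLike.coe (Q : Subgroup _))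
local notation "Z[" u "]" => Subgroup.zpowers u

theorem sum_le_of_tp {ι : Type*} [Fintype ι] (s : Finset ι) (w : ι → ℕ) (a : ι → ℂ)
    (ht : ∀ i, TP (a i)) (hint : ∀ i ∈ s, IsIntegral ℤ (a i)) (h0 : ∀ i ∈ s, a i ≠ 0) {c : ℕ}
    (h : ∑ i, w i * a i = c) : ∑ i ∈ s, w i ≤ c := by
  choose β hβ using fun i => IsAlgClosed.exists_pow_nat_eq (a i) two_pos
  have := sum_le_of_forall_aut s w β (fun i hi => IsIntegral.of_pow two_pos (hβ i ▸ hint i hi))
    (fun i hi h1 => h0 i hi (by rw [← hβ, h1]; simp)) (c := c) fun σ => by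
    have h1 := congrArg σ h
    simp only [map_sum, map_mul σ (w _ : ℂ), map_natCast] at h1
    have h2 : ∑ i, (w i : ℝ) * ‖σ (β i)‖ ^ 2 = c := by
      have : ∀ i, σ (a i) = (‖σ (β i)‖ ^ 2 : ℝ) := fun i => by
        rw [ht i σ, ← hβ, map_pow, norm_pow]
      simp only [this] at h1
      exact_mod_cast h1
    rw [← h2]
    exact Finset.sum_le_sum_of_subset_of_nonneg (Finset.subset_univ _) fun i _ _ => by positivity
  exact_mod_cast this

theorem two_le_card_of_sum {ι : Type*} [Fintype ι] (y : ι → ℂ) (h : ∑ i, y i = 0)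
    (h0 : ∃ i, y i ≠ 0) [DecidablePred fun i => y i ≠ 0] : 2 ≤ ∑ i with y i ≠ 0, 1 := by
  classical
  obtain ⟨i, hi⟩ := h0
  by_contra h1
  rw [Finset.sum_const, smul_eq_mul, mul_one, not_le, Nat.lt_succ_iff, Finset.card_le_one] at h1
  rw [Finset.sum_eq_single i (fun j _ hj => ?_) (by simp)] at h
  · exact hi h
  · by_contra h2
    exact hj (h1 j (by simpa using h2) i (by simpa using hi))

variable {G : Type*} [Group G] [Finite G] {M : Ideal AlgInt} {p : ℕ} [hM : PMod p M]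

section Sub
variable {C : Subgroup G} [Fintype C] {u : G} (hC : C = Subgroup.centralizer ({u} : Set G))
  {b : Set (IrrCharacter C)} {B : Set (IrrCharacter G)}
include hC

omit hM in
theorem mm_tr_eq (π : C → ℂ) (χ : IrrCharacter G) : ∃ n : IrrCharacter C → ℕ,
    mm p π (tr C u χ.1) = ∑ ξ, conj (cw hC ξ) * (n ξ * mm p π ξ.1) := by
  choose n hn using fun ξ : IrrCharacter C =>
    (χ.2.isCharacter.restrict C).exists_nat_classInner ξ.2.isCharacter
  refine ⟨n, ?_⟩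
  rw [mm_eq_sum_right _ (isClassFunction_tr hC χ.2.isClassFunction)]
  refine Finset.sum_congr rfl fun ξ _ => ?_
  rw [classInner_tr hC χ.2.isClassFunction, hn, map_mul, map_natCast, mul_assoc]

omit hM in
theorem cyc_mm_tr {π : C → ℂ} (h : ∀ ξ : IrrCharacter C, ∃ n : ℤ, mm p π ξ.1 = n)
    (χ : IrrCharacter G) : Cyc (mm p π (tr C u χ.1)) ∧ IsIntegral ℤ (mm p π (tr C u χ.1)) := by
  obtain ⟨n, hn⟩ := mm_tr_eq (p := p) hC π χ
  choose m hm using h
  simp only [hn, hm]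
  exact ⟨cyc_sum _ fun ξ _ => (cyc_cw hC ξ).conj.mul ((cyc_natCast _).mul (cyc_intCast _)),
    IsIntegral.sum _ fun ξ _ => (isIntegral_conj (isIntegral_cw hC ξ)).mul
      ((isIntegral_natCast _).mul (isIntegral_intCast _))⟩

variable (hu : ∃ k, orderOf u = p ^ k)
include hu hM

variable (M) in
theorem sum_mm_tr_conj (π : C → ℂ) {π' : C → ℂ} (h : IsClassFunction C π') :
    ∑ χ : IrrCharacter G, mm p π (tr C u χ.1) * conj (mm p π' (tr C u χ.1)) = mm p π π' := by
  classical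
  haveI : Fact p.Prime := ⟨PMod.prime M⟩
  have := Fintype.ofFinite G
  have h1 := classInner_lift_lift (M := M) (B := Set.univ) hC hu fB_univ_mem π h
  rw [brSet_univ C.subtype_injective, blockPart_univ h,
    (isClassFunction_lift π).classInner_eq_sum_irr] at h1
  rw [← h1]
  refine Finset.sum_congr rfl fun χ _ => ?_
  rw [← conj_classInner (lift _ _ _ _ π'), classInner_lift, classInner_lift]
  simp

theorem _root_.Cfsg.IsInducedBlock.rg_ne_zero (h : IsInducedBlock M C b B)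
    (hd : blockDefect p b = blockDefect p B) {χ : IrrCharacter G} (hχ : χ ∈ B) :
    rg p (blockPart b (tr C u χ.1)) ≠ 0 := fun h0 => by
  haveI : Fact p.Prime := ⟨PMod.prime M⟩
  obtain ⟨ψ, hψ, h1⟩ := exists_height_zero (p := p) h.2.1.nonempty
  refine h.ctr_ne_zero_of_major hC hu hd hχ hψ h1 ?_
  rw [ctr, mm, h0, classInner_zero_left]

open Classical in
theorem _root_.Cfsg.IsInducedBlock.card_le_of_tests (h : IsInducedBlock M C b B)
    (hd : blockDefect p b = blockDefect p B) {ι : Type*} [Fintype ι] (π : ι → C → ℂ) (w : ι → ℕ)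
    (h0 : ∀ i, IsClassFunction C (π i))
    (h1 : ∀ i, ∀ ξ : IrrCharacter C, ∃ n : ℤ, mm p (π i) ξ.1 = n) {c d : ℕ}
    (h2 : ∀ a, IsClassFunction C a → rg p (blockPart b a) ≠ 0 →
      d ≤ ∑ i with mm p (π i) a ≠ 0, w i)
    (h3 : ∑ i, w i * mm p (π i) (π i) = c) : d * Nat.card B ≤ c := by
  refine le_trans ?_ (sum_le_of_cyc (ι := IrrCharacter G × ι)
    (Finset.univ.filter fun x => x.1 ∈ B ∧ mm p (π x.2) (tr C u x.1.1) ≠ 0) (fun x => w x.2)
    (fun x => mm p (π x.2) (tr C u x.1.1)) (fun x => (cyc_mm_tr hC (h1 _) _).1)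
    (fun x _ => (cyc_mm_tr hC (h1 _) _).2) (fun x hx => (Finset.mem_filter.1 hx).2.2) ?_)
  · rw [natCard_set_irr, Finset.mul_sum, Finset.sum_filter, Fintype.sum_prod_type]
    refine Finset.sum_le_sum fun χ _ => ?_
    by_cases hχ : χ ∈ B
    · simp only [hχ, if_true, mul_one, true_and]
      rw [← Finset.sum_filter]
      exact h2 _ (isClassFunction_tr hC χ.2.isClassFunction) (h.rg_ne_zero hC hu hd hχ)
    · simp [hχ]
  · rw [← h3, Fintype.sum_prod_type_right]
    refine Finset.sum_congr rfl fun i _ => ?_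
    rw [← sum_mm_tr_conj M hC hu _ (h0 i), Finset.mul_sum]

theorem _root_.Cfsg.IsInducedBlock.card_le_of_gram (h : IsInducedBlock M C b B)
    (hd : blockDefect p b = blockDefect p B) {n : ℕ} (π : Fin (n + 1) → C → ℂ)
    (h0 : ∀ i, IsClassFunction C (π i))
    (h1 : ∀ i, ∀ ξ : IrrCharacter C, ∃ n : ℤ, mm p (π i) ξ.1 = n) {s t : ℕ}
    (h2 : ∀ a, IsClassFunction C a → (∀ i, mm p (π i) a = 0) → rg p (blockPart b a) = 0)
    (h3 : ∀ i j, mm p (π i) (π j) = (if i = j then s else 0) + t) :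
    Nat.card B ≤ (n + 1) * s + t := by
  classical
  refine Nat.le_of_mul_le_mul_left (h.card_le_of_tests hC hu hd (ι := Fin n ⊕ Bool)
    (Sum.elim (fun i => π i.castSucc - π i.succ) fun c => if c then π (.last n) else (-1 : ℂ) • π 0)
    (fun _ => 1) ?_ ?_ (d := 2) (fun a ha h4 => two_le_card_of_sum _ ?_ ?_) ?_) two_pos
  · rintro (i | _ | _)
    exacts [(h0 _).sub (h0 _), (h0 _).smul _, h0 _]
  · rintro (i | _ | _) ξ
    · obtain ⟨⟨a, ha⟩, c, hc⟩ := And.intro (h1 i.castSucc ξ) (h1 i.succ ξ)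
      exact ⟨a - c, by simp [mm_sub_left, ha, hc]⟩
    · obtain ⟨a, ha⟩ := h1 0 ξ
      exact ⟨-a, (mm_smul_left _ _ _).trans (by simp [ha])⟩
    · exact h1 _ ξ
  · have h5 := (Fin.sum_univ_castSucc fun i => mm p (π i) a).symm.trans
      (Fin.sum_univ_succ fun i => mm p (π i) a)
    simp only [Fintype.sum_sum_type, Sum.elim_inl, Sum.elim_inr, mm_sub_left, Finset.sum_sub_distrib,
      Fintype.sum_bool, if_true, Bool.false_eq_true, if_false, mm_smul_left]
    linear_combination h5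
  · by_contra! h5
    refine h4 (h2 a ha fun i => ?_)
    induction i using Fin.induction with
    | zero => simpa using (mm_smul_left _ _ _).symm.trans (h5 (.inr false))
    | succ i ih => simpa [mm_sub_left, ih] using h5 (.inl i)
  · simp only [Fintype.sum_sum_type, Sum.elim_inl, Sum.elim_inr, Fintype.sum_bool, if_true,
      Bool.false_eq_true, if_false, mm_smul_left, mm_smul_right]
    simp [mm_sub_left, mm_sub_right, h3, Fin.castSucc_lt_succ.ne, Fin.castSucc_lt_succ.ne']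
    ring

theorem tp_ctr (hb : fB b ∈ LG C M) (χ : IrrCharacter G) : TP (ctr p C u b χ.1 χ.1) := by
  haveI : Fact p.Prime := ⟨PMod.prime M⟩
  have h1 := sum_ctr_mul_conj (M := M) (b := b) hC hu hb χ.2.isClassFunction χ.2.isClassFunction
  rw [Set.inter_self] at h1
  rw [← h1]
  exact tp_sum _ fun ψ _ => (cyc_ctr (M := M) hC χ.2.isGen ψ.2.isGen).tp

theorem _root_.Cfsg.IsInducedBlock.ctr_self_ne_zero (h : IsInducedBlock M C b B)
    (hd : blockDefect p b = blockDefect p B) {χ : IrrCharacter G} (hχ : χ ∈ B) :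
    ctr p C u b χ.1 χ.1 ≠ 0 := by
  haveI : Fact p.Prime := ⟨PMod.prime M⟩
  rw [ctr_eq_mm hC h.1.fB_mem χ.2.isClassFunction χ.2.isClassFunction, Ne, mm_self_eq_zero]
  exact h.rg_ne_zero hC hu hd hχ

theorem _root_.Cfsg.IsInducedBlock.card_le_rank (h : IsInducedBlock M C b B)
    (hd : blockDefect p b = blockDefect p B) :
    Nat.card B ≤ p ^ blockDefect p B * blockRank p b := by
  classical
  haveI : Fact p.Prime := ⟨PMod.prime M⟩
  refine le_trans (le_of_eq ?_) (sum_le_of_tp (Finset.univ.filter (· ∈ B)) (fun _ => 1)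
    (fun χ => (p : ℂ) ^ blockDefect p b * ctr p C u b χ.1 χ.1)
    (fun χ => (Nat.cast_pow (α := ℂ) p _ ▸ tp_natCast _).mul (tp_ctr hC hu h.1.fB_mem χ))
    (fun χ _ => isIntegral_pow_ctr (M := M) hC χ.2.isGen χ.2.isGen)
    (fun χ hχ => mul_ne_zero (p_pow_ne_zero (M := M) _)
      (h.ctr_self_ne_zero hC hu hd (Finset.mem_filter.1 hχ).2)) ?_)
  · rw [natCard_set_irr, Finset.sum_filter]
  · simp only [Nat.cast_one, one_mul]
    rw [← Finset.mul_sum, sum_ctr_self hC hu h.1.fB_mem, hd]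
    simp

end Sub

include hM in
theorem _root_.Cfsg.IsPBlock.exists_major {B : Set (IrrCharacter G)} (hB : IsPBlock M B)
    {D : Subgroup G} (hD : IsDefectGroup p M B D) {C : Subgroup G} {u : G}
    (hC : C = Subgroup.centralizer ({u} : Set G)) (hu : u ∈ D) (h : D ≤ C) :
    ∃ b, IsInducedBlock M C b B ∧ IsDefectGroup p M b (D.subgroupOf C) ∧
      blockDefect p b = blockDefect p B := by
  haveI : Fact p.Prime := ⟨PMod.prime M⟩
  obtain ⟨e, hm⟩ := exists_maxPr hB.isBlk (hB.isDefectGroup_iff.1 hD)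
  obtain ⟨f, hf⟩ := hm.pr.exists_ple (Q := Z[u]) (Subgroup.zpowers_le.2 hu)
  rw [← centralizer_zpowers] at hC
  subst hC
  obtain ⟨h1, h2⟩ := hm.of_ple hf
  obtain ⟨b, hb, rfl⟩ := h1.exists_eq
  have h3 := (hb.isDefectGroup_subgroupOf_iff h).2 (hm.isDef_cent_of_le hf h)
  refine ⟨b, ((brLoc_centralizer h1.pgrp).isInducedBlock_iff hb hB).2 h2, h3, ?_⟩
  rw [← h3.fact_card hb, ← hD.fact_card hB, Nat.card_congr (Subgroup.subgroupOfEquivOfLe h).toEquiv]

theorem exists_quot_cent {G : Type u} [Group G] [Finite G] {C : Subgroup G} {u : G}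
    (hC : C = Subgroup.centralizer ({u} : Set G)) : ∃ (H : Type u) (_ : Group H) (_ : Finite H)
    (φ : C →* H), Function.Surjective φ ∧ (∀ x, x ∈ C[φ.ker]) ∧
      (∀ x : C, x ∈ φ.ker ↔ (x : G) ∈ Z[u]) ∧ Nat.card φ.ker = orderOf u := by
  obtain ⟨Z, hZ⟩ : ∃ Z : Subgroup C, Z = Subgroup.zpowers ⟨u, self_mem_of_eq_cent hC⟩ := ⟨_, rfl⟩
  have hZc : Z ≤ Subgroup.center C := by
    rw [hZ, Subgroup.zpowers_le]; exact mem_center_of_eq_cent hC
  haveI : Z.Normal := ⟨fun z hz g => by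
    rw [Subgroup.mem_center_iff.1 (hZc hz) g, mul_inv_cancel_right]; exact hz⟩
  refine ⟨C ⧸ Z, inferInstance, inferInstance, QuotientGroup.mk' Z, QuotientGroup.mk'_surjective Z,
    ?_, ?_, ?_⟩ <;> rw [QuotientGroup.ker_mk']
  · exact fun x z hz => (Subgroup.mem_center_iff.1 (hZc hz) x).symm
  · intro x
    rw [hZ]
    exact ⟨fun ⟨k, hk⟩ => ⟨k, congrArg Subtype.val hk⟩, fun ⟨k, hk⟩ => ⟨k, Subtype.ext hk⟩⟩
  · rw [hZ, Nat.card_zpowers, Subgroup.orderOf_mk]

section Quot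
variable {H : Type*} [Group H] [Fintype H] [Fintype G] {φ : G →* H}
include hM

variable (M) in
theorem exists_int_mm_comp {F : H → ℂ} (hF : IsGeneralizedCharacter H F)
    (h0 : ∀ g, p ∣ orderOf g → F g = 0) (ξ : IrrCharacter G) :
    ∃ n : ℤ, mm p ((Nat.card φ.ker : ℂ) • fun x => F (φ x)) ξ.1 = n := by
  haveI : Fact p.Prime := ⟨PMod.prime M⟩
  have h1 := (cs_card_ker_rg_comp (M := M) φ (cs_of_gen hF) h0).inner_gen ξ.2.isGen
  obtain ⟨n, hn⟩ := (isGen_pow_rg (p := p) (hF.comp φ)).exists_int_classInner ξ.2.isGen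
  rw [classInner_smul_left] at h1 hn
  have h2 : (Nat.card φ.ker : ℂ) * classInner (rg p fun x => F (φ x)) ξ.1 =
      ((Nat.card φ.ker * n : ℤ) : ℂ) / (p : ℂ) ^ (Nat.card G).factorization p := by
    rw [eq_div_iff (p_pow_ne_zero (M := M) _)]
    push_cast at hn ⊢
    rw [← hn]; ring
  obtain ⟨m, hm⟩ := pow_dvd_of_div_mem_Loc (M := M) (h2 ▸ mem_LI.1 h1)
  refine ⟨m, ?_⟩
  rw [mm_smul_left, mm, h2, hm]
  push_cast
  rw [mul_div_cancel_left₀ _ (p_pow_ne_zero (M := M) _)]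

theorem rg_eq_zero_of_dual {b : Set (IrrCharacter G)} (hb : fB b ∈ LG G M) {ι : Type*}
    [Fintype ι] [DecidableEq ι] (hι : Fintype.card ι = blockRank p b) {π v : ι → G → ℂ}
    (hπ : ∀ i, blockPart b (π i) = π i) (hv : ∀ i, blockPart b (v i) = v i)
    (h : ∀ i j, mm p (v i) (π j) = if j = i then 1 else 0) {a : G → ℂ}
    (ha : IsClassFunction G a) (h0 : ∀ i, mm p (π i) a = 0) : rg p (blockPart b a) = 0 := by
  classical
  set V := Submodule.span ℂ ((fun χ : IrrCharacter G => pRegularPart p χ.1) '' b) with hV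
  have hm : ∀ c, rg p (blockPart b c) ∈ V := fun c => by
    rw [blockPart_eq_sum, rg_sum]
    refine Submodule.sum_mem _ fun χ _ => ?_
    rw [rg_smul]
    split_ifs with hχ
    · exact Submodule.smul_mem _ _ (Submodule.subset_span ⟨χ, hχ, pRegularPart_eq _⟩)
    · simp
  let T : V →ₗ[ℂ] (ι → ℂ) := (LinearMap.pi fun j => innerL (π j)).comp V.subtype
  have hT : ∀ c, T ⟨_, hm c⟩ = fun j => mm p (blockPart b c) (π j) := fun c => rfl
  have h1 : Function.Surjective T := by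
    rw [← LinearMap.range_eq_top, eq_top_iff, ← (Pi.basisFun ℂ ι).span_eq, Submodule.span_le]
    rintro _ ⟨i, rfl⟩
    refine ⟨⟨_, hm (v i)⟩, ?_⟩
    rw [hT, hv]
    ext j
    rw [h, Pi.basisFun_apply, Pi.single_apply]
  have h2 := (LinearMap.injective_iff_surjective_of_finrank_eq_finrank (f := T)
    (by rw [Module.finrank_fintype_fun_eq_card, hι]; rfl)).2 h1
  have h3 : T ⟨_, hm a⟩ = 0 := by
    rw [hT]
    ext j
    have hc : IsClassFunction G (π j) := hπ j ▸ isClassFunction_blockPart _ _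
    rw [mm_blockPart_left hb ha hc, hπ, mm_eq, ← conj_classInner, ← mm, h0]
    simp
  exact congrArg Subtype.val ((map_eq_zero_iff T h2).1 h3)

end Quot

include hM in
theorem _root_.Cfsg.IsPBlock.exists_red {G : Type u} [Group G] [Finite G]
    {B : Set (IrrCharacter G)} (hB : IsPBlock M B)
    {D : Subgroup G} (hD : IsDefectGroup p M B D) {C : Subgroup G} {u : G}
    (hC : C = Subgroup.centralizer ({u} : Set G)) (hu : u ∈ D) (h : D ≤ C) :
    ∃ (b : Set (IrrCharacter C)) (H : Type u) (_ : Group H) (_ : Finite H) (φ : C →* H)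
      (hφ : Function.Surjective φ), IsInducedBlock M C b B ∧ blockDefect p b = blockDefect p B ∧
      (∃ k, orderOf u = p ^ k) ∧ IsPGroup p φ.ker ∧ (∀ x, x ∈ C[φ.ker]) ∧
      (∀ x : C, x ∈ φ.ker ↔ (x : G) ∈ Z[u]) ∧ IsPBlock M (irrComp φ hφ ⁻¹' b) ∧
      IsDefectGroup p M (irrComp φ hφ ⁻¹' b) ((D.subgroupOf C).map φ) ∧
      blockRank p (irrComp φ hφ ⁻¹' b) = blockRank p b ∧ Nat.card φ.ker = orderOf u ∧
      Nat.card ((D.subgroupOf C).map φ) * orderOf u = Nat.card D := by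
  haveI : Fact p.Prime := ⟨PMod.prime M⟩
  obtain ⟨b, h1, h2, h3⟩ := hB.exists_major hD hC hu h
  obtain ⟨H, _, _, φ, hφ, h4, h5, h6⟩ := exists_quot_cent hC
  have h7 : ∃ k, orderOf u = p ^ k := (Nat.dvd_prime_pow Fact.out).1
    (hD.card_eq hB ▸ D.orderOf_dvd_natCard hu) |>.imp fun _ h => h.2
  have h8 : IsPGroup p φ.ker := h7.elim fun k hk => IsPGroup.of_card (h6.trans hk)
  have h9 := h1.1.comap_of_pker hφ h8 fun x _ => h4 x
  refine ⟨b, H, _, ‹_›, φ, hφ, h1, h3, h7, h8, h4, h5, h9, h2.map_of_comap hφ h8 h1.1 h9,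
    blockRank_comap_of_pker hφ h8 (fun x _ => h4 x) h1.1.fB_mem, h6, ?_⟩
  rw [← h6, ← Nat.card_congr (Subgroup.subgroupOfEquivOfLe h).toEquiv,
    ← CfsgH1.card_map_mul_card_inf_ker φ (D.subgroupOf C), inf_eq_left.2 fun x hx =>
      Subgroup.mem_subgroupOf.2 (Subgroup.zpowers_le.2 hu ((h5 x).1 hx))]

include hM in
theorem _root_.Cfsg.IsPBlock.card_le_of_cyclic_quot {B : Set (IrrCharacter G)} (hB : IsPBlock M B)
    {D : Subgroup G} (hD : IsDefectGroup p M B D) {u y : G} (hu : u ∈ D) (hy : y ∈ D)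
    (h : u * y = y * u) (h' : D ≤ Z[u] ⊔ Z[y]) : Nat.card B ≤ Nat.card D := by
  classical
  haveI : Fact p.Prime := ⟨PMod.prime M⟩
  obtain ⟨C, hC⟩ : ∃ C, C = Subgroup.centralizer ({u} : Set G) := ⟨_, rfl⟩
  have hyC : y ∈ C := hC ▸ Subgroup.mem_centralizer_singleton_iff.2 h.symm
  have hDC : D ≤ C := h'.trans (sup_le (Subgroup.zpowers_le.2 (self_mem_of_eq_cent hC))
    (Subgroup.zpowers_le.2 hyC))
  obtain ⟨b, H, _, _, φ, hφ, h1, h2, h3, h4, h5, h6, h7, h8, h9, h10, h11⟩ :=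
    hB.exists_red hD hC hu hDC
  have := Fintype.ofFinite C
  have := Fintype.ofFinite H
  generalize hP : (D.subgroupOf C).map φ = P at h8 h11
  have hc : IsCyclic P := by
    refine Subgroup.isCyclic_of_le (H' := Z[φ ⟨y, hyC⟩]) ?_
    rw [← hP, Subgroup.map_le_iff_le_comap]
    intro x hx
    have h12 : Z[u] ⊔ Z[y] ≤ (Z[φ ⟨y, hyC⟩].comap φ).map C.subtype := sup_le
      (Subgroup.zpowers_le.2 ⟨⟨u, self_mem_of_eq_cent hC⟩, by
        rw [SetLike.mem_coe, Subgroup.mem_comap, (h6 ⟨u, _⟩).2 (Subgroup.mem_zpowers u)]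
        exact one_mem _, rfl⟩) (Subgroup.zpowers_le.2 ⟨⟨y, hyC⟩, Subgroup.mem_zpowers _, rfl⟩)
    obtain ⟨z, hz, h13⟩ := h12 (h' hx)
    rwa [← Subtype.ext h13]
  by_cases hP1 : P = ⊥
  · have h12 := blockRank_le_card (p := p) (irrComp φ hφ ⁻¹' b)
    rw [h7.card_eq_one_of_defect (by rw [← h8.fact_card h7, hP1]; simp), h9] at h12
    rw [hD.card_eq hB]
    exact (h1.card_le_rank hC h3 h2).trans (by simpa using Nat.mul_le_mul_left _ h12)
  obtain ⟨e, hm⟩ := exists_maxPr h7.isBlk (h7.isDefectGroup_iff.1 h8)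
  obtain ⟨w, β, e', Φ, _, X, Y, ε, δ, hd, s⟩ := hm.exists_cyS h7 hc hP1
  obtain ⟨n, hn⟩ := Nat.exists_eq_succ_of_ne_zero s.nonempty.card_pos.ne'
  obtain ⟨κ⟩ : Nonempty (Fin (n + 1) ≃ X) := ⟨(Finset.equivFinOfCardEq hn).symm⟩
  have hm' := fun a c => mm_comp_of_pker (p := p) hφ h4 (fun x _ => h5 x) a c
  have hX : ∀ a, ∀ j, mm p a (piX Y ε δ (κ j)) = classInner a (piX Y ε δ (κ j)) := fun a j => by
    rw [mm_eq, rg_eq_self fun g => s.piX_sing hd (κ j).2]
  have hN : ∀ i, ∀ ψ ∈ exc Y, (κ i).1.1 ≠ ψ.1 := fun i ψ hψ h =>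
    Finset.disjoint_left.1 s.disjoint (κ i).2 ((Subtype.ext h : (κ i).1 = ψ) ▸ hψ)
  have hI : ∀ i j, classInner (κ i).1.1 (piX Y ε δ (κ j)) = if i = j then (ε (κ i) : ℂ) else 0 :=
    fun i j => by
      rw [classInner_piX, Finset.sum_eq_zero fun ψ hψ => by
        rw [(κ i).1.2.classInner_eq_ite ψ.2, if_neg (hN i ψ hψ), mul_zero], (κ i).1.2.classInner_eq_ite (κ j).1.2]
      by_cases hij : i = j
      · simp [hij]
      · simp [hij, ← Subtype.ext_iff]
  have hb : ∀ χ ∈ irrComp φ hφ ⁻¹' b, blockPart b (fun x => χ.1 (φ x)) = fun x => χ.1 (φ x) :=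
    fun χ hχ => blockPart_irr_of_mem (χ := irrComp φ hφ χ) hχ
  refine (h1.card_le_of_gram hC h3 h2 (n := n) (fun j => (Nat.card φ.ker : ℂ) •
    fun x => piX Y ε δ (κ j) (φ x)) (fun j => ((isGen_piX _).isClassFunction.comp φ).smul _)
    (fun j => exists_int_mm_comp M (isGen_piX _) fun g => s.piX_sing hd (κ j).2)
    (s := Nat.card φ.ker) (t := Nat.card φ.ker * (exc Y).card) (fun a ha h0 => rg_eq_zero_of_dual
      h1.1.fB_mem (ι := Fin (n + 1)) (v := fun i => (ε (κ i) : ℂ) • fun x => (κ i).1.1 (φ x))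
      (by rw [← h9, s.blockRank_eq hd, ← s.card, hn, Fintype.card_fin]) (fun j => ?_) (fun j => ?_)
      (fun i j => ?_) ha h0) fun i j => ?_).trans ?_
  · have h12 : (fun x => piX Y ε δ (κ j) (φ x)) = (ε (κ j) : ℂ) • (fun x => (κ j).1.1 (φ x)) -
        ∑ ψ ∈ exc Y, (δ : ℂ) • fun x => ψ.1 (φ x) := by ext; simp [piX]
    rw [blockPart_smul, h12, blockPart_sub, blockPart_smul, blockPart_sum,
      hb _ (s.mem_iff.2 (.inl (κ j).2)), Finset.sum_congr rfl fun ψ hψ => by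
        rw [blockPart_smul, hb _ (s.mem_iff.2 (.inr hψ))]]
  · rw [blockPart_smul, hb _ (s.mem_iff.2 (.inl (κ j).2))]
  · rw [mm_smul_left, mm_smul_right, map_natCast, hm', hX, hI]
    by_cases hij : i = j
    · simp [hij, s.sq]
    · simp [hij, Ne.symm hij]
  · rw [mm_smul_left, mm_smul_right, map_natCast, hm', hX, piX, classInner_sub_left,
      classInner_smul_left, hI, classInner_sum_left, Finset.sum_congr rfl fun ψ hψ => by
        rw [classInner_smul_left, classInner_piX, ψ.2.classInner_eq_ite (κ j).1.2, 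
          if_neg (hN j ψ hψ).symm, Finset.sum_eq_single ψ
          (fun χ _ h => by rw [ψ.2.classInner_eq_ite χ.2, if_neg fun h' => h (Subtype.ext h').symm,
            mul_zero]) (fun h => (h hψ).elim), ψ.2.classInner_eq_ite ψ.2, if_pos rfl, mul_zero,
          zero_sub, mul_one, mul_neg, s.sq']]
    by_cases hij : i = j <;> simp [hij, s.sq, mul_add]
  · rw [← h11, ← h10, ← s.card_exc hd, ← s.card, hn]
    have h12 : (exc Y).card ≠ 0 := fun h => hP1 (Subgroup.card_eq_one.1 (by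
      rw [← s.card_exc hd, h]; simp))
    obtain ⟨m, hm⟩ := Nat.exists_eq_succ_of_ne_zero h12
    rw [hm]
    nlinarith [Nat.zero_le (n * m * Nat.card φ.ker)]

end CfsgH4
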