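import Cfsg.Agent.H4.Br4
import Cfsg.Agent.H1.Misc1
import Cfsg.Agent.H1.System
import Cfsg.Agent.H2.BG0
import Cfsg.Agent.S0713

/-! M. Hall's theorems on the number of Sylow subgroups. -/

set_option autoImplicit false
open Cfsg CfsgH2 Subgroup MulAction

namespace CfsgH4

universe u
variable {G : Type*} [Group G] [Finite G] {p : ℕ} [hp : Fact p.Prime] {P K T : Subgroup G}

omit [Finite G] in
theorem relIndex_sup_of_le (h : P ≤ T) (h2 : K ⊔ P ≤ N[K]) :
    T.relIndex (K ⊔ P) = T.relIndex K := by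
  have h1 : K ⊔ T ⊓ (K ⊔ P) = K ⊔ P :=
    le_antisymm (sup_le le_sup_left inf_le_right) (sup_le_sup_left (le_inf h le_sup_right) _)
  have := CfsgH1.relIndex_sup_right_of_le_normalizer (H := T ⊓ (K ⊔ P)) (inf_le_right.trans h2)
  rwa [h1, inf_relIndex_right, ← inf_relIndex_right _ K, inf_assoc, inf_eq_right.2 (le_sup_left (a := K) (b := P)),
    inf_relIndex_right] at this

theorem ordProj_relIndex_mod (hP : IsPGroup p P) (hn : P ≤ N[K]) (hK : ¬ p ∣ Nat.card K) {r : ℕ}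
    (hr : r.Prime) : r ^ (N[P].relIndex K).factorization r % p = 1 := by
  have := Fact.mk hr
  have hc := coprime_of_pgroup hP hK
  have hs := CfsgH1.isSolvable_of_isPGroup hP
  obtain ⟨R, h1, h2⟩ := exists_inv_syl r hn hc (.inl hs)
  have h3 := h1.inf_cent hn hc (.inl hs) h2
  have h4 : K ⊓ N[P] = K ⊓ C[P] := le_antisymm (le_inf inf_le_left (le_cent_of_inf_eq_bot
    inf_le_right (le_norm_inf hn (le_norm_of_le le_normalizer)) (inf_eq_bot_of_coprime'
      (hc.symm.coprime_dvd_left (card_dvd_of_le inf_le_left))))) (inf_le_inf_left _ (cent_le_norm _))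
  have h5 := card_inf_mul_relIndex C[P] R
  have h6 := card_inf_mul_relIndex N[P] K
  rw [inf_comm, h3.card_eq, h1.card_eq, ← h4, ← h6, inf_comm, Nat.factorization_mul Nat.card_pos.ne'
    (relIndex_pos _ _).ne', Finsupp.add_apply, pow_add, Nat.mul_right_inj (by positivity [hr.pos])] at h5
  rw [← h5, ← Nat.mod_eq_of_lt hp.out.one_lt]
  exact ((Nat.modEq_iff_dvd' (relIndex_pos _ _)).2 (dvd_relIndex_cent_sub_one hP h2
    fun h => hK (h.trans (card_dvd_of_le h1.le)))).symm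

theorem card_sylow_mem (n : ℕ) : ∀ (G : Type u) [Group G] [Finite G], Nat.card G = n →
    Nat.card (Sylow p G) ∈ Submonoid.closure {m | (IsPrimePow m ∧ m % p = 1) ∨
      ∃ (S : Type u) (_ : Group S) (_ : Finite S), IsSimpleGroup S ∧ m = Nat.card (Sylow p S)} := by
  induction n using Nat.strong_induction_on with | _ n ih => ?_
  rintro G _ _ rfl
  by_cases hs : IsSimpleGroup G
  · exact Submonoid.subset_closure (.inr ⟨G, _, ‹_›, hs, rfl⟩)
  obtain ⟨P, hP⟩ := exists_syl p (⊤ : Subgroup G)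
  rw [CfsgH1.Syl.card_sylow hP]
  obtain _ | _ := subsingleton_or_nontrivial G
  · rw [Subsingleton.elim N[P] ⊤, index_top]
    exact one_mem _
  obtain ⟨K, _, h1, h2⟩ : ∃ K : Subgroup G, K.Normal ∧ K ≠ ⊥ ∧ K ≠ ⊤ := by
    by_contra! h
    exact hs ⟨fun K hK => or_iff_not_imp_left.2 (h K hK)⟩
  have a1 : ∀ {Q L : Subgroup G}, Syl p Q L → L ≠ ⊤ → N[Q].relIndex L ∈ _ := fun h h' =>
    CfsgH1.Syl.card_sylow_sub h ▸ ih _ (card_lt_of_ne_top h') _ rfl
  have a2 : ∀ (L : Subgroup G) [L.Normal], L ≠ ⊥ → (N[P] ⊔ L).index ∈ _ := fun L _ h' =>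
    CfsgH1.Syl.card_sylow_quot hP L ▸ ih _ (CfsgH2.card_quot_lt h') _ rfl
  have a3 : ∀ {T}, P ≤ T → T.relIndex (K ⊔ P) = T.relIndex K := fun h =>
    relIndex_sup_of_le h le_normalizer_of_normal
  by_cases h3 : K ⊔ P = ⊤
  swap
  · rw [← relIndex_mul_index (le_sup_left (b := K)), sup_comm _ K,
      CfsgH1.relIndex_sup_right_of_le_normalizer le_normalizer_of_normal, ← a3 le_normalizer, sup_comm K N[P]]
    exact mul_mem (a1 (hP.mono le_sup_right le_top) h3) (a2 K h1)
  have h4 : N[P] ≤ N[P ⊓ K] := le_norm_inf le_rfl le_normalizer_of_normal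
  have h5 := hP.inf_norm (K := K) le_top le_normalizer_of_normal
  by_cases h6 : N[P ⊓ K] = ⊤
  swap
  · rw [← relIndex_mul_index h4, ← relIndex_top_right, ← h3, a3 (le_normalizer.trans h4)]
    exact mul_mem (a1 (hP.mono (le_normalizer.trans h4) le_top) h6) (a1 h5 h2)
  by_cases h7 : P ⊓ K = ⊥
  · rw [← relIndex_top_right, ← h3, a3 le_normalizer,
      ← Nat.factorization_prod_pow_eq_self (relIndex_pos N[P] K).ne']
    refine prod_mem fun r hr => Submonoid.subset_closure (.inl ⟨?_, ordProj_relIndex_mod hP.pg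
      le_normalizer_of_normal (fun h => h5.ne_bot h h7) (Nat.prime_of_mem_primeFactors hr)⟩)
    exact (Nat.prime_of_mem_primeFactors hr).isPrimePow.pow (Finsupp.mem_support_iff.1 hr)
  · have := normalizer_eq_top_iff.1 h6
    simpa [sup_eq_left.2 (inf_le_left.trans le_normalizer)] using a2 _ h7

theorem exists_simple_sylow {G : Type u} [Group G] [Finite G] {n : ℕ} (hn : Nat.card (Sylow p G) = n)
    (h1 : n ≠ 1) (h2 : ¬ IsPrimePow n) (h3 : ∀ d, d ∣ n → d % p = 1 → d = 1 ∨ d = n) :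
    ∃ (S : Type u) (_ : Group S) (_ : Finite S), IsSimpleGroup S ∧ n = Nat.card (Sylow p S) := by
  refine (Submonoid.closure_induction (motive := fun m _ => m % p = 1 ∧ (m = n → _)) ?_
    ⟨Nat.mod_eq_of_lt hp.out.one_lt, fun h => (h1 h.symm).elim⟩ (fun a b _ _ ha hb =>
      ⟨by simp [Nat.mul_mod, ha.1, hb.1, Nat.mod_eq_of_lt hp.out.one_lt], fun h => ?_⟩)
    (card_sylow_mem _ G rfl)).2 hn
  · rintro m (h | ⟨S, _, _, h, rfl⟩)
    · exact ⟨h.2, fun e => (h2 (e ▸ h.1)).elim⟩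
    · exact ⟨Eq.trans (card_sylow_modEq_one p S) (Nat.mod_eq_of_lt hp.out.one_lt),
        fun e => ⟨S, _, ‹_›, h, e.symm⟩⟩
  · exact (h3 a ⟨b, h.symm⟩ ha.1).elim (fun e => hb.2 (by simpa [e] using h)) ha.2

section Simple
variable [IsSimpleGroup G] {n : ℕ} (hn : Nat.card (Sylow p G) = n) (h1 : n ≠ 1)
include hn h1

theorem eq_one_of_fix_sylow {x : G} (hx : ∀ Q : Sylow p G, x • Q = Q) : x = 1 := by
  obtain ⟨P⟩ : Nonempty (Sylow p G) := inferInstance
  rcases (toPermHom G (Sylow p G)).normal_ker.eq_bot_or_eq_top with h | h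
  · exact mem_bot.1 (h ▸ Equiv.ext hx)
  · refine (h1 ?_).elim
    rw [← hn, P.card_eq_index_normalizer, index_eq_one, eq_top_iff]
    exact fun g _ => Sylow.smul_eq_iff_mem_normalizer.1 (Equiv.congr_fun (h.ge (mem_top g)) P)

theorem commutator_eq_top_of_sylow : commutator G = ⊤ :=
  ((commutator_normal ⊤ ⊤).eq_bot_or_eq_top).resolve_left fun h => h1 (by
    obtain ⟨P⟩ : Nonempty (Sylow p G) := inferInstance
    rw [← hn, P.card_eq_index_normalizer, index_eq_one, ← P.coe_coe, normalizer_eq_top_iff]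
    exact ⟨fun x hx g => by
      rwa [mem_centralizer_iff.1 (commutator_eq_bot_iff_le_centralizer.1 h (mem_top x)) g trivial,
        mul_inv_cancel_right]⟩)

theorem core_eq_bot_of_sylow : pPrimeCore p G = ⊥ :=
  (Normal.eq_bot_or_eq_top inferInstance).resolve_right fun h => h1 (by
    obtain ⟨P⟩ : Nonempty (Sylow p G) := inferInstance
    rw [← hn, P.card_eq_index_normalizer, index_eq_one, ← P.coe_coe, normalizer_eq_top_iff,
      eq_bot_of_pgroup_of_not_dvd P.2 fun e => CfsgH1.not_dvd_card_pPrimeCore p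
        (e.trans (card_dvd_of_le (h.ge.trans' le_top)))]
    infer_instance)

omit h1 in
theorem two_mul_le_moved (h3 : ∀ d, d ∣ n → d % p = 1 → d = 1 ∨ d = n) (h2 : ∀ k, n ≠ p ^ k + 1)
    (h5 : 5 ≤ n) {x : G} (hq : (orderOf x).Prime) (hqn : orderOf x + 3 ≤ n) :
    2 * orderOf x + (fixedBy (Sylow p G) x).ncard ≤ n := by
  classical
  have := Fintype.ofFinite (Sylow p G)
  have h1 : n ≠ 1 := by omega
  obtain ⟨P⟩ : Nonempty (Sylow p G) := inferInstance
  have hc := Nat.card_eq_fintype_card.symm.trans hn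
  have : Nontrivial (Sylow p G) := Fintype.one_lt_card_iff_nontrivial.1 (by omega)
  have a1 : IsPreprimitive G (Sylow p G) := by
    rw [← isCoatom_stabilizer_iff_preprimitive G P, P.stabilizer_eq_normalizer]
    refine ⟨fun h => h1 (by rw [← hn, P.card_eq_index_normalizer, h, index_top]), fun H hH => ?_⟩
    have b1 := relIndex_mul_index hH.le
    have b2 := CfsgH1.Syl.card_sylow_sub ((syl_top P).mono (le_normalizer.trans hH.le) le_top)
    rw [← P.card_eq_index_normalizer, hn] at b1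
    rcases h3 _ ⟨_, b1.symm⟩ (Eq.trans (b2 ▸ card_sylow_modEq_one p H :)
      (Nat.mod_eq_of_lt hp.out.one_lt)) with h | h
    · exact (hH.not_ge (relIndex_eq_one.1 h)).elim
    · exact index_eq_one.1 (Nat.eq_of_mul_eq_mul_left (by omega) ((h ▸ b1).trans (mul_one n).symm))
  have a2 : IsPreprimitive (toPermHom G (Sylow p G)).range (Sylow p G) :=
    IsPreprimitive.of_surjective (φ := (toPermHom G (Sylow p G)).rangeRestrict)
      (f := ⟨id, fun _ _ => rfl⟩) Function.surjective_id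
  have a3 : orderOf (toPermHom G (Sylow p G) x) = orderOf x := orderOf_injective _
    ((injective_iff_map_eq_one _).2 fun g hg => eq_one_of_fix_sylow hn h1 (Equiv.congr_fun hg)) x
  by_contra h4
  have a4 := Equiv.Perm.isCycle_of_prime_order (a3 ▸ hq) (by
    have := Finset.card_add_card_compl (toPermHom G (Sylow p G) x).support
    rw [← Set.ncard_coe_finset _ᶜ, show ((toPermHom G (Sylow p G) x).supportᶜ : Finset _) =
      fixedBy (Sylow p G) x from by ext; simp] at this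
    omega)
  have a5 := Cfsg.Agent.S0713.result _ a2 hq (by omega) (by omega) a4 (a4.orderOf.symm.trans a3) ⟨x, rfl⟩
  obtain ⟨β, hβ⟩ := exists_ne P
  obtain ⟨y, hy, b1⟩ : ∃ y ∈ P, y • β ≠ β := by
    by_contra! h
    exact hβ (Sylow.ext (P.3 β.2 (P.2.sylow_mem_fixedPoints_iff.1 fun y => h y y.2)))
  have b0 : ∀ y ∈ P, y • β ≠ P := fun y hy h => hβ (by
    rw [smul_eq_iff_eq_inv_smul, Sylow.smul_eq_iff_mem_normalizer.2 (le_normalizer (inv_mem hy))] at h
    exact h)
  obtain ⟨δ, b2, b3⟩ : ∃ δ, δ ≠ P ∧ δ ∉ orbit (P : Subgroup G) β := by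
    by_contra! h
    obtain ⟨k, hk⟩ := P.2.card_orbit β
    rw [show orbit (P : Subgroup G) β = {P}ᶜ from Set.ext fun δ => ⟨by rintro ⟨y, rfl⟩; exact b0 y y.2, h δ⟩,
      Nat.card_coe_set_eq, Set.ncard_compl, hn, Set.ncard_singleton] at hk
    exact h2 k (by omega)
  obtain ⟨ζ, -, b4⟩ := Finset.exists_mem_notMem_of_card_lt_card (s := {δ, β, y • β, P})
    (t := Finset.univ) (Finset.card_le_four.trans_lt (by rw [Finset.card_univ]; omega))
  simp only [Finset.mem_insert, Finset.mem_singleton, not_or] at b4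
  have b5 : y • β ≠ δ := fun h => b3 ⟨⟨y, hy⟩, h⟩
  have b6 : β ≠ δ := fun h => b3 (h ▸ mem_orbit_self β)
  obtain ⟨g, hg⟩ := a5 (x := Equiv.swap (y • β) δ * Equiv.swap δ ζ) (by simp [b5, Ne.symm b4.1])
  replace hg : ∀ Q : Sylow p G, g • Q = Equiv.swap (y • β) δ (Equiv.swap δ ζ Q) := Equiv.congr_fun hg
  have b7 : g • P = P := by
    rw [hg, Equiv.swap_apply_of_ne_of_ne b2.symm (Ne.symm b4.2.2.2),
      Equiv.swap_apply_of_ne_of_ne (b0 y hy).symm b2.symm]
  have b8 : g • β = β := by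
    rw [hg, Equiv.swap_apply_of_ne_of_ne b6 (Ne.symm b4.2.1), Equiv.swap_apply_of_ne_of_ne b1.symm b6]
  refine b3 ⟨⟨_, (mem_normalizer_iff.1 (Sylow.smul_eq_iff_mem_normalizer.1 b7) y).1 hy⟩, ?_⟩
  show (g * y * g⁻¹) • β = δ
  rw [mul_smul, mul_smul, inv_smul_eq_iff.2 b8.symm, hg,
    Equiv.swap_apply_of_ne_of_ne b5 (Ne.symm b4.2.2.1), Equiv.swap_apply_left]

end Simple

end CfsgH4
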