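import Cfsg.Agent.H4.MH
import Cfsg.Agent.H8.Gleason
import Cfsg.Agent.H8.SmallId

/-! M. Hall's theorems: no group has 15 Sylow 7-subgroups or 21 Sylow 5-subgroups. -/

set_option autoImplicit false
open Cfsg CfsgH2 Subgroup MulAction

namespace CfsgH4

variable {G : Type*} [Group G] [Finite G] {p : ℕ} [hp : Fact p.Prime] {P R : Sylow p G}

theorem eq_of_fix_sylow (h : ∀ y ∈ P, y • R = R) : R = P :=
  Sylow.ext (P.3 R.2 (P.2.sylow_mem_fixedPoints_iff.1 fun y => h y y.2))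

theorem smul_self_sylow {y : G} (hy : y ∈ P) : y • P = P :=
  Sylow.smul_eq_iff_mem_normalizer.2 (le_normalizer hy)

theorem mem_of_smul_sylow {y : G} (hy : y ∈ P) (h : y • R = R) : y ∈ R :=
  CfsgL0.le_sylow_of_le_normalizer R (P.2.to_le (zpowers_le.2 hy))
    (zpowers_le.2 (Sylow.smul_eq_iff_mem_normalizer.1 h)) (mem_zpowers y)

theorem card_orbit_sylow (hn : Nat.card (Sylow p G) ≤ p ^ 2) {H : Subgroup G} (hH : H ≤ P)
    (h : ∃ x ∈ H, x • R ≠ R) : (orbit H R).ncard = p := by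
  obtain ⟨x, hx, h⟩ := h
  obtain ⟨k, hk⟩ := (P.2.to_le hH).card_orbit R
  rw [Nat.card_coe_set_eq] at hk
  have h1 : (orbit H R).ncard < Nat.card (Sylow p G) := by
    rw [← Set.ncard_univ]
    refine Set.ncard_lt_ncard ⟨Set.subset_univ _, fun e => h ?_⟩
    obtain ⟨y, hy⟩ := e (Set.mem_univ P)
    rw [show R = P from (smul_eq_iff_eq_inv_smul _).1 hy |>.trans (smul_self_sylow (hH y⁻¹.2))]
    exact smul_self_sylow (hH hx)
  have h2 : 1 < (orbit H R).ncard := (Set.one_lt_ncard (Set.toFinite _)).2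
    ⟨_, ⟨⟨x, hx⟩, rfl⟩, _, mem_orbit_self R, h⟩
  have h3 := (Nat.pow_lt_pow_iff_right hp.out.one_lt).1 (hk ▸ h1.trans_le hn)
  interval_cases k <;> simp_all

theorem index_stab_sylow (hn : Nat.card (Sylow p G) ≤ p ^ 2) (h : R ≠ P) :
    (stabilizer (P : Subgroup G) R).index = p := by
  rw [index_stabilizer, card_orbit_sylow hn le_rfl (by
    by_contra! e
    exact h (eq_of_fix_sylow e))]

theorem exists_fix_sylow (hn : Nat.card (Sylow p G) ≤ p ^ 2) (h : R ≠ P) (hP : Nat.card P ≠ p) :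
    ∃ x ∈ P, x ∈ R ∧ orderOf x = p := by
  have h1 := (stabilizer (P : Subgroup G) R).index_mul_card
  obtain ⟨k, hk⟩ := (P.2.to_subgroup (stabilizer (P : Subgroup G) R)).exists_card_eq
  obtain ⟨x, hx⟩ := exists_prime_orderOf_dvd_card' (G := stabilizer (P : Subgroup G) R) p
    (hk ▸ dvd_pow_self p fun e => hP (by rw [← h1, index_stab_sylow hn h, hk, e]; simp))
  exact ⟨x.1, x.1.2, mem_of_smul_sylow x.1.2 x.2, by simpa using hx⟩

theorem ncard_fixedBy_sylow {x : G} (hx : orderOf x = p) : (fixedBy (Sylow p G) x).ncard % p = 1 :=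
  Eq.trans ((CfsgH8.card_modEq_card_fixedBy hp.out (k := 1) (g := x) (by simp [← hx])).symm.trans
    (card_sylow_modEq_one p G)) (Nat.mod_eq_of_lt hp.out.one_lt)

theorem comm_sylow [IsSimpleGroup G] (hn : Nat.card (Sylow p G) ≤ p ^ 2) (h1 : Nat.card (Sylow p G) ≠ 1)
    {y z : G} (hy : y ∈ P) (hz : z ∈ P) : y * z = z * y := by
  refine commutatorElement_eq_one_iff_mul_comm.1 (eq_one_of_fix_sylow rfl h1 fun R => ?_)
  obtain rfl | h := eq_or_ne R P
  · exact smul_self_sylow (mul_mem (mul_mem (mul_mem hy hz) (inv_mem hy)) (inv_mem hz))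
  have a := index_stab_sylow hn h
  have : (stabilizer (P : Subgroup G) R).Normal := normal_of_index_eq_minFac_card (by
    obtain ⟨k, hk⟩ := P.2.exists_card_eq
    rw [a, hk, hp.out.pow_minFac fun e => hp.out.one_lt.ne' (by
      simpa [a, hk, e] using (stabilizer (P : Subgroup G) R).index_dvd_card)])
  have := isCyclic_of_prime_card (α := P ⧸ stabilizer (P : Subgroup G) R) a
  exact (Normal.quotient_commutative_iff_commutator_le (N := stabilizer (P : Subgroup G) R)).1 inferInstance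
    (commutator_mem_commutator (mem_top (⟨y, hy⟩ : (P : Subgroup G))) (mem_top ⟨z, hz⟩))

theorem not_isPrimePow_of {a b n : ℕ} (ha : a.Prime) (hb : b.Prime) (h : a ≠ b) (h1 : a ∣ n) (h2 : b ∣ n) :
    ¬ IsPrimePow n := fun e => h ((isPrimePow_iff_unique_prime_dvd.1 e).unique ⟨ha, h1⟩ ⟨hb, h2⟩)

theorem card_sylow_ne_15 (G : Type*) [Group G] [Finite G] : haveI := Fact.mk Nat.prime_seven
    Nat.card (Sylow 7 G) ≠ 15 := fun h => by
  have := Fact.mk Nat.prime_seven
  have h3 : ∀ d, d ∣ 15 → d % 7 = 1 → d = 1 ∨ d = 15 := fun d h1 h2 => by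
    have := Nat.le_of_dvd (by omega) h1
    interval_cases d <;> omega
  obtain ⟨S, _, _, _, h⟩ := exists_simple_sylow h (by omega) (not_isPrimePow_of Nat.prime_three Nat.prime_five
    (by omega) (by omega) (by omega)) h3
  obtain ⟨P⟩ : Nonempty (Sylow 7 S) := inferInstance
  by_cases h1 : Nat.card P = 7
  · obtain ⟨u, a1, a2, a3⟩ := exists_gen_sylow P h1
    obtain ⟨M, hM⟩ := exists_pmod 7
    obtain ⟨e, X, y, ε, δ, a⟩ := exists_pb (M := M) a1 a2
    obtain ⟨-, -, ⟨b, -⟩ | ⟨m, -, -, -, -, b, -⟩⟩ := a.main (commutator_eq_top_of_sylow h.symm (by omega))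
      (core_eq_bot_of_sylow h.symm (by omega)) (n := 2) (a.card_syl.symm.trans h.symm)
      fun e => by have := e.le; omega
    · omega
    · exact absurd ((Nat.prime_three).dvd_of_dvd_pow (n := m) (m := 2) ⟨2, by omega⟩) (by omega)
  have : Nontrivial (Sylow 7 S) := Finite.one_lt_card_iff_nontrivial.1 (by omega)
  obtain ⟨R, hR⟩ := exists_ne P
  obtain ⟨x, b1, b2, b3⟩ := exists_fix_sylow (by omega) hR h1
  have b4 := ncard_fixedBy_sylow b3
  have b5 : 1 < (fixedBy (Sylow 7 S) x).ncard := (Set.one_lt_ncard (Set.toFinite _)).2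
    ⟨_, smul_self_sylow b2, _, smul_self_sylow b1, hR⟩
  have := two_mul_le_moved h.symm h3 (fun k e => absurd ((Nat.prime_two).dvd_of_dvd_pow (n := k) (m := 7)
    ⟨7, by omega⟩) (by omega)) (by omega) (x := x) (b3 ▸ Nat.prime_seven) (by omega)
  omega

theorem sylow21_a {S : Type*} [Group S] [Finite S] [IsSimpleGroup S] [Fact (Nat.Prime 5)]
    (h : Nat.card (Sylow 5 S) = 21) (P : Sylow 5 S) : Nat.card P ≠ 5 := fun h1 => by
  classical
  have := Fintype.ofFinite S
  have := Fact.mk Nat.prime_seven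
  obtain ⟨u, a1, a2, a3⟩ := exists_gen_sylow P h1
  obtain ⟨M, hM⟩ := exists_pmod 5
  obtain ⟨e, X, y, ε, δ, a⟩ := exists_pb (M := M) a1 a2
  have hc := commutator_eq_top_of_sylow h (by omega)
  have hO := core_eq_bot_of_sylow h (by omega)
  have hN := a.card_syl.symm.trans h
  have he : e = 2 ∨ e = 4 := by
    have := a.ne_of_perfect hc
    have := a.cardY
    have : e ≤ 4 := Nat.le_of_dvd (by omega) ⟨(exc y).card, by omega⟩
    interval_cases e <;> omega
  have key : ∀ d : ℕ, d ∣ e * 21 → ¬ 7 ∣ d → d ≤ 6 ∨ d = 12 ∧ e = 4 := fun d h1 h2 => by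
    have h3 : d ∣ e * 3 := (Nat.Coprime.symm ((Nat.prime_seven.coprime_iff_not_dvd).2 h2)).dvd_of_dvd_mul_right
      (by rwa [mul_assoc])
    have := Nat.le_of_dvd (by omega) h3
    rcases he with rfl | rfl <;> interval_cases d <;> omega
  obtain ⟨ψ, hψ⟩ := Finset.card_pos.1 a.pos'
  have hC : C[zpowers u] = zpowers u := by
    by_cases b : 7 ∣ charDegree ψ.1
    · obtain ⟨χ, b1, b2, b3⟩ : ∃ χ ∈ X, χ ≠ irrOne S ∧ ¬ 7 ∣ charDegree χ.1 := by
        by_contra! b0
        have b1 := a.rel_deg hψ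
        rw [← Finset.add_sum_erase _ _ a.one, a.eps_one, deg_irrOne] at b1
        have b2 : (7 : ℤ) ∣ ∑ χ ∈ X.erase (irrOne S), ε χ * charDegree χ.1 := Finset.dvd_sum fun χ hχ =>
          Dvd.dvd.mul_left (Int.natCast_dvd_natCast.2 (b0 χ (Finset.mem_of_mem_erase hχ)
            (Finset.ne_of_mem_erase hχ))) _
        have b3 : (7 : ℤ) ∣ δ * charDegree ψ.1 := Dvd.dvd.mul_left (Int.natCast_dvd_natCast.2 b) _
        omega
      obtain ⟨l, hl⟩ := a.degX b1
      have b4 := key _ (hN ▸ a.dvdX b1) b3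
      have b5 := a.sgn χ
      refine a.cent_eq_of_small (a.memX b1) (fun g _ => a.faithful hO (CfsgH3.Cfsg.IsIrrCharacter.isCharacter χ.2) (fun e => b2 ?_) g)
        (.inr ⟨by omega, hc⟩)
      rw [a.sX b1, mul_right_inj' (by norm_num), ← coe_deg] at e
      refine eq_one_of_deg hc ?_
      norm_cast at e
      omega
    · obtain ⟨l, hl⟩ := a.degY hψ
      have b4 := key _ (hN ▸ a.dvdY hψ) b
      have b5 := a.sgn'
      refine a.cent_eq_of_small (a.memY hψ) (fun g _ => a.faithful hO (CfsgH3.Cfsg.IsIrrCharacter.isCharacter ψ.2) (fun e' => a.ne_oneY hψ ?_) g)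
        (.inr ⟨by rcases b5 with rfl | rfl <;> omega, hc⟩)
      rw [a.sY hψ, ← coe_deg] at e'
      refine eq_one_of_deg hc ?_
      have := charDegree_pos ψ.2
      have : δ * e = 4 * charDegree ψ.1 := by exact_mod_cast e'.trans (show _ = 4 * (charDegree ψ.1 : ℂ) by norm_num)
      rcases b5 with rfl | rfl <;> omega
  have b1 := a.card_G hC
  rw [hN] at b1
  obtain ⟨Q⟩ : Nonempty (Sylow 7 S) := inferInstance
  have b2 := CfsgH8.card_sylow_ne_one_of_simple (G := S) (p := 7) (by omega) fun k e =>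
    absurd (Nat.prime_five.dvd_of_dvd_pow (n := k) (m := 7) (by omega)) (by omega)
  have b3 := card_sylow_ne_15 S
  have b4 : _ % 7 = 1 := card_sylow_modEq_one 7 S
  have b5 : Nat.card (Sylow 7 S) ∣ 60 := (Nat.Coprime.symm ((Nat.prime_seven.coprime_iff_not_dvd).2
    (by omega))).dvd_of_dvd_mul_left ((Q.card_dvd_index.trans (index_dvd_card _)).trans
      (by rcases he with rfl | rfl <;> rw [b1] <;> decide))
  have := Nat.le_of_dvd (by omega) b5
  generalize Nat.card (Sylow 7 S) = m at *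
  interval_cases m <;> omega

theorem card_sylow_ne_21 (G : Type*) [Group G] [Finite G] [Fact (Nat.Prime 5)] :
    Nat.card (Sylow 5 G) ≠ 21 := fun h => by
  have h3 : ∀ d, d ∣ 21 → d % 5 = 1 → d = 1 ∨ d = 21 := fun d h1 h2 => by
    have := Nat.le_of_dvd (by omega) h1
    interval_cases d <;> omega
  obtain ⟨S, _, _, _, h⟩ := exists_simple_sylow h (by omega) (not_isPrimePow_of Nat.prime_three
    Nat.prime_seven (by omega) (by omega) (by omega)) h3
  replace h := h.symm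
  obtain ⟨P⟩ : Nonempty (Sylow 5 S) := inferInstance
  have : Nontrivial (Sylow 5 S) := Finite.one_lt_card_iff_nontrivial.1 (by omega)
  obtain ⟨R, hR⟩ := exists_ne P
  obtain ⟨x, b1, b2, b3⟩ := exists_fix_sylow (by omega) hR (sylow21_a h P)
  have a0 : ∀ {x : S}, (orderOf x).Prime → orderOf x + 3 ≤ 21 → _ := two_mul_le_moved h h3
    (fun k e => absurd (Nat.prime_two.dvd_of_dvd_pow (n := k) (m := 5) ⟨10, by omega⟩) (by omega)) (by omega)
  have a1 : ∀ {Q : Sylow 5 S} {y z : S}, y ∈ Q → z ∈ Q → y * z = z * y := comm_sylow (by omega) (by omega)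
  have a2 : ∀ {Q}, Q ∈ fixedBy (Sylow 5 S) x ↔ x ∈ Q := fun {Q} =>
    ⟨fun e => CfsgL0.le_sylow_of_le_normalizer Q (IsPGroup.of_card (n := 1) (by simp [b3]))
      (zpowers_le.2 (Sylow.smul_eq_iff_mem_normalizer.1 e)) (mem_zpowers x), smul_self_sylow⟩
  have a3 : ∀ {y : S} {Q}, Commute x y → (y • Q ∈ fixedBy (Sylow 5 S) x ↔ Q ∈ fixedBy (Sylow 5 S) x) :=
    fun h => by rw [mem_fixedBy, smul_smul, h, mul_smul, smul_left_cancel_iff, mem_fixedBy]
  have b4 := ncard_fixedBy_sylow b3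
  have b5 : 1 < (fixedBy (Sylow 5 S) x).ncard := (Set.one_lt_ncard (Set.toFinite _)).2
    ⟨_, smul_self_sylow b2, _, smul_self_sylow b1, hR⟩
  have b6 := a0 (b3 ▸ Nat.prime_five) (by omega)
  have b7 : (fixedBy (Sylow 5 S) x).ncard ∣ Nat.card S := by
    rw [show fixedBy (Sylow 5 S) x = orbit C[zpowers x] P from ?_, ← index_stabilizer]
    · exact (index_dvd_card _).trans (card_subgroup_dvd_card _)
    have c : ∀ {Q : Sylow 5 S}, x ∈ Q → Q ≤ C[zpowers x] := fun hQ =>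
      le_centralizer_iff.1 (zpowers_le.2 fun y hy => a1 hy hQ)
    refine Set.ext fun Q => ⟨fun hQ => ?_, ?_⟩
    · obtain ⟨g, hg⟩ := exists_smul_eq C[zpowers x] (P.subtype (c b1)) (Q.subtype (c (a2.1 hQ)))
      exact ⟨g, Sylow.subtype_injective (by rwa [Sylow.smul_subtype] at hg)⟩
    · rintro ⟨g, rfl⟩
      exact (a3 (g.2 x (mem_zpowers x))).2 (a2.2 b1)
  have b8 : (fixedBy (Sylow 5 S) x).ncard = 6 := by
    by_contra e
    have := Fact.mk Nat.prime_eleven
    obtain ⟨g, hg⟩ := exists_prime_orderOf_dvd_card' 11 ((show _ = 11 by omega : (fixedBy (Sylow 5 S) x).ncard = 11) ▸ b7)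
    have := a0 (hg ▸ Nat.prime_eleven) (by omega)
    omega
  set K := fixingSubgroup S (fixedBy (Sylow 5 S) x)ᶜ
  have c1 : ∀ y, Commute x y → ∀ k ∈ K, y * k * y⁻¹ ∈ K := fun y hy k hk ω => by
    rw [mul_smul, mul_smul, (mem_fixingSubgroup_iff _).1 hk _ fun e => ω.2 ((a3 hy.inv_right).1 e),
      smul_inv_smul]
  have c2 : ¬ 5 ∣ Nat.card K := fun e => by
    obtain ⟨k, hk⟩ := exists_prime_orderOf_dvd_card' 5 e
    rw [← orderOf_coe] at hk
    have := a0 (hk ▸ Nat.prime_five) (by omega)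
    have := Set.ncard_le_ncard (show _ ⊆ fixedBy (Sylow 5 S) k.1 from (mem_fixingSubgroup_iff _).1 k.2)
    have := Set.ncard_add_ncard_compl (fixedBy (Sylow 5 S) x)
    omega
  have c3 : ∀ k ∈ K, k = 1 := fun k hk => eq_one_of_fix_sylow h (by omega) fun Q => by
    by_cases hQ : Q ∈ fixedBy (Sylow 5 S) x
    swap
    · exact (mem_fixingSubgroup_iff _).1 hk Q hQ
    refine Sylow.smul_eq_iff_mem_normalizer.2 (relIndex_eq_one.1 ?_ hk)
    by_contra e
    have d1 : (orbit K Q).ncard ≤ 6 := b8 ▸ Set.ncard_le_ncard (by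
      rintro _ ⟨g, rfl⟩
      by_contra e
      have := (mem_fixingSubgroup_iff _).1 g⁻¹.2 _ e
      exact e (by simpa [← show Q = g • Q from (inv_smul_smul g Q).symm.trans this] using hQ))
    rw [← index_stabilizer, show (stabilizer K Q).index = N[Q].relIndex K from by
      rw [← Q.stabilizer_eq_normalizer]; rfl] at d1
    obtain ⟨r, hr, d2⟩ := Nat.exists_prime_and_dvd e
    have d3 : r ^ (N[Q].relIndex K).factorization r % 5 = 1 := ordProj_relIndex_mod (K := K) Q.2 (fun y hy => mem_normalizer_iff.2 fun k =>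
      ⟨c1 y (a1 (a2.1 hQ) hy) k, fun e => by simpa [mul_assoc] using c1 _ (Commute.inv_right (a1 (a2.1 hQ) hy)) _ e⟩) c2 hr
    have d4 := hr.isPrimePow.pow (hr.factorization_pos_of_dvd (relIndex_pos _ _).ne' d2).ne'
    have d5 := Nat.le_of_dvd (relIndex_pos _ _) (Nat.ordProj_dvd (N[Q].relIndex K) r)
    have := d4.one_lt
    exact not_isPrimePow_of Nat.prime_two Nat.prime_three (by omega) (by omega) (by omega) d4
  have c4 : ∀ {Q : Sylow 5 S} {y : S} {ω}, x ∈ Q → y ∈ Q → ω ∉ fixedBy (Sylow 5 S) x → ∃ d ∈ zpowers x, d • ω = y • ω :=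
    fun {Q y ω} hx hy hω => by
    obtain ⟨d, hd⟩ := (Set.eq_of_subset_of_ncard_le (s := orbit (zpowers x) ω) (t := orbit (Q : Subgroup S) ω)
      (by rintro _ ⟨d, rfl⟩; exact ⟨⟨d, zpowers_le.2 hx d.2⟩, rfl⟩)
      (by rw [card_orbit_sylow (P := Q) (by omega) le_rfl ⟨x, hx, hω⟩, card_orbit_sylow (P := Q) (by omega)
        (zpowers_le.2 hx) ⟨x, mem_zpowers x, hω⟩])).ge ⟨⟨y, hy⟩, rfl⟩
    exact ⟨d, d.2, hd⟩
  refine hR (eq_of_fix_sylow fun y hy => Sylow.smul_eq_iff_mem_normalizer.2 (cent_le_norm _ fun z hz =>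
    commutatorElement_eq_one_iff_mul_comm.1 (c3 _ ((mem_fixingSubgroup_iff _).2 fun ω hω => ?_))))
  have c5 := fun e => hω ((a3 (Commute.inv_right (a1 b1 hy))).1 ((a3 (Commute.inv_right (a1 b2 hz))).1 e))
  obtain ⟨d, d1, d2⟩ := c4 b1 hy c5
  obtain ⟨e, e1, e2⟩ := c4 b2 hz c5
  rw [commutatorElement_def, mul_smul, mul_smul, mul_smul, ← d2, smul_smul, a1 hz (zpowers_le.2 b2 d1),
    mul_smul, ← e2, smul_smul, a1 (zpowers_le.2 b1 d1) (zpowers_le.2 b1 e1), mul_smul, d2, smul_smul,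
    a1 (zpowers_le.2 b1 e1) hy, mul_smul, e2, smul_inv_smul, smul_inv_smul]

end CfsgH4
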