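import Cfsg.Agent.H4.MH2

/-! M. Hall's theorem: no group has 22 Sylow 3-subgroups. -/

set_option autoImplicit false
open Cfsg CfsgH2 Subgroup MulAction
open scoped Pointwise commutatorElement

namespace CfsgH4

variable {G : Type*} [Group G] [Finite G] {p : ℕ} [hp : Fact p.Prime] {P R : Sylow p G}

theorem ncard_orbit_mul (P R : Sylow p G) :
    (orbit (P : Subgroup G) R).ncard * Nat.card (P ⊓ R : Subgroup G) = Nat.card P := by
  rw [← index_stabilizer, mul_comm, inf_comm, ← card_inf_mul_relIndex R (P : Subgroup G), show stabilizer (P : Subgroup G) R =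
    (R : Subgroup G).subgroupOf P from Subgroup.ext fun y => ⟨mem_of_smul_sylow y.2, smul_self_sylow⟩]
  rfl

theorem ncard_orbit_symm (P R : Sylow p G) :
    (orbit (P : Subgroup G) R).ncard = (orbit (R : Subgroup G) P).ncard :=
  Nat.eq_of_mul_eq_mul_right Nat.card_pos ((ncard_orbit_mul P R).trans (by
    rw [inf_comm, ncard_orbit_mul, P.card_eq_multiplicity, R.card_eq_multiplicity]))

omit [Finite G] hp in
theorem ncard_orbit_smul (g : G) (P R : Sylow p G) :
    (orbit ((g • P : Sylow p G) : Subgroup G) (g • R)).ncard = (orbit (P : Subgroup G) R).ncard := by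
  rw [← Set.ncard_smul_set g (orbit (P : Subgroup G) R)]
  congr 1
  refine Set.ext fun Q => ⟨?_, ?_⟩
  · rintro ⟨⟨_, y, hy, rfl⟩, h⟩
    exact ⟨_, ⟨⟨y, hy⟩, rfl⟩, by simpa [Subgroup.smul_def, mul_smul] using h⟩
  · rintro ⟨T, hT, h⟩
    obtain ⟨y, rfl⟩ := mem_orbit_iff.1 hT
    exact ⟨⟨_, y, y.2, rfl⟩, by simpa [Subgroup.smul_def, mul_smul] using h⟩

theorem stab_normal (h : (orbit (P : Subgroup G) R).ncard = p) :
    (stabilizer (P : Subgroup G) R).Normal := normal_of_index_eq_minFac_card (by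
  obtain ⟨k, hk⟩ := P.2.exists_card_eq
  rw [index_stabilizer, h, hk, hp.out.pow_minFac fun e => hp.out.one_lt.ne' (by
    simpa [index_stabilizer, h, hk, e] using (stabilizer (P : Subgroup G) R).index_dvd_card)])

theorem comm_fix (h : (orbit (P : Subgroup G) R).ncard = p) {y z : G} (hy : y ∈ P) (hz : z ∈ P) :
    ⁅y, z⁆ • R = R := by
  have := stab_normal h
  have := isCyclic_of_prime_card (α := P ⧸ stabilizer (P : Subgroup G) R) ((index_stabilizer _ _).trans h)
  exact (Normal.quotient_commutative_iff_commutator_le (N := stabilizer (P : Subgroup G) R)).1 inferInstance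
    (commutator_mem_commutator (mem_top (⟨y, hy⟩ : (P : Subgroup G))) (mem_top ⟨z, hz⟩))

theorem le_norm_inf_sylow (h : (orbit (P : Subgroup G) R).ncard = p) : (P : Subgroup G) ≤ N[(P ⊓ R : Subgroup G)] :=
  fun y hy => CfsgH1.mem_normalizer_of_conj_mem fun d hd =>
    have a : y * d * y⁻¹ ∈ P := P.mul_mem (P.mul_mem hy hd.1) (P.inv_mem hy)
    ⟨a, mem_of_smul_sylow a ((stab_normal h).1 ⟨d, hd.1⟩ (smul_self_sylow hd.2) ⟨y, hy⟩)⟩

theorem isCoatom_norm_sylow {n : ℕ} (hn : Nat.card (Sylow p G) = n) (h1 : n ≠ 1)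
    (h3 : ∀ d, d ∣ n → d % p = 1 → d = 1 ∨ d = n) (P : Sylow p G) : IsCoatom N[(P : Subgroup G)] := by
  refine ⟨fun h => h1 (by rw [← hn, P.card_eq_index_normalizer, ← P.coe_coe, h, index_top]), fun H hH => ?_⟩
  have b1 := relIndex_mul_index hH.le
  have b2 := CfsgH1.Syl.card_sylow_sub ((syl_top P).mono (le_normalizer.trans hH.le) le_top)
  rw [P.coe_coe, ← P.card_eq_index_normalizer, hn] at b1
  rcases h3 _ ⟨_, b1.symm⟩ (Eq.trans (b2 ▸ card_sylow_modEq_one p H :)
    (Nat.mod_eq_of_lt hp.out.one_lt)) with h | h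
  · exact (hH.not_ge (relIndex_eq_one.1 h)).elim
  · exact index_eq_one.1 (Nat.eq_of_mul_eq_mul_left (hn ▸ Nat.card_pos) ((h ▸ b1).trans (mul_one n).symm))

theorem PB.two {M : Ideal AlgInt} [PMod p M] {u : G} {X y ε δ} (h : PB M p u 2 X y ε δ)
    (hc : commutator G = ⊤) : ∃ a b : ℕ, 1 < a ∧ 1 < b ∧ (a = b + 1 ∨ b = a + 1) ∧
      a ∣ 2 * (N[zpowers u]).index ∧ b ∣ 2 * (N[zpowers u]).index ∧ (p ∣ a + 1 ∨ p ∣ a - 1) := by
  classical
  obtain ⟨ψ, hψ⟩ := Finset.card_pos.1 h.pos'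
  obtain ⟨χ, hχ⟩ := Finset.card_eq_one.1 ((Finset.card_erase_of_mem h.one).trans (by rw [h.cardX]))
  have a := Finset.mem_erase.1 (hχ ▸ Finset.mem_singleton_self χ)
  have b := h.rel_deg hψ
  rw [← Finset.add_sum_erase _ _ h.one, h.eps_one, deg_irrOne, hχ, Finset.sum_singleton] at b
  have c1 := charDegree_pos χ.2
  have c2 := charDegree_pos ψ.2
  have c3 := mt (eq_one_of_deg hc) a.1
  have c4 := mt (eq_one_of_deg hc) (h.ne_oneY hψ)
  obtain ⟨l, hl⟩ := h.degX a.2
  refine ⟨_, _, by omega, by omega, ?_, h.dvdX a.2, h.dvdY hψ, ?_⟩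
  · rcases h.sgn χ with e | e <;> rcases h.sgn' with rfl | rfl <;> rw [e] at b <;> omega
  · rcases h.sgn χ with e | e <;> rw [e] at hl
    · exact .inr (Int.natCast_dvd_natCast.1 ⟨l - 1, by rw [Nat.cast_sub c1]; linear_combination hl⟩)
    · exact .inl (Int.natCast_dvd_natCast.1 ⟨l + 1, by push_cast; linear_combination hl⟩)

theorem consec_smooth {a : ℕ} (h : ∀ r, r.Prime → r ∣ a * (a + 1) → r = 2 ∨ r = 3) (h0 : a ≠ 0) : a ≤ 8 := by
  have k : ∀ m, m ≠ 0 → m ∣ a * (a + 1) → (¬ 2 ∣ m → ∃ k, m = 3 ^ k) ∧ (¬ 3 ∣ m → ∃ k, m = 2 ^ k) :=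
    fun m h0 hm => ⟨fun e => ⟨_, Nat.eq_prime_pow_of_unique_prime_dvd h0 fun hr h1 =>
      (h _ hr (h1.trans hm)).resolve_left (by rintro rfl; exact e h1)⟩, fun e => ⟨_,
      Nat.eq_prime_pow_of_unique_prime_dvd h0 fun hr h1 =>
      (h _ hr (h1.trans hm)).resolve_right (by rintro rfl; exact e h1)⟩⟩
  have k1 := k a h0 ⟨_, rfl⟩
  have k2 := k (a + 1) (by omega) (Dvd.intro_left _ rfl)
  have k3 : ∀ {m k : ℕ}, m = 2 ^ k → 8 < m → 16 ∣ m := by
    rintro _ k rfl e
    exact pow_dvd_pow 2 (Nat.succ_le_of_lt ((Nat.pow_lt_pow_iff_right one_lt_two).1 (show 2 ^ 3 < _ from e)))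
  have k4 : ∀ k : ℕ, 3 ^ k % 80 = 1 ∨ 3 ^ k % 80 = 3 ∨ 3 ^ k % 80 = 9 ∨ 3 ^ k % 80 = 27 := fun k => by
    induction k <;> omega
  have k5 : ∀ k : ℕ, 3 ^ k = 1 ∨ 3 ∣ 3 ^ k := fun k => by
    induction k <;> omega
  by_contra! e
  by_cases h2 : 2 ∣ a
  · obtain ⟨i, hi⟩ := k2.1 (by omega)
    have := k4 i
    have := k5 i
    obtain ⟨j, hj⟩ := k1.2 (by omega)
    have := k3 hj e
    have := h 5 Nat.prime_five (Dvd.dvd.mul_right (by omega) _)
    omega
  · obtain ⟨i, hi⟩ := k1.1 h2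
    have := k4 i
    have := k5 i
    obtain ⟨j, hj⟩ := k2.2 (by omega)
    have := k3 hj (by omega)
    omega

theorem card_eq_of_orbits [IsSimpleGroup G] (h1 : Nat.card (Sylow p G) ≠ 1)
    (h : ∀ Q R : Sylow p G, R ≠ Q → (orbit (Q : Subgroup G) R).ncard = p) (P : Sylow p G) :
    Nat.card P = p := by
  by_contra hP
  have : Nontrivial (Sylow p G) := Finite.one_lt_card_iff_nontrivial.1 (by have := Nat.card_pos (α := Sylow p G); omega)
  obtain ⟨R, hR⟩ := exists_ne P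
  obtain ⟨k, hk⟩ := (P.2.to_inf_left (K := R)).exists_card_eq
  obtain ⟨⟨x, hx⟩, b3⟩ := exists_prime_orderOf_dvd_card' (G := (P ⊓ R : Subgroup G)) p
    (hk ▸ dvd_pow_self p fun e => hP (by rw [← ncard_orbit_mul P R, h P R hR, hk, e]; simp))
  rw [orderOf_mk] at b3
  have b1 : x ∈ P := hx.1
  have b2 : x ∈ R := hx.2
  have a1 : ∀ {Q : Sylow p G} {y z : G}, y ∈ Q → z ∈ Q → y * z = z * y := fun {Q y z} hy hz =>
    commutatorElement_eq_one_iff_mul_comm.1 (eq_one_of_fix_sylow rfl h1 fun R => by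
      obtain rfl | e := eq_or_ne R Q
      · exact smul_self_sylow (mul_mem (mul_mem (mul_mem hy hz) (inv_mem hy)) (inv_mem hz))
      · exact comm_fix (h Q R e) hy hz)
  have a0 : IsPGroup p (zpowers x) := IsPGroup.of_card (n := 1) (by simp [b3])
  have a2 : ∀ {Q}, Q ∈ fixedBy (Sylow p G) x → x ∈ Q := fun {Q} e => CfsgL0.le_sylow_of_le_normalizer Q a0
    (zpowers_le.2 (Sylow.smul_eq_iff_mem_normalizer.1 e)) (mem_zpowers x)
  have a3 : ∀ {y : G} {Q}, Commute x y → (y • Q ∈ fixedBy (Sylow p G) x ↔ Q ∈ fixedBy (Sylow p G) x) :=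
    fun h => by rw [mem_fixedBy, smul_smul, h, mul_smul, smul_left_cancel_iff, mem_fixedBy]
  have c4 : ∀ {Q : Sylow p G} {y : G} {ω}, x ∈ Q → y ∈ Q → ω ∉ fixedBy (Sylow p G) x →
      ∃ d ∈ zpowers x, d • ω = y • ω := fun {Q y ω} hx hy hω => by
    obtain ⟨d, hd⟩ := (Set.eq_of_subset_of_ncard_le (s := orbit (zpowers x) ω) (t := orbit (Q : Subgroup G) ω)
      (by rintro _ ⟨d, rfl⟩; exact ⟨⟨d, zpowers_le.2 hx d.2⟩, rfl⟩) (by
        obtain ⟨k, hk⟩ := a0.card_orbit ω
        rw [h Q ω (by rintro rfl; exact hω (smul_self_sylow hx)), ← Nat.card_coe_set_eq, hk]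
        refine Nat.le_self_pow (fun e => hω ?_) p
        exact (Nat.card_eq_one_iff_unique.1 (by simpa [e] using hk)).1.elim
          (⟨_, ⟨x, mem_zpowers x⟩, rfl⟩ : orbit (zpowers x) ω) ⟨_, mem_orbit_self ω⟩ |> Subtype.ext_iff.1)).ge
          ⟨⟨y, hy⟩, rfl⟩
    exact ⟨d, d.2, hd⟩
  have c5 : ∀ {Q Q' : Sylow p G} {y z : G} {ω}, x ∈ Q → x ∈ Q' → y ∈ Q → z ∈ Q' →
      ω ∉ fixedBy (Sylow p G) x → ⁅z, y⁆ • ω = ω := fun b1 b2 hy hz hω => by
    have c5 := fun e => hω ((a3 (Commute.inv_right (a1 b1 hy))).1 ((a3 (Commute.inv_right (a1 b2 hz))).1 e))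
    obtain ⟨d, d1, d2⟩ := c4 b1 hy c5
    obtain ⟨e, e1, e2⟩ := c4 b2 hz c5
    rw [commutatorElement_def, mul_smul, mul_smul, mul_smul, ← d2, smul_smul, a1 hz (zpowers_le.2 b2 d1),
      mul_smul, ← e2, smul_smul, a1 (zpowers_le.2 b1 d1) (zpowers_le.2 b1 e1), mul_smul, d2, smul_smul,
      a1 (zpowers_le.2 b1 e1) hy, mul_smul, e2, smul_inv_smul, smul_inv_smul]
  obtain ⟨ω, hω⟩ : ∃ ω, ω ∉ fixedBy (Sylow p G) x := by
    by_contra! e
    exact hp.out.one_lt.ne' (by rw [← b3, eq_one_of_fix_sylow rfl h1 e, orderOf_one])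
  have c6 := CfsgH8.ncard_modEq_fixed hp.out (ω : Subgroup G) ω.2 (fixedBy (Sylow p G) x) fun g hg β hβ => by
    by_contra e
    obtain ⟨β', d1, d2⟩ : ∃ β', x ∈ β' ∧ β' ≠ β := by
      obtain rfl | e := eq_or_ne P β
      exacts [⟨R, b2, hR⟩, ⟨P, b1, e⟩]
    have d3 : ∀ k : G, (∀ ω ∉ fixedBy (Sylow p G) x, k • ω = ω) → k • β ∈ orbit (ω : Subgroup G) β := fun k hk =>
      ⟨⟨k * g⁻¹ * k⁻¹ * g, mul_mem ((mem_normalizer_iff.1 (Sylow.smul_eq_iff_mem_normalizer.1 (hk ω hω)) _).1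
        (inv_mem hg)) hg⟩, by
          show (k * g⁻¹ * k⁻¹ * g) • β = _
          rw [mul_smul, mul_smul, inv_smul_eq_iff.2 (hk _ e).symm, mul_smul, inv_smul_smul]⟩
    obtain ⟨z, hz, y, hy, d4⟩ : ∃ z ∈ β', ∃ y ∈ β, ⁅z, y⁆ • β ≠ β := by
      by_contra! d4
      refine d2 (eq_of_fix_sylow fun z hz => inv_smul_eq_iff.1 (eq_of_fix_sylow fun y hy => ?_) |>.symm).symm
      have := d4 z hz y hy
      rwa [commutatorElement_def, mul_smul, smul_self_sylow (inv_mem hy), mul_smul, mul_smul,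
        smul_eq_iff_eq_inv_smul] at this
    have d5 := Set.ncard_lt_ncard (s := orbit (β : Subgroup G) (⁅z, y⁆ • β)) (t := orbit (ω : Subgroup G) β) ⟨by
      rintro _ ⟨t, rfl⟩
      have := d3 (t.1 * ⁅z, y⁆ * t.1⁻¹) fun ω hω => by
        rw [mul_smul, mul_smul, c5 (a2 hβ) d1 hy hz fun e => hω ((a3 (Commute.inv_right (a1 (a2 hβ) t.2))).1 e),
          smul_inv_smul]
      rwa [mul_smul, smul_self_sylow (inv_mem t.2), mul_smul] at this, fun e => d4 (by
        obtain ⟨t, ht⟩ := e (mem_orbit_self β)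
        exact ((smul_eq_iff_eq_inv_smul _).1 ht).trans (smul_self_sylow t⁻¹.2))⟩
    rw [h _ _ d4, h _ _ (by rintro rfl; exact hω hβ)] at d5
    exact d5.false
  rw [Set.eq_empty_of_forall_notMem (s := _ ∩ fixedPoints (ω : Subgroup G) _) fun β hβ => hω
    (eq_of_fix_sylow (fun y hy => hβ.2 ⟨y, hy⟩) ▸ hβ.1)] at c6
  simpa [Nat.ModEq, ncard_fixedBy_sylow b3] using c6

theorem card_sylow_ne_22 (G : Type*) [Group G] [Finite G] [Fact (Nat.Prime 3)] :
    Nat.card (Sylow 3 G) ≠ 22 := fun h => by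
  have h3 : ∀ d, d ∣ 22 → d % 3 = 1 → d = 1 ∨ d = 22 := fun d h1 h2 => by
    have := Nat.le_of_dvd (by omega) h1
    interval_cases d <;> omega
  obtain ⟨S, _, _, _, h⟩ := exists_simple_sylow h (by omega) (not_isPrimePow_of Nat.prime_two
    Nat.prime_eleven (by omega) (by omega) (by omega)) h3
  replace h := h.symm
  obtain ⟨P⟩ : Nonempty (Sylow 3 S) := inferInstance
  have hc := commutator_eq_top_of_sylow h (by omega)
  have a0 : ∀ {x : S}, (orderOf x).Prime → orderOf x + 3 ≤ 22 → _ := two_mul_le_moved h h3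
    (fun k e => absurd (Nat.prime_seven.dvd_of_dvd_pow (n := k) (m := 3) ⟨3, by omega⟩) (by omega)) (by omega)
  have hP : Nat.card P ≠ 3 := fun h1 => by
    obtain ⟨u, a1, a2, -⟩ := exists_gen_sylow P h1
    obtain ⟨M, hM⟩ := exists_pmod 3
    obtain ⟨e, X, y, ε, δ, a⟩ := exists_pb (M := M) a1 a2
    obtain rfl : e = 2 := by
      have := a.ne_of_perfect hc
      have := a.cardY
      have : e ≤ 2 := Nat.le_of_dvd (by omega) ⟨(exc y).card, by omega⟩
      interval_cases e <;> omega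
    obtain ⟨b, c, b1, b2, b3, b4, b5, -⟩ := a.two hc
    rw [← a.card_syl, h] at b4 b5
    have := Nat.le_of_dvd (by omega) b4
    rcases b3 with rfl | rfl
    · have : c ≤ 44 := by omega
      interval_cases c <;> omega
    · interval_cases b <;> omega
  have a1 : ∀ R, R ≠ P → (orbit (P : Subgroup S) R).ncard = 3 ∨ (orbit (P : Subgroup S) R).ncard = 9 :=
    fun R hR => by
    obtain ⟨k, hk⟩ := P.2.card_orbit R
    rw [Nat.card_coe_set_eq] at hk
    have := Set.ncard_le_card (orbit (P : Subgroup S) R)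
    have : k < 3 := (Nat.pow_lt_pow_iff_right (a := 3) (by omega)).1 (by omega)
    have : 1 < (orbit (P : Subgroup S) R).ncard := by
      by_contra! e
      exact hR (eq_of_fix_sylow fun y hy =>
        (Set.ncard_le_one (Set.toFinite _)).1 e _ ⟨⟨y, hy⟩, rfl⟩ _ (mem_orbit_self R))
    interval_cases k <;> omega
  set D := {R : Sylow 3 S | (orbit (P : Subgroup S) R).ncard = 3} with hD
  have a2 : ∀ g ∈ N[(P : Subgroup S)], ∀ R ∈ D, g • R ∈ D := fun g hg R hR => by
    have := ncard_orbit_smul g P R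
    rw [Sylow.smul_eq_iff_mem_normalizer.2 hg] at this
    exact this.trans hR
  have a3 : ∀ {R R' : Sylow 3 S}, R' ∈ orbit (P : Subgroup S) R →
      (orbit (P : Subgroup S) R').ncard = (orbit (P : Subgroup S) R).ncard := fun h => by rw [orbit_eq_iff.2 h]
  have a4 : (orbit (P : Subgroup S) P).ncard = 1 := Set.ncard_eq_one.2 ⟨P, Set.eq_singleton_iff_unique_mem.2
    ⟨mem_orbit_self P, by rintro _ ⟨y, rfl⟩; exact smul_self_sylow y.2⟩⟩
  by_cases h1 : ∀ R, R ≠ P → R ∈ D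
  · refine hP (card_eq_of_orbits (by omega) (fun Q R hR => ?_) P)
    obtain ⟨g, rfl⟩ := exists_smul_eq S P Q
    rw [← smul_inv_smul g R, ncard_orbit_smul]
    exact h1 _ fun e => hR (inv_smul_eq_iff.1 e)
  push Not at h1
  obtain ⟨R₁, b1, b2⟩ := h1
  have b3 := (a1 R₁ b1).resolve_left b2
  have b4 : P ∉ orbit (P : Subgroup S) R₁ := fun e => by have := a3 e; omega
  by_cases h2 : ∀ R, R ∉ D → R ∈ insert P (orbit (P : Subgroup S) R₁)
  swap
  · push Not at h2
    obtain ⟨R₂, c1, c2⟩ := h2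
    have c3 := (a1 R₂ fun e => c2 (.inl e)).resolve_left c1
    have c4 : Disjoint (insert P (orbit (P : Subgroup S) R₁)) (orbit (P : Subgroup S) R₂) := by
      refine Set.disjoint_left.2 ?_
      rintro _ (rfl | e) e'
      · have := a3 e'; omega
      · exact c2 (.inr (orbit_eq_iff.2 e ▸ mem_orbit_symm.1 e'))
    have c5 := Set.ncard_add_ncard_compl (insert P (orbit (P : Subgroup S) R₁) ∪ orbit (P : Subgroup S) R₂)
    rw [Set.ncard_union_eq c4, Set.ncard_insert_of_notMem b4] at c5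
    obtain ⟨R, hR⟩ := Set.nonempty_of_ncard_ne_zero
      (s := (insert P (orbit (P : Subgroup S) R₁) ∪ orbit (P : Subgroup S) R₂)ᶜ) (by omega)
    have c6 : orbit (P : Subgroup S) R ⊆ (insert P (orbit (P : Subgroup S) R₁) ∪ orbit (P : Subgroup S) R₂)ᶜ := by
      rintro R' e ((rfl | e') | e')
      · exact hR (.inl (.inl (by obtain ⟨y, hy⟩ := mem_orbit_symm.1 e; exact hy.symm.trans (smul_self_sylow y.2))))
      · exact hR (.inl (.inr (orbit_eq_iff.2 e' ▸ mem_orbit_symm.1 e)))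
      · exact hR (.inr (orbit_eq_iff.2 e' ▸ mem_orbit_symm.1 e))
    have c7 := Set.ncard_le_ncard c6
    have c8 : R ≠ P := fun e => hR (.inl (.inl e))
    have c9 : R ∈ D := (a1 R c8).resolve_right (by omega)
    have d1 : D ⊆ orbit (P : Subgroup S) R := Set.eq_of_subset_of_ncard_le c6 (by rw [c9]; omega) ▸ fun Q hQ => by
      rintro ((rfl | e') | e')
      · exact absurd (a4.symm.trans hQ) (by omega)
      · exact absurd ((a3 e').symm.trans hQ) (by omega)
      · exact absurd ((a3 e').symm.trans hQ) (by omega)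
    have d2 : N[(P : Subgroup S)] < N[(P ⊓ R : Subgroup S)] := by
      refine ⟨fun g hg => CfsgH1.mem_normalizer_of_conj_mem fun d hd => ?_, fun e => c8.symm ?_⟩
      · have a := (mem_normalizer_iff.1 hg d).1 hd.1
        obtain ⟨y, hy⟩ := d1 (a2 _ (inv_mem hg) R c9)
        refine ⟨a, mem_of_smul_sylow a ?_⟩
        have := (stab_normal c9).1 ⟨d, hd.1⟩ (smul_self_sylow hd.2) y⁻¹
        rw [mul_smul, mul_smul, smul_eq_iff_eq_inv_smul, ← hy]
        simpa [mul_smul, inv_smul_eq_iff] using this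
      · exact eq_of_fix_sylow fun y hy => Sylow.smul_eq_iff_mem_normalizer.2
          (e (inf_comm (P : Subgroup S) R ▸ le_norm_inf_sylow ((ncard_orbit_symm R P).trans c9) hy))
    have d3 := ncard_orbit_mul P R
    rcases (normalizer_eq_top_iff.1 ((isCoatom_norm_sylow h (by omega) h3 P).2 _ d2)).eq_bot_or_eq_top with e | e
    · exact hP (by rw [← d3, e, c9, card_bot])
    · exact d2.ne (by rw [e, eq_top_iff.2 (e.ge.trans inf_le_left)])
  have c1 : D.ncard = 12 := by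
    have := Set.ncard_add_ncard_compl D
    rw [show Dᶜ = insert P (orbit (P : Subgroup S) R₁) from Set.ext fun R => ⟨h2 R, by
      rintro (rfl | e) e'
      · exact absurd (a4.symm.trans e') (by omega)
      · exact absurd ((a3 e).symm.trans e') (by omega)⟩, Set.ncard_insert_of_notMem b4] at this
    omega
  have c2 : ∀ r, r.Prime → r ∣ Nat.card N[(P : Subgroup S)] → r = 2 ∨ r = 3 := fun r hr e => by
    by_contra! e'
    have := Fact.mk hr
    have d0 := hr.five_le_of_ne_two_of_ne_three e'.1 e'.2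
    obtain ⟨⟨y, hy⟩, d1⟩ := exists_prime_orderOf_dvd_card' r e
    rw [orderOf_mk] at d1
    have d2 : IsPGroup r (zpowers y) := IsPGroup.of_card (n := 1) (by simp [d1])
    have d3 : fixedPoints (zpowers y) (Sylow 3 S) = fixedBy (Sylow 3 S) y := by
      exact Set.ext fun Q => ⟨fun h => h ⟨y, mem_zpowers y⟩, fun h g =>
        zpowers_le.2 (show y ∈ stabilizer S Q from h) g.2⟩
    have d4 := CfsgH8.ncard_modEq_fixed hr _ d2 D fun g hg => a2 g (zpowers_le.2 hy hg)
    have d5 := CfsgH8.ncard_modEq_fixed hr _ d2 (Set.univ : Set (Sylow 3 S)) fun _ _ _ _ => trivial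
    have d6 := CfsgH8.ncard_modEq_fixed Nat.prime_three _ P.2 (D ∩ fixedBy (Sylow 3 S) y) fun g hg R hR =>
      ⟨a2 g (le_normalizer hg) R hR.1, by
        have := CfsgH8.ncard_modEq_fixed hr _ d2 (orbit (P : Subgroup S) R) (by
          rintro k hk _ ⟨t, rfl⟩
          exact ⟨⟨_, (mem_normalizer_iff.1 (zpowers_le.2 hy hk) t).1 t.2⟩, by
            have : k⁻¹ • R = R := (d3.ge hR.2) ⟨k⁻¹, inv_mem hk⟩
            simp [Subgroup.smul_def, mul_smul, this]⟩)
        have e1 := Set.ncard_le_ncard (Set.inter_subset_left (s := orbit (P : Subgroup S) R)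
          (t := fixedPoints (zpowers y) (Sylow 3 S)))
        have e2 : (orbit (P : Subgroup S) R).ncard = 3 := hR.1
        exact d3.le ((Set.eq_of_subset_of_ncard_le Set.inter_subset_left (this.eq_of_lt_of_lt
          (by omega) (by omega)).le).ge ⟨⟨g, hg⟩, rfl⟩).2⟩
    rw [Set.eq_empty_of_forall_notMem (s := _ ∩ fixedPoints (P : Subgroup S) _) fun β hβ => absurd
      (a4.symm.trans (eq_of_fix_sylow (fun y hy => hβ.2 ⟨y, hy⟩) ▸ hβ.1.1)) (by omega), Set.ncard_empty] at d6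
    rw [d3, c1] at d4
    rw [Set.univ_inter, d3, Set.ncard_univ, h] at d5
    have d7 := Set.ncard_le_ncard (Set.inter_subset_left (s := D) (t := fixedBy (Sylow 3 S) y))
    have d8 := Set.ncard_lt_ncard (s := D ∩ fixedBy (Sylow 3 S) y) ⟨Set.inter_subset_right, fun e =>
      absurd (a4.symm.trans (e (Sylow.smul_eq_iff_mem_normalizer.2 hy)).1) (by omega)⟩
    have d10 : (fixedBy (Sylow 3 S) y).ncard < 22 := by
      rw [← h, ← Set.ncard_univ]
      exact Set.ncard_lt_ncard ⟨Set.subset_univ _, fun e => hr.one_lt.ne' (by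
        rw [← d1, eq_one_of_fix_sylow h (by omega) fun Q => e (Set.mem_univ Q), orderOf_one])⟩
    have d11 := Nat.le_of_dvd (by omega) ((Nat.modEq_iff_dvd' d10.le).1 d5.symm)
    have d12 := fun e => d1 ▸ a0 (d1 ▸ hr) e
    unfold Nat.ModEq at d4 d5 d6
    have : r ≤ 21 := by omega
    interval_cases r <;> first | omega | exact absurd hr (by decide)
  have c3 := (N[(P : Subgroup S)]).index_mul_card
  rw [P.coe_coe, ← P.card_eq_index_normalizer, h] at c3
  have := Fact.mk Nat.prime_eleven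
  obtain ⟨u, hu⟩ := exists_prime_orderOf_dvd_card' (G := S) 11 (by omega)
  have c4 : (zpowers u).index = 2 * Nat.card N[(P : Subgroup S)] := by
    have := (zpowers u).index_mul_card
    rw [Nat.card_zpowers, hu] at this
    rw [P.coe_coe]
    omega
  have c5 : ∀ r, r.Prime → r ∣ (zpowers u).index → r = 2 ∨ r = 3 := fun r hr e =>
    (hr.dvd_mul.1 (c4 ▸ e)).elim (fun e => .inl ((Nat.prime_dvd_prime_iff_eq hr Nat.prime_two).1 e)) (c2 r hr)
  obtain ⟨M, hM⟩ := exists_pmod 11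
  obtain ⟨e, X, y, ε, δ, a⟩ := exists_pb (M := M) hu fun e => by have := c5 _ Nat.prime_eleven e; omega
  have c6 : e * (N[zpowers u]).index ∣ (zpowers u).index := a.index_C ▸ index_dvd_of_le
    (le_centralizer_iff_isMulCommutative.2 inferInstance)
  obtain rfl : e = 2 := by
    have := a.ne_of_perfect hc
    have := a.cardY
    have : e ≤ 10 := Nat.le_of_dvd (by omega) ⟨(exc y).card, by omega⟩
    have : ¬ 5 ∣ e := fun e => by have := c5 _ Nat.prime_five ((e.mul_right _).trans c6); omega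
    interval_cases e <;> omega
  obtain ⟨b, c, b1, b2, b3, b4, b5, b6⟩ := a.two hc
  have c7 : ∀ r, r.Prime → r ∣ b * c → r = 2 ∨ r = 3 := fun r hr e =>
    c5 r hr (((hr.dvd_mul.1 e).elim (·.trans b4) (·.trans b5)).trans c6)
  rcases b3 with rfl | rfl
  · have := consec_smooth (mul_comm c _ ▸ c7) (by omega)
    omega
  · have := consec_smooth c7 (by omega)
    omega

end CfsgH4
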