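import Cfsg.Agent.H9.Tb6

/-! `p`-length one for groups whose Sylow subgroup looks like the normal Sylow subgroup of a Schmidt group. -/

set_option autoImplicit false
open Subgroup Cfsg CfsgH2 Function CfsgCP CfsgTB
open scoped commutatorElement

namespace CfsgH4.Sch

universe u
variable {G : Type u} [Group G] {p : ℕ}

/-- The properties of the normal Sylow subgroup of a Schmidt group that are used. -/
def Gd (p : ℕ) (S : Subgroup G) : Prop :=
  (∀ y ∈ S, y ^ p ∈ C[S]) ∧ ⁅S, S⁆ ≤ C[S] ∧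
  (∀ B ≤ S, ∀ a ∈ S, ∀ u ∈ S, B ⊔ zpowers a = S → B ≤ C1[u] → a ∉ C1[u] → o[Z[S]] = p) ∧
  (p ≤ 3 → o[Z[S]] = p → ∀ V ≤ S, ∀ a ∈ S, V ⊔ zpowers a = S → Z[S] ≤ V →
    IsElementaryAbelian p V → V ≤ C1[a])

theorem gd_map {G' : Type*} [Group G'] {f : G →* G'} (hf : Injective f) {S : Subgroup G} :
    Gd p (S.map f) ↔ Gd p S := by
  have hz : Z[S.map f] = Z[S].map f := inj_inf_cent hf S S
  have hc : o[Z[S.map f]] = o[Z[S]] := by rw [hz, card_map_of_injective hf]
  constructor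
  · rintro ⟨h1, h2, h3, h4⟩
    refine ⟨fun y hy => ?_, ?_, fun B hB a ha u hu e1 e2 e3 => ?_, fun hp hZ V hV a ha e1 e2 e3 => ?_⟩
    · rw [← inj_mem_cent hf, map_pow]; exact h1 _ (mem_map_of_mem f hy)
    · rw [← inj_le_cent hf, map_commutator]; exact h2
    · rw [← hc]
      exact h3 _ (map_mono hB) _ (mem_map_of_mem f ha) _ (mem_map_of_mem f hu)
        (by rw [← MonoidHom.map_zpowers, ← Subgroup.map_sup, e1]) ((inj_le_cent1 hf).2 e2)
        fun h => e3 ((inj_mem_cent1 hf).1 h)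
    · rw [← inj_le_cent1 hf]
      exact h4 hp (hc.trans hZ) _ (map_mono hV) _ (mem_map_of_mem f ha)
        (by rw [← MonoidHom.map_zpowers, ← Subgroup.map_sup, e1]) (hz ▸ map_mono e2) (elem_map f e3)
  · rintro ⟨h1, h2, h3, h4⟩
    refine ⟨?_, ?_, fun B hB => ?_, fun hp hZ V hV => ?_⟩
    · rintro _ ⟨y, hy, rfl⟩
      rw [← map_pow, inj_mem_cent hf]; exact h1 y hy
    · rw [← map_commutator, inj_le_cent hf]; exact h2
    · obtain ⟨B, hB', rfl⟩ := exists_map_eq_le hB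
      rintro _ ⟨a, ha, rfl⟩ _ ⟨u, hu, rfl⟩ e1 e2 e3
      rw [hc]
      refine h3 B hB' a ha u hu ?_ ((inj_le_cent1 hf).1 e2) fun h => e3 ((inj_mem_cent1 hf).2 h)
      apply map_injective hf
      rw [Subgroup.map_sup, MonoidHom.map_zpowers, e1]
    · obtain ⟨V, hV', rfl⟩ := exists_map_eq_le hV
      rintro _ ⟨a, ha, rfl⟩ e1 e2 e3
      rw [inj_le_cent1 hf]
      refine h4 hp (hc.symm.trans hZ) V hV' a ha ?_ ?_ ((inj_elem hf).1 e3)
      · apply map_injective hf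
        rw [Subgroup.map_sup, MonoidHom.map_zpowers, e1]
      · rw [hz] at e2
        exact (map_le_map_iff_of_injective hf).1 e2

/-- The stabiliser of the chain `V ≥ Z ≥ 1`. -/
def stab (V : Set G) (Z : Subgroup G) : Subgroup G where
  carrier := {g | g ∈ C[Z] ∧ ∀ v ∈ V, ⁅v, g⁆ ∈ Z}
  one_mem' := ⟨one_mem _, fun v _ => by simp⟩
  mul_mem' := by
    rintro g h ⟨g1, g2⟩ ⟨h1, h2⟩
    refine ⟨mul_mem g1 h1, fun v hv => ?_⟩
    have : ⁅v, g * h⁆ = ⁅v, g⁆ * (g * ⁅v, h⁆ * g⁻¹) := by simp only [commutatorElement_def]; group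
    rw [this]
    exact mul_mem (g2 v hv) (CfsgH2.conj_mem_of_norm (cent_le_norm _ g1) (h2 v hv))
  inv_mem' := by
    rintro g ⟨g1, g2⟩
    refine ⟨inv_mem g1, fun v hv => ?_⟩
    have : ⁅v, g⁻¹⁆ = g⁻¹ * ⁅v, g⁆⁻¹ * g := by simp only [commutatorElement_def]; group
    rw [this]
    exact CfsgH2.conj_mem_of_norm' (cent_le_norm _ g1) (inv_mem (g2 v hv))

theorem norm_stab [Finite G] {V Z L : Subgroup G} (h1 : L ≤ N[V]) (h2 : L ≤ N[Z]) : L ≤ N[stab (V : Set G) Z] := by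
  intro l hl
  refine mem_norm_of_conj ?_
  rintro g ⟨g1, g2⟩
  refine ⟨CfsgH2.conj_mem_of_norm (le_norm_cent h2 hl) g1, fun v hv => ?_⟩
  have : ⁅v, l * g * l⁻¹⁆ = l * ⁅l⁻¹ * v * l, g⁆ * l⁻¹ := by simp only [commutatorElement_def]; group
  rw [this]
  exact CfsgH2.conj_mem_of_norm (h2 hl) (g2 _ (CfsgH2.conj_mem_of_norm' (h1 hl) hv))

theorem le_three [Finite G] [hp : Fact p.Prime] {V : Subgroup G} [V.Normal] (h : BC p V) {a : G}
    (h1 : a ∉ V) (h2 : a ^ p ∈ V) (h3 : ∀ v ∈ V, ⁅a, v⁆ ∈ C1[a]) : p ≤ 3 := by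
  obtain ⟨W, _, _, _, ρ, e, r1, r2, r3, r4⟩ := h.rep
  obtain ⟨q, _, Q, -, -, -, t⟩ := thmB (x := (a : G ⧸ V)) (r := 2) r1
    (CfsgH1.IsPSolvable.quotient' h.sol V) h.core (order_mk h1 h2) (LinearMap.ext fun w => by
      have k : ∀ w, e (.ofAdd ((ρ a - 1 : Module.End (ZMod p) W) w)) = ⁅a, e (.ofAdd w)⁆ := fun w => by
        rw [LinearMap.sub_apply, ofAdd_sub, map_div, r4, commutatorElement_def, div_eq_mul_inv]; rfl
      have : e (.ofAdd ((((ρ a - 1) ^ 2 : Module.End (ZMod p) W)) w)) = e 1 := by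
        rw [sq, Module.End.mul_apply, k, k, map_one, commutatorElement_eq_one_iff_mul_comm]
        exact (mem_centralizer_singleton_iff.1 (h3 _ (r3.le ⟨_, rfl⟩))).symm
      exact r2 this)
  rcases t with t | ⟨j, a, m, -, -, -, t⟩
  · simp at t; omega
  · obtain rfl : j = 0 := by omega
    simp at t; omega

theorem main [Finite G] [hp : Fact p.Prime] (hG : IsPSolvable p G) (h0 : pPrimeCore p G = ⊥)
    {S : Subgroup G} (hS : Syl p S ⊤) (h : Gd p S) : S ≤ pCore p G := by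
  by_contra hn
  have c := CfsgH1.centralizer_pCore_le hG h0
  have pV : PG[p, pCore p G] := isPGroup_pCore
  have hq := CfsgH1.pCore_quotient_pCore (G := G) p
  set V := pCore p G with eV
  have VS : V ≤ S := hS.le_of_norm pV le_top le_normalizer_of_normal
  let f := QuotientGroup.mk' V
  have ZV : Z[S] ≤ V := inf_le_right.trans ((cent_anti VS).trans c)
  have dZ : ⁅S, S⁆ ≤ Z[S] := le_inf commutator_self_le h.2.1
  have ab : Ab[S.map f] := comm_self_eq_bot_iff.1 (by rw [← map_commutator, mk_bot]; exact dZ.trans ZV)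
  have cop := coprime_of_pgroup (hS.pg.map f) (CfsgH1.not_dvd_card_pPrimeCore (G := G ⧸ V) p)
  have sol := isSolvable_of_pgroup (hS.pg.map f)
  have nK : ¬ pPrimeCore p (G ⧸ V) ≤ C[S.map f] := fun a => by
    have := CfsgH1.centralizer_piCore_le (π := {p}ᶜ) (G := G ⧸ V) (by
      rw [compl_compl, Set.pair_comm]
      exact (CfsgH1.isPSolvable_iff hp.out).1 (CfsgH1.IsPSolvable.quotient' hG V))
      (by rw [compl_compl, ← hq, pCore_eq])
    rw [← pPrimeCore_eq] at this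
    refine hn (mk_bot.1 ?_)
    rw [← CfsgH1.inf_eq_bot_of_coprime cop]
    exact (inf_of_le_left ((le_centralizer_iff.1 a).trans this)).symm
  set K := pPrimeCore p (G ⧸ V) with eK
  obtain ⟨Bb, hB, ⟨_, ⟨a, aS, rfl⟩, e⟩, hK⟩ : ∃ Bb ≤ S.map f, (∃ a ∈ S.map f, Bb ⊔ zpowers a = S.map f) ∧
      ¬ K ⊓ C[Bb] ≤ C[S.map f] := by
    by_contra! z
    exact nK (le_of_cocyclic ab le_normalizer_of_normal cop z)
  have sf : Surjective f := QuotientGroup.mk'_surjective V
  have cS : (S.map f).comap f = S := by rw [comap_map_mk, sup_of_le_left VS]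
  set B := Bb.comap f with eB
  have VB : V ≤ B := le_comap_mk V Bb
  have BS : B ≤ S := cS ▸ comap_mono hB
  have mB : B.map f = Bb := map_comap_mk V Bb
  have e1 : B ⊔ zpowers a = S := by
    rw [← cS, ← e, ← mB, ← MonoidHom.map_zpowers, ← Subgroup.map_sup, comap_map_mk,
      sup_of_le_left (VB.trans le_sup_left)]
  have nKb : S.map f ≤ N[K ⊓ C[Bb]] := le_norm_inf le_normalizer_of_normal
    (le_norm_cent (le_norm_of_le_cent (le_cent_of_comm ab hB)))
  have cop2 : o[S.map f].Coprime o[K ⊓ C[Bb]] := cop.coprime_dvd_right (card_dvd_of_le inf_le_left)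
  have l1 : ⁅K ⊓ C[Bb], S.map f⁆ ≤ K ⊓ C[Bb] := comm_le_left nKb
  have l2 := coprime_comm_comm nKb cop2 (.inl sol)
  have l3 : ⁅K ⊓ C[Bb], S.map f⁆ ≠ ⊥ := fun z => hK (comm_eq_bot_iff.1 z)
  generalize ⁅K ⊓ C[Bb], S.map f⁆ = Lb at l1 l2 l3
  set L := Lb.comap f with eL
  have VL : V ≤ L := le_comap_mk V Lb
  have mL : L.map f = Lb := map_comap_mk V Lb
  have e2 : ⁅L, S⁆ ⊔ V = L := by
    rw [← comap_map_mk, map_commutator, mL, l2]
  have c0 : ∀ D : Subgroup G, S ≤ D → L ≤ N[D] → L ≤ D := fun D d1 d2 =>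
    e2.ge.trans (sup_le ((commutator_mono le_rfl d1).trans (comm_le_right d2)) (VS.trans d1))
  have c1 : ∀ W : Subgroup G, W ≤ C[S] → L ≤ N[W] → L ≤ C[W] := fun W w1 w2 =>
    c0 _ (le_centralizer_iff.1 w1) (le_norm_cent w2)
  have r : ¬ p ∣ V.relIndex L := by
    rw [← card_map_mk, mL]
    exact fun z => CfsgH1.not_dvd_card_pPrimeCore p (z.trans (card_dvd_of_le (l1.trans inf_le_left)))
  obtain ⟨T, t1, t2, t3, t4⟩ := exists_compl VL le_normalizer_of_normal (coprime_of_pgroup pV r)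
  have cT : o[T].Coprime o[V] := t4 ▸ (coprime_of_pgroup pV r).symm
  have sV := isSolvable_of_pgroup pV
  have c2 : ¬ L ≤ C[Z[S]] := fun z => by
    have : L ≤ stab (V : Set G) Z[S] := c0 _ (fun s hs => ⟨le_cent_center hs, fun v hv =>
      dZ (commutator_mem_commutator (VS hv) hs)⟩) (norm_stab le_normalizer_of_normal (le_norm_of_le_cent z))
    have k : T ≤ C[V] := coprime_le_cent_of_stable le_normalizer_of_normal cT (.inr sV)
      (commutator_le.2 fun v hv t ht => (this (t1 ht)).2 v hv) (t1.trans z)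
    refine l3 ?_
    rw [← mL, mk_bot, ← t2]
    exact sup_le le_rfl (k.trans c)
  have LB : L ≤ N[B] := le_norm_comap f (by rw [mL]; exact le_norm_of_le_cent (l1.trans inf_le_right))
  have nY : L ≤ N[Z[V]] := le_normalizer_of_normal.trans norm_le_norm_center
  have YS : Z[V] ≤ S := inf_le_left.trans VS
  have s1 : ⁅⁅L, Z[V]⁆, B⁆ = ⊥ := by
    refine commutator_commutator_eq_bot_of_rotate ?_ ?_
    · rw [commutator_comm, comm_eq_bot_iff]
      exact c1 _ ((commutator_mono YS BS).trans h.2.1) (le_norm_commutator nY LB)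
    · rw [comm_eq_bot_iff]
      refine le_trans ?_ le_cent_center
      rw [← mk_bot, map_commutator, mB, mL, commutator_comm, comm_eq_bot_iff]
      exact l1.trans inf_le_right
  rw [comm_eq_bot_iff] at s1
  have y1 : ⁅L, Z[V]⁆ ≤ Z[V] := comm_le_right nY
  obtain ⟨u, u1, u2⟩ : ∃ u ∈ ⁅L, Z[V]⁆, a ∉ C1[u] := by
    by_contra! z
    have k : ⁅L, Z[V]⁆ ≤ C[S] := by
      rw [← e1, cent_sup, cent_zpowers]
      exact le_inf s1 fun u hu => mem_centralizer_singleton_iff.2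
        (mem_centralizer_singleton_iff.1 (z u hu)).symm
    have k1 := c1 _ k le_norm_comm_left
    have k2 : T ≤ C[Z[V]] := coprime_le_cent (t1.trans nY) (cT.coprime_dvd_right (card_dvd_of_le inf_le_left))
      (.inr (isSolvable_of_le sV inf_le_left)) (by
        rw [commutator_comm]
        exact (commutator_mono t1 le_rfl).trans (le_centralizer_iff.1 (t1.trans k1)))
    refine c2 (t2.ge.trans ((sup_le le_cent_center k2).trans (cent_anti ?_)))
    exact le_inf ZV (inf_le_right.trans (cent_anti VS))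
  have hZ : o[Z[S]] = p := h.2.2.1 B BS a aS u (YS (y1 u1)) e1 (le_cent1_iff.2 (s1 u1)) u2
  have c3 : ∀ W : Subgroup G, W ≤ Z[S] → L ≤ N[W] → W = ⊥ := fun W w1 w2 =>
    (CfsgH1.eq_bot_or_eq_of_card_prime (hZ ▸ hp.out) w1).resolve_right fun z =>
      c2 (z ▸ c1 W (w1.trans inf_le_right) w2)
  have s2 : V ≤ C[B] := comm_eq_bot_iff.1 (c3 _ ((commutator_mono VS BS).trans dZ)
    (le_norm_commutator le_normalizer_of_normal LB))
  have BV : B = V := le_antisymm ((le_centralizer_iff.1 s2).trans c) VB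
  rw [BV] at s2 e1
  have el : IsElementaryAbelian p V := ⟨isMulComm_of_le_cent s2, fun v hv => by
    have := c3 (closure ((· ^ p) '' V)) ((closure_le _).2 (by
      rintro _ ⟨y, hy, rfl⟩
      exact ⟨pow_mem (VS hy) _, h.1 y (VS hy)⟩)) fun l _ => mem_norm_of_map_le (by
        rw [MonoidHom.map_closure]
        refine closure_mono ?_
        rintro _ ⟨_, ⟨y, hy, rfl⟩, rfl⟩
        exact ⟨cj l y, Normal.conj_mem inferInstance y hy l, (map_pow _ _ _).symm⟩)
    exact mem_bot.1 (this ▸ subset_closure ⟨v, hv, rfl⟩)⟩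
  have aV : a ∉ V := fun z => hn (e1.ge.trans (sup_le le_rfl (zpowers_le.2 z)))
  have p3 := le_three ⟨hG, el, c, hq⟩ aV (ZV ⟨pow_mem aS _, h.1 a aS⟩) fun v hv =>
    cent_le_cent1 aS (h.2.1 (commutator_mem_commutator aS (VS hv)))
  exact aV (c (le_cent1_iff.1 (h.2.2.2 p3 hZ V VS a aS e1 ZV el)))

end CfsgH4.Sch
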