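import Cfsg.Agent.H4.Sch1
import Cfsg.Agent.H1.Schmidt
import Cfsg.Agent.H1.HH
import Cfsg.Agent.H2.Trans

/-! The normal Sylow subgroup of a Schmidt group. -/

set_option autoImplicit false
open Subgroup Cfsg CfsgH2 Function
open scoped commutatorElement

namespace CfsgH4.Sch

universe u
variable {G : Type u} [Group G] {p r : ℕ} {P H K V : Subgroup G} {x : G}

theorem gd_of_ab (h : Ab[P]) : Gd p P :=
  ⟨fun _ hy => le_cent_self h (pow_mem hy _), commutator_self_le.trans (le_cent_self h),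
    fun _ _ _ ha _ hu _ _ e => absurd (cent_le_cent1 hu (le_cent_self h ha)) e,
    fun _ _ _ hV _ ha _ _ _ => hV.trans ((le_cent_self h).trans (cent_le_cent1 ha))⟩

theorem two [Finite G] (h : K.relIndex H ≤ 2) {s t : G} (hs : s ∈ H) (ht : t ∈ H) (h1 : s ∉ K) (h2 : t ∉ K) :
    s * t ∈ K := by
  have a := relIndex_pos K H
  have b : K.relIndex H ≠ 1 := fun e => h1 (relIndex_eq_one.1 e hs)
  have c : (K.subgroupOf H).index = 2 := by change K.relIndex H = 2; omega
  have := (mul_mem_iff_of_index_two c (a := ⟨s, hs⟩) (b := ⟨t, ht⟩)).2 (by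
    simp only [mem_subgroupOf]; tauto)
  exact this

variable [Finite G] [hp : Fact p.Prime] [hr : Fact r.Prime]

/-- The data of a Schmidt group with non-abelian normal Sylow subgroup. -/
structure SD (p r : ℕ) (P : Subgroup G) (x : G) : Prop where
  pg : PG[p, P]
  rg : PG[r, zpowers x]
  ne : r ≠ p
  nm : x ∈ N[P]
  nc : x ∉ C[P]
  pw : x ^ r ∈ C[P]
  fix : P ⊓ C1[x] = Z[P]
  der : ⁅P, P⁆ = Z[P]
  ex : ∀ y ∈ P, y ^ p ∈ C[P]
  od : p ≠ 2 → ∀ y ∈ P, y ^ p = 1
  irr : ∀ U ≤ P, x ∈ N[U] → ¬ U ≤ C[P] → U = P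

namespace SD
variable (h : SD p r P x)
include h

omit hp hr [Finite G] in
theorem cm {a b : G} (ha : a ∈ P) (hb : b ∈ P) : ⁅a, b⁆ ∈ Z[P] := h.der ▸ commutator_mem_commutator ha hb

omit hp hr [Finite G] in
theorem zx {z : G} (hz : z ∈ Z[P]) : x * z * x⁻¹ = z := by
  rw [← h.fix] at hz
  rw [← mem_centralizer_singleton_iff.1 hz.2, mul_inv_cancel_right]

omit hp hr in
theorem inv {y : G} (hy : y ∈ P) (e : x * y * x⁻¹ ∈ Z[P] ⊔ zpowers y) : y ∈ C[P] := by
  by_contra z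
  have ab : Ab[Z[P] ⊔ zpowers y] := isMulComm_sup_zpowers (isMulComm_cent_inf P) (le_cent_center hy)
  have := h.irr (Z[P] ⊔ zpowers y) (sup_le inf_le_left (zpowers_le.2 hy)) (mem_norm_of_map_le (by
    rw [Subgroup.map_sup, MonoidHom.map_zpowers]
    refine sup_le ?_ (zpowers_le.2 e)
    rintro _ ⟨w, hw, rfl⟩
    rw [cj_apply, h.zx hw]
    exact mem_sup_left hw)) fun a => z (a (mem_sup_right (mem_zpowers y)))
  rw [this] at ab
  exact z (le_cent_self ab hy)

omit hr in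
theorem card {B : Subgroup G} {a u : G} (ha : a ∈ P) (hu : u ∈ P) (e : B ⊔ zpowers a = P) (hB : B ≤ C1[u])
    (hn : a ∉ C1[u]) : o[Z[P]] = p := by
  have d : zpowers ⁅u, a⁆ ≤ Z[P] := zpowers_le.2 (h.cm hu ha)
  have dc : P ≤ C[zpowers ⁅u, a⁆] := le_cent_center.trans (cent_anti d)
  have k : P ≤ stab {u} (zpowers ⁅u, a⁆) := by
    rw [← e]
    refine sup_le (fun b hb => ⟨dc (e ▸ mem_sup_left hb), ?_⟩) (zpowers_le.2 ⟨dc ha, ?_⟩)
    · rintro _ rfl
      rw [commutatorElement_eq_one_iff_mul_comm.2 (mem_centralizer_singleton_iff.1 (hB hb)).symm]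
      exact one_mem _
    · rintro _ rfl
      exact mem_zpowers _
  have xz : zpowers x ≤ C[zpowers ⁅u, a⁆] := by
    rw [le_centralizer_iff, cent_zpowers]
    exact d.trans (h.fix.ge.trans inf_le_right)
  have := h.irr (P ⊓ stab (P : Set G) (zpowers ⁅u, a⁆)) inf_le_left (mem_norm_inf h.nm
    (norm_stab (zpowers_le.2 h.nm) (le_norm_of_le_cent xz) (mem_zpowers x))) fun z => hn (by
      have : u ∈ C[P] := z ⟨hu, dc hu, fun v hv => by
        rw [← commutatorElement_inv u v]; exact inv_mem ((k hv).2 u rfl)⟩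
      exact mem_centralizer_singleton_iff.2 (this a ha))
  have f : Z[P] = zpowers ⁅u, a⁆ := le_antisymm (by
    rw [← h.der]
    exact commutator_le.2 fun v hv w hw => (this.ge hw).2.2 v hv) d
  rw [f]
  refine card_zpowers_eq hp.out ?_ fun z => hn (mem_centralizer_singleton_iff.2
    (commutatorElement_eq_one_iff_mul_comm.1 z).symm)
  rw [← commutator_pow_right ((h.cm hu ha).2 a ha).symm, commutatorElement_eq_one_iff_mul_comm]
  exact h.ex a ha u hu

omit hp hr [Finite G] in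
theorem inf_le {a : G} (e : V ⊔ zpowers a = P) (ab : Ab[V]) : V ⊓ C1[a] ≤ Z[P] := by
  refine le_inf (inf_le_left.trans (le_sup_left.trans e.le)) ?_
  rw [← e, cent_sup, cent_zpowers]
  exact inf_le_inf_right _ (le_cent_self ab)

theorem three (p3 : p = 3) (hZ : o[Z[P]] = p) {a : G} (ha : a ∈ P) (e : V ⊔ zpowers a = P) (hV : Z[P] ≤ V)
    (ab : Ab[V]) : False := by
  have VP : V ≤ P := le_sup_left.trans e.le
  have o := h.od (by omega)
  have c1 : C1[a].relIndex V ≤ p := hZ ▸ relIndex_cent1_le fun v hv => h.cm (VP hv) ha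
  have c2 : o[C1[a] ⊓ V] ≤ p := hZ ▸ card_le_of_le (inf_comm V _ ▸ h.inf_le e ab)
  have c3 : o[V] ≤ p * p := card_inf_mul_relIndex C1[a] V ▸ Nat.mul_le_mul c2 c1
  have c4 : o[zpowers a] ≤ p := by
    rw [Nat.card_zpowers]; exact Nat.le_of_dvd hp.out.pos (orderOf_dvd_of_pow_eq_one (o a ha))
  have c5 : o[P] ≤ p * p * p := by
    have := card_sup_dvd (H := V) (K := zpowers a) (.inr ((zpowers_le.2 ha).trans
      (le_norm_of_commutator_le (h.der.le.trans hV) VP)))
    rw [e] at this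
    exact (Nat.le_of_dvd (Nat.mul_pos (card_pos' _) (card_pos' _)) this).trans (Nat.mul_le_mul c3 c4)
  have c6 : p < o[P] := hZ ▸ card_lt_of_lt (inf_le_left.lt_of_ne fun z => h.nc (by
    rw [← le_cent1_iff]; exact z.ge.trans (h.fix.ge.trans inf_le_right)))
  have c7 := card_modEq_inf_cent h.rg (zpowers_le.2 h.nm)
  rw [cent_zpowers, h.fix, hZ] at c7
  obtain ⟨k, hk⟩ := h.pg.exists_card_eq
  rw [hk] at c5 c6 c7
  subst p3
  have r2 : r = 2 := by
    have hk3 : k ≤ 3 := (Nat.pow_le_pow_iff_right (by norm_num : 1 < 3)).1 (c5.trans (by norm_num))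
    have : r ∣ 2 ^ 3 * 3 := by
      have := (Nat.modEq_iff_dvd' c6.le).1 c7.symm
      interval_cases k
      · omega
      · omega
      · exact this.trans (by norm_num)
      · exact this.trans (by norm_num)
    rcases (Nat.Prime.dvd_mul hr.out).1 this with z | z
    · exact (Nat.prime_dvd_prime_iff_eq hr.out Nat.prime_two).1 (hr.out.dvd_of_dvd_pow z)
    · exact absurd ((Nat.prime_dvd_prime_iff_eq hr.out Nat.prime_three).1 z) h.ne
  subst r2
  refine h.nc fun y hy => ?_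
  have hy' := CfsgH2.conj_mem_of_norm h.nm hy
  have t1 : y * (x * y * x⁻¹)⁻¹ ∈ P := mul_mem hy (inv_mem hy')
  have t2 : x * (y * (x * y * x⁻¹)⁻¹) * x⁻¹ = (y * (x * y * x⁻¹)⁻¹)⁻¹ := by
    have := h.pw y⁻¹ (inv_mem hy)
    calc _ = x * y * x⁻¹ * (x ^ 2 * y⁻¹) * (x ^ 2)⁻¹ := by rw [sq]; group
      _ = _ := by rw [← this]; group
  have t3 := h.zx ⟨t1, h.inv t1 (t2 ▸ mem_sup_right (inv_mem (mem_zpowers _)))⟩
  rw [t2] at t3
  have t4 := o _ t1
  rw [pow_succ, sq] at t4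
  nth_rewrite 1 [← t3] at t4
  rw [inv_mul_cancel, one_mul, mul_inv_eq_one] at t4
  rw [eq_mul_inv_iff_mul_eq] at t4
  exact t4

omit hp hr in
theorem two' (p2 : p = 2) (hZ : o[Z[P]] = p) {a : G} (ha : a ∈ P) (e : V ⊔ zpowers a = P) (hV : Z[P] ≤ V)
    (el : IsElementaryAbelian p V) : V ≤ C1[a] := by
  subst p2
  intro v hv
  by_contra hn
  have VP : V ≤ P := le_sup_left.trans e.le
  have vP := VP hv
  have sq' : ∀ y ∈ V, y * y = 1 := fun y hy => by rw [← sq]; exact el.2 y hy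
  have c1 : C1[a].relIndex V ≤ 2 := hZ ▸ relIndex_cent1_le fun v hv => h.cm (VP hv) ha
  have c2 : C1[v].relIndex P ≤ 2 := hZ ▸ relIndex_cent1_le fun s hs => h.cm hs vP
  have F2 : ∀ t ∈ V, t ∈ Z[P] ∨ t * v ∈ Z[P] := fun t ht => by
    by_cases z : t ∈ C1[a]
    · exact .inl (h.inf_le e el.1 ⟨ht, z⟩)
    · exact .inr (h.inf_le e el.1 ⟨mul_mem ht hv, two c1 ht hv z hn⟩)
  have av : a ∉ C1[v] := fun z => hn (mem_centralizer_singleton_iff.2
    (mem_centralizer_singleton_iff.1 z).symm)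
  have Vv : V ≤ C1[v] := (le_cent_self el.1).trans (cent_le_cent1 hv)
  have F4 : P ⊓ C1[v] ≤ V := by
    rw [← e, sup_inf_of_norm (.inr ((zpowers_le.2 ha).trans
      (le_norm_of_commutator_le (h.der.le.trans hV) VP))) Vv]
    refine sup_le le_rfl ?_
    rintro _ ⟨⟨n, rfl⟩, hy⟩
    have a2 : a ^ (2 : ℤ) ∈ V := hV ⟨zpow_mem ha _, by exact_mod_cast h.ex a ha⟩
    rcases Int.even_or_odd' n with ⟨k, rfl | rfl⟩
    · simp only [zpow_mul]; exact zpow_mem a2 _
    · simp only [zpow_add, zpow_mul, zpow_one] at hy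
      exact absurd ((mul_mem_cancel_left (Vv (zpow_mem a2 k))).1 hy) av
  have vc : v ∉ C[P] := fun z => av (mem_centralizer_singleton_iff.2 (z a ha))
  obtain ⟨w, hw⟩ : ∃ w, w = x * v * x⁻¹ := ⟨_, rfl⟩
  have wP : w ∈ P := hw ▸ CfsgH2.conj_mem_of_norm h.nm vP
  have w2 : w * w = 1 := by rw [hw, conj_mul, sq' v hv]; group
  have wV : w ∉ V := fun z => vc (h.inv vP (hw ▸ by
    rcases F2 w z with k | k
    · exact mem_sup_left k
    · exact (mul_mem_cancel_right (mem_sup_right (mem_zpowers v))).1 (mem_sup_left k)))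
  have wv : w ∉ C1[v] := fun z => wV (F4 ⟨wP, z⟩)
  have wc : w ∉ C[P] := fun z => wv (cent_le_cent1 vP z)
  obtain ⟨w', hw'⟩ : ∃ w', w' = x * w * x⁻¹ := ⟨_, rfl⟩
  have wP' : w' ∈ P := hw' ▸ CfsgH2.conj_mem_of_norm h.nm wP
  have w2' : w' * w' = 1 := by rw [hw', conj_mul, w2]; group
  have n1 : w' ∉ Z[P] ⊔ zpowers w := fun z => wc (h.inv wP (hw' ▸ z))
  have iw : w⁻¹ = w := inv_eq_of_mul_eq_one_right w2
  have iw' : w'⁻¹ = w' := inv_eq_of_mul_eq_one_right w2'
  have iv : v⁻¹ = v := inv_eq_of_mul_eq_one_right (sq' v hv)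
  by_cases z : w' ∈ V
  · rcases F2 w' z with k | k
    · exact n1 (mem_sup_left k)
    · have := h.inv (mul_mem vP wP) (by
        have : x * (v * w) * x⁻¹ = (w' * v) * (v * w)⁻¹ := by
          rw [← conj_mul, ← hw, ← hw', mul_inv_rev, iw, iv, ← mul_assoc (w' * v) w v, ← k.2 w wP,
            mul_assoc, mul_assoc, sq' v hv, mul_one]
        rw [this]
        exact mul_mem (mem_sup_left k) (mem_sup_right (inv_mem (mem_zpowers _))))
      exact wv ((mul_mem_cancel_left (self_mem_cent1 v)).1 (cent_le_cent1 vP this))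
  · have t := F4 ⟨mul_mem wP wP', two c2 wP wP' wv fun k => z (F4 ⟨wP', k⟩)⟩
    rcases F2 _ t with k | k
    · exact n1 ((mul_mem_cancel_left (mem_sup_right (mem_zpowers w))).1 (mem_sup_left k))
    · have c : w * w' = w' * w := by
        rw [← inv_eq_of_mul_eq_one_right (sq' _ t), mul_inv_rev, iw, iw']
      have k1 : w * w' ∈ C1[w] := mul_mem (self_mem_cent1 w) (mem_centralizer_singleton_iff.2 c.symm)
      have k2 := (mul_mem_cancel_left k1).1 (cent_le_cent1 wP k.2)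
      exact wv (mem_centralizer_singleton_iff.2 (mem_centralizer_singleton_iff.1 k2).symm)

theorem gd : Gd p P :=
  ⟨h.ex, h.der.le.trans inf_le_right, fun _ _ _ ha _ hu e1 e2 e3 => h.card ha hu e1 e2 e3,
    fun p3 hZ _ _ _ ha e1 e2 e3 => by
      have := hp.out.two_le
      rcases (by omega : p = 2 ∨ p = 3) with z | z
      · exact h.two' z hZ ha e1 e2 e3
      · exact (h.three z hZ ha e1 e2 e3.1).elim⟩

end SD

omit hr in
theorem gd_of_schmidt (hX : IsMinimalNonNilpotent G) (hP : Syl p P ⊤) : Gd p P := by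
  have nil : ∀ H : Subgroup G, H < ⊤ → Nil[H] := fun H a => hX.2 H a.ne
  obtain ⟨r, q, x, Q, hr, hq, ne, s1, s2, nQ, e, nc⟩ := CfsgH1.schmidt_structure (L := (⊤ : Subgroup G))
    (fun z => hX.1 ((Group.isNilpotent_top).1 z)) nil
  haveI := Fact.mk hr
  haveI := Fact.mk hq
  by_cases pq : p = q
  swap
  · refine gd_of_ab (comm_self_eq_bot_iff.1 ?_)
    haveI := top_le_norm_iff.1 nQ
    have : ⁅P, P⁆ ≤ Q := by
      rw [← CfsgTB.mk_bot, map_commutator, comm_self_eq_bot_iff]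
      refine isMulComm_of_cyclic (isCyclic_of_le (K := (Q ⊔ zpowers x).map (QuotientGroup.mk' Q)) ?_
        (map_mono (e ▸ le_top)))
      rw [Subgroup.map_sup, CfsgTB.mk_bot.2 le_rfl, bot_sup_eq, MonoidHom.map_zpowers]
      infer_instance
    rw [← le_bot_iff, ← CfsgH1.inf_eq_bot_of_coprime (CfsgH1.coprime_card_of_pgroup_ne hp.out hq pq hP.pg s2.pg)]
    exact le_inf commutator_self_le this
  subst pq
  obtain rfl : P = Q := s2.eq_of_norm hP nQ
  have cop := CfsgH1.coprime_card_of_pgroup_ne hr hq ne s1.pg s2.pg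
  have bot := CfsgH1.inf_eq_bot_of_coprime cop
  have hmin : ∀ U, U < P → zpowers x ≤ N[U] → zpowers x ≤ C[U] := fun U u1 u2 => by
    refine nil_le_cent (nil (U ⊔ zpowers x) (lt_top_iff_ne_top.2 fun z => u1.ne ?_)) le_sup_right le_sup_left
      (cop.coprime_dvd_right (card_dvd_of_le u1.le))
    have := sup_inf_of_norm (.inr u2) u1.le
    rwa [z, bot, top_inf_eq, sup_bot_eq, eq_comm] at this
  obtain ⟨-, h2, h3, h4, h5⟩ := CfsgH1.hh_reduction hP.pg (le_top.trans nQ) le_rfl le_normalizer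
    (CfsgCP.not_dvd_pg s1.pg ne.symm) (fun z => nc (zpowers_le.1 z)) hmin
  rcases h4 with h4 | ⟨h4, h6⟩
  · exact gd_of_ab h4.1
  rw [cent_zpowers, h4] at h2
  refine SD.gd (r := r) (x := x) ⟨hP.pg, s1.pg, ne, nQ (mem_top x), nc, ?_, h2, h6,
    fun y hy => h3 (pow_mem_phi hP.pg hy), h5, fun U u1 u2 u3 => by_contra fun z => u3 ?_⟩
  · have l : zpowers (x ^ r) ≤ zpowers x := zpowers_le.2 (pow_mem (mem_zpowers x) r)
    refine zpowers_le.1 (nil_le_cent (nil (zpowers (x ^ r) ⊔ P) (lt_top_iff_ne_top.2 fun z => nc ?_))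
      le_sup_left le_sup_right (cop.coprime_dvd_left (card_dvd_of_le l)))
    have := sup_inf_of_norm (K := P) (.inl (le_top.trans nQ)) l
    rw [z, top_inf_eq, inf_comm, bot, sup_bot_eq] at this
    have k := mem_zpowers_pow_iff.1 (this ▸ mem_zpowers x)
    obtain ⟨n, hn⟩ := s1.pg.exists_card_eq
    rw [Nat.card_zpowers] at hn
    rcases n with _ | n
    · rw [pow_zero, orderOf_eq_one_iff] at hn
      rw [hn]; exact one_mem _
    · rw [hn, pow_succ, Nat.gcd_mul_left_right] at k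
      exact absurd k hr.one_lt.ne'
  · have := le_centralizer_iff.1 (hmin U (u1.lt_of_ne z) (zpowers_le.2 u2))
    rw [cent_zpowers] at this
    exact (le_inf u1 this).trans (h2.le.trans inf_le_right)

end CfsgH4.Sch
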