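import Cfsg.Agent.L0.MC2
import Cfsg.Agent.L0.Mcy

/-! `2`-constrained groups with dihedral or semidihedral Sylow `2`-subgroups. -/

set_option autoImplicit false

namespace CfsgH4
open Function Subgroup Cfsg CfsgH2 CfsgL0
open scoped commutatorElement

variable {G : Type*} [Group G] [Finite G] {Q S A : Subgroup G} {a b g t : G} {m : ℕ}

theorem card_aut_dvd_six (h : Nat.card G ≤ 4) : Nat.card (MulAut G) ∣ 6 := by
  classical
  have := Fintype.ofFinite G
  have i : Function.Injective (MonoidHom.mk' (M := MulAut G) (fun φ => Equiv.Perm.subtypePerm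
      φ.toEquiv (p := fun v => ¬ v = 1) fun _ => φ.map_eq_one_iff.not) fun _ _ => rfl) := by
    refine (injective_iff_map_eq_one _).2 fun φ e => MulEquiv.ext fun v => ?_
    by_cases h1 : v = 1
    · rw [h1, map_one, map_one]
    · exact congrArg Subtype.val (DFunLike.congr_fun e ⟨v, h1⟩)
  refine (card_dvd_of_injective _ i).trans ?_
  rw [Nat.card_eq_fintype_card, Fintype.card_perm, Fintype.card_subtype_compl,
    Fintype.card_subtype_eq, ← Nat.card_eq_fintype_card]
  exact Nat.factorial_dvd_factorial (m := _) (n := 3) (by omega)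

theorem phi_idx_of_mc (hT : PG[2, Q]) (h : CfsgBG.Mc Q) : Φ[Q].relIndex Q ∣ 2 ^ 2 := by
  obtain ⟨a, b, h1, h2⟩ := h
  have ha : a ∈ Q := h2 ▸ mem_sup_left (mem_zpowers a)
  have hb : b ∈ Q := h2 ▸ mem_sup_right (mem_zpowers b)
  have l : Φ[Q] ⊔ zpowers a ≤ Q := sup_le phi_le (zpowers_le.2 ha)
  have e : Φ[Q] ⊔ zpowers a ⊔ zpowers b = Q := by rw [sup_assoc, h2, sup_eq_right.2 phi_le]
  rw [← relIndex_mul_relIndex _ _ _ le_sup_left l, sq]
  refine mul_dvd_mul (relIndex_sup_zpowers_dvd (le_norm_phi ha) (pow_mem_phi hT ha)) ?_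
  have := relIndex_sup_zpowers_dvd (le_norm_sup le_norm_phi h1 hb) (mem_sup_left (pow_mem_phi hT hb))
  rwa [e] at this

theorem odd_card_dvd_three [Q.Normal] (hQ : PG[2, Q]) (hc : C[Q] ≤ Q) (hm : CfsgBG.Mc Q)
    (hA : Odd o[A]) : o[A] ∣ 3 := by
  haveI : Φ[Q].Normal := normalizer_eq_top_iff.1
    (eq_top_iff.2 ((normalizer_eq_top_iff.2 ‹_›).ge.trans norm_le_norm_phi))
  let φ := QuotientGroup.mk' Φ[Q]
  haveI : (Q.map φ).Normal := Normal.map ‹_› _ (QuotientGroup.mk'_surjective _)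
  let f := (MulAut.conjNormal (H := Q.map φ)).comp φ
  have h1 : o[Q.map φ] ≤ 4 := by
    rw [← relIndex_ker, QuotientGroup.ker_mk']
    exact Nat.le_of_dvd (by norm_num) (phi_idx_of_mc hQ hm)
  have h2 : o[A] ∣ 6 := by
    refine (card_dvd_of_injective (f.comp A.subtype) ((injective_iff_map_eq_one _).2 fun x hx => ?_)).trans
      (card_aut_dvd_six h1)
    have ho : Odd (orderOf x.1) := hA.of_dvd_nat (orderOf_dvd_natCard A x.2)
    have h3 : zpowers x.1 ≤ C[Q] := by
      refine coprime_le_cent_of_phi le_normalizer_of_normal ?_ (commutator_le.2 fun y hy w hw => ?_)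
      · rw [Nat.card_zpowers]
        exact (coprime_of_pgroup hQ ho.not_two_dvd_nat).symm
      · have h4 : f w = 1 := (zpowers_le.2 (show x.1 ∈ f.ker from hx)) hw
        have h5 := congrArg Subtype.val (DFunLike.congr_fun h4 ⟨φ y⁻¹, mem_map_of_mem _ (inv_mem hy)⟩)
        rw [← QuotientGroup.eq_one_iff]
        change φ w * φ y⁻¹ * (φ w)⁻¹ = φ y⁻¹ at h5
        change φ (y * w * y⁻¹ * w⁻¹) = 1
        rw [mul_assoc y, mul_assoc y, map_mul, map_mul, map_mul, map_inv φ w, h5, ← map_mul,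
          mul_inv_cancel, map_one]
    exact Subtype.ext (eq_one_of_coprime_order hQ (hc (h3 (mem_zpowers _))) (Nat.coprime_two_right.2 ho))
  exact (Nat.coprime_two_right.2 hA).dvd_of_dvd_mul_left (show o[A] ∣ 2 * 3 from h2)

theorem isConj_of_odd [Q.Normal] (hQ : PG[2, Q]) (hc : C[Q] ≤ Q) (hS : Syl 2 S ⊤)
    (h : MC S a b m) (hm : NQ S a m) (hg : Odd (orderOf g)) (g1 : g ≠ 1) (ht : Odd (orderOf t))
    (t1 : t ≠ 1) : IsConj g t := by
  classical
  haveI : Fact (Nat.Prime 3) := ⟨Nat.prime_three⟩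
  have hl : Q ≤ S := hS.le_of_norm hQ le_top le_normalizer_of_normal
  have h3 : ∀ A : Subgroup G, Odd o[A] → o[A] ∣ 3 := fun A =>
    odd_card_dvd_three hQ hc (Mc_mono ⟨a, b, h.le_norm, h.sup⟩ hl)
  have h4 : ∀ x : G, Odd (orderOf x) → x ≠ 1 → orderOf x = 3 := fun x hx x1 =>
    ((Nat.dvd_prime Nat.prime_three).1 (Nat.card_zpowers x ▸ h3 _ (by rwa [Nat.card_zpowers]))).resolve_left
      (by rwa [orderOf_eq_one_iff])
  have h5 : ∀ x : G, Odd (orderOf x) → x ≠ 1 → Syl 3 (zpowers x) ⊤ := fun x hx x1 => by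
    obtain ⟨P, hP⟩ := exists_syl (p := 3) (⊤ : Subgroup G)
    refine hP.of_card_ge (CfsgH2.isPGroup_zpowers (k := 1) (by rw [pow_one, ← h4 x hx x1, pow_orderOf_eq_one]))
      le_top ?_
    rw [Nat.card_zpowers, h4 x hx x1]
    obtain ⟨k, hk⟩ := hP.pg.exists_card_eq
    exact Nat.le_of_dvd (by norm_num) (h3 P (hk ▸ Odd.pow (by decide)))
  have h6 : ∀ y ∈ zpowers g, y ≠ 1 → y = g ∨ y = g⁻¹ := fun y hy y1 => by
    obtain ⟨k, hk, rfl⟩ := (mem_zpowers_iff_mem_range_orderOf.1 hy |> Finset.mem_image.1)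
    have e := pow_orderOf_eq_one g
    rw [h4 g hg g1] at hk e
    rw [Finset.mem_range] at hk
    interval_cases k
    · simp at y1
    · simp
    · exact .inr (eq_inv_of_mul_eq_one_left (by rw [← pow_succ, e]))
  have h7 : IsConj g g⁻¹ := by
    by_contra h7
    have h8 : NPC 3 (⊤ : Subgroup G) := (h5 g hg g1).npc_of_norm_le_cent fun x hx => by
      rw [zpowers_eq_closure, centralizer_closure, mem_centralizer_singleton_iff]
      rcases h6 _ ((mem_normalizer_iff.1 hx.2 g).1 (mem_zpowers g)) (by simpa using g1) with e | e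
      · exact mul_inv_eq_iff_eq_mul.1 e
      · exact absurd (isConj_iff.2 ⟨x, e⟩) h7
    have h9 : PG[2, O[{3}ᶜ, (⊤ : Subgroup G)]] := by
      rw [isPGroup_iff_piN]
      intro q hq hd
      by_contra h2
      haveI := Fact.mk hq
      obtain ⟨x, hx⟩ := exists_prime_orderOf_dvd_card' q hd
      rw [← orderOf_coe] at hx
      have := h4 x (hx ▸ hq.odd_of_ne_two h2) fun e => hq.one_lt.ne (by rw [← hx, e, orderOf_one])
      exact piN_piCoreOf q hq hd (hx.symm.trans this)
    have h10 := hS.eq_of_le h9 (h8.le le_top fun e => by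
      rw [h.card] at e; exact absurd (Nat.prime_three.dvd_of_dvd_pow e) (by norm_num)) le_top
    rcases mc_aut h hm le_rfl with e | e
    · have := e g (h10 ▸ le_norm_piCoreOf (mem_top g)) hg
      exact g1 (eq_one_of_coprime_order hQ (hc (centralizer_le hl this)) (Nat.coprime_two_right.2 hg))
    · exact mc_a_nmem h (e ⟨h.amem, mem_zpowers a⟩)
  obtain ⟨x, -, hx⟩ := (h5 t ht t1).conj (h5 g hg g1)
  have h8 : IsConj (x * t * x⁻¹) t := (isConj_iff.2 ⟨x, rfl⟩).symm
  rcases h6 (x * t * x⁻¹) (hx ▸ mem_map_of_mem _ (mem_zpowers t)) (by simpa using t1) with e | e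
  exacts [e ▸ h8, h7.trans (e ▸ h8)]

end CfsgH4
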