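import Cfsg.Agent.H4.FongP
import Cfsg.Agent.H4.SolG

/-! Blocks of solvable groups with dihedral or semidihedral defect groups have `l(B) ≤ 2`. -/

set_option autoImplicit false
open Cfsg MonoidAlgebra CfsgL0 CfsgH1 CfsgH4 Function
open CfsgH3 hiding cj_cj
open CfsgH2 (MC Syl)

namespace CfsgH4

universe u

variable {G H : Type*} [Group G] [Group H] [Finite G] [Finite H] {M : Ideal AlgInt} {p : ℕ}

local notation "C[" Q "]" => Subgroup.centralizer (SetLike.coe (Q : Subgroup _))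

omit [Finite G] in
theorem rg_indFun [Fintype G] {T : Subgroup G} (a : T → ℂ) :
    rg p (indFun T a) = indFun T (rg p a) := by
  ext g
  have h1 : ∀ x (hx : x⁻¹ * g * x ∈ T), orderOf (⟨_, hx⟩ : T) = orderOf g := fun x hx => by
    rw [← Subgroup.orderOf_coe, ← orderOf_conj x⁻¹ g, inv_inv]
  by_cases hg : p ∣ orderOf g
  · rw [rg_of_sing _ hg, indFun_eq_zero_of_forall _ fun x hx => rg_of_sing _ (h1 x hx ▸ hg)]
  · rw [rg_of_reg _ hg, ← sub_eq_zero, ← Pi.sub_apply, ← indFun_sub]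
    exact indFun_eq_zero_of_forall _ fun x hx => by
      rw [Pi.sub_apply, rg_of_reg _ (h1 x hx ▸ hg), sub_self]

theorem exists_prop_over {G : Type u} [Group G] [Finite G] {N : Subgroup G} [N.Normal]
    {θ : IrrCharacter N} (hinv : ∀ g : G, CfsgH3.cj g θ.1 = θ.1) (t : G ⧸ N) :
    ∃ s : G, ∀ g : G, IsConj t (g : G ⧸ N) → ∃ c : ℂ, ∀ χ : IrrCharacter G,
      Over N.subtype χ.1 θ.1 → χ.1 g = c * χ.1 s := by
  obtain ⟨k, H, _, _, π, i, τ, lam, h⟩ := exists_ct' θ.2 hinv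
  have := Fintype.ofFinite N
  obtain ⟨t, rfl⟩ := QuotientGroup.mk_surjective t
  obtain ⟨t, rfl⟩ := h.surj t
  obtain ⟨n, hn⟩ := h.exists_ne t
  refine ⟨π (i n * t), fun g hg => ?_⟩
  obtain ⟨y, hy⟩ := isConj_iff.1 hg
  obtain ⟨y, rfl⟩ := QuotientGroup.mk_surjective y
  obtain ⟨y, rfl⟩ := h.surj y
  have h1 : g * (π (y * (i n * t) * y⁻¹))⁻¹ ∈ N := by
    rw [← QuotientGroup.eq_one_iff, map_mul, map_mul, map_mul, map_inv, h.pi_i]
    simp only [QuotientGroup.mk_mul, QuotientGroup.mk_inv, ← hy,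
      (QuotientGroup.eq_one_iff _).2 n.2, one_mul, mul_inv_cancel]
  refine ⟨τ (i ⟨_, h1⟩ * (y * (i n * t) * y⁻¹)) / τ (i n * t), fun χ ho => ?_⟩
  obtain ⟨ξ, h2, h3, -, h4⟩ := h.exists_xi χ.2 (over_subtype_iff.1 ho)
  have h5 := h4 (i ⟨_, h1⟩ * (y * (i n * t) * y⁻¹))
  rw [map_mul, h.pi_i, inv_mul_cancel_right, h2.isCharacter.apply_mul_of_eq' (h3 _),
    h2.isClassFunction] at h5
  rw [h5, h4]
  field_simp

/-- The `p`-regular parts of `B` lie in a plane. -/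
def Two (p : ℕ) (B : Set (IrrCharacter G)) : Prop :=
  ∃ F₁ F₂ : G → ℂ, ∀ χ ∈ B, ∃ c d : ℂ, rg p χ.1 = c • F₁ + d • F₂

theorem Two.rank_le [Fact p.Prime] {B : Set (IrrCharacter G)} (h : Two p B) : blockRank p B ≤ 2 := by
  classical
  obtain ⟨F₁, F₂, h⟩ := h
  have := Fintype.ofFinite G
  refine le_trans (Submodule.finrank_mono (t := Submodule.span ℂ {F₁, F₂}) (Submodule.span_le.2 ?_))
    ((finrank_span_le_card _).trans (by simpa using Finset.card_le_two))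
  rintro _ ⟨χ, hχ, rfl⟩
  obtain ⟨c, d, hc⟩ := h χ hχ
  simp only [pRegularPart_eq, hc]
  exact Submodule.mem_span_pair.2 ⟨c, d, rfl⟩

/-- Dihedral, semidihedral or quaternion of order at least 16, or dihedral of order 8. -/
def Mq (K : Type*) [Group K] : Prop := ∃ a b m, MC (⊤ : Subgroup K) a b m ∧ NQ ⊤ a m

omit [Finite G] [Finite H] in
theorem Mq.map (h : Mq H) {f : H →* G} (hf : Injective f) :
    ∃ a b m, MC f.range a b m ∧ NQ f.range a m := by
  obtain ⟨a, b, m, h1, h2⟩ := h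
  refine ⟨f a, f b, m, f.range_eq_map ▸ h1.map hf, h2.imp_right ?_⟩
  rintro h _ ⟨x, rfl⟩ hx
  rw [← map_mul, h x trivial fun e => hx (MonoidHom.map_zpowers f a ▸ Subgroup.mem_map_of_mem f e),
    map_one]

omit [Finite G] [Finite H] in
theorem Mq.congr (h : Mq H) (e : H ≃* G) : Mq G := by
  have := h.map (f := e.toMonoidHom) e.injective
  rwa [MonoidHom.range_eq_top.2 e.surjective] at this

theorem two_of_psolv [hM : PMod 2 M] (n : ℕ) : ∀ (G : Type u) [Group G] [Finite G],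
    Nat.card G = n → IsPSolvable 2 G → ∀ (B : Set (IrrCharacter G)) (P : Subgroup G),
    IsPBlock M B → IsDefectGroup 2 M B P → Mq P → Two 2 B := by
  induction n using Nat.strong_induction_on with
  | _ n ih =>
  intro G _ _ hn hs B P hB hP hq
  have := Fintype.ofFinite G
  obtain ⟨χ, hχ⟩ := hB.nonempty
  have hN := not_dvd_card_pPrimeCore (G := G) 2
  obtain ⟨θ, ho⟩ := CfsgH4.exists_under (pPrimeCore 2 G).subtype χ
  have hb := isPBlock_singleton (M := M) hN θ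
  by_cases hT : stab ⊤ (ie M _ {θ}) = ⊤
  · have hinv : inertia θ.1 = ⊤ := eq_top_iff.2 fun x _ => mem_inertia'.2 fun n =>
      congrFun (congrArg Subtype.val ((stab_irrCj_iff hb).2 (mem_stab.1
        (hT.ge (Subgroup.mem_top x))).2 θ rfl (irrCj x θ) fun _ => rfl)) n
    obtain ⟨h1, hS⟩ := fong_inv hs hinv hB hχ ho
    have h2 := (syl_iff.1 ((hS P).1 hP)).map (QuotientGroup.mk' (pPrimeCore 2 G))
    rw [Subgroup.map_top_of_surjective _ (QuotientGroup.mk'_surjective _)] at h2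
    obtain ⟨a, b, m, h3, h4⟩ := hq.map (f := (QuotientGroup.mk' (pPrimeCore 2 G)).comp P.subtype)
      ((injective_iff_map_eq_one _).2 fun x hx => Subtype.ext (CfsgH2.eq_one_of_coprime_order
        hP.isPGroup x.2 (Nat.coprime_two_right.2 (Nat.not_even_iff_odd.1 fun e => hN
          (e.two_dvd.trans (Subgroup.orderOf_dvd_natCard _ ((QuotientGroup.eq_one_iff _).1 hx)))))))
    rw [MonoidHom.range_comp, Subgroup.range_subtype] at h3 h4
    have h5 := fun g t => isConj_of_odd (g := g) (t := t) (isPGroup_pCore 2) (centralizer_pCore_le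
      (IsPSolvable.quotient' hs _) (pPrimeCore_quotient_pPrimeCore 2)) h2 h3 h4
    obtain ⟨t, ht⟩ : ∃ t : G ⧸ pPrimeCore 2 G, ∀ g, Odd (orderOf g) → g ≠ 1 → IsConj t g := by
      by_cases h : ∃ t : G ⧸ pPrimeCore 2 G, Odd (orderOf t) ∧ t ≠ 1
      · obtain ⟨t, a, b⟩ := h
        exact ⟨t, fun g => h5 t g a b⟩
      · exact ⟨1, fun g a b => absurd ⟨g, a, b⟩ h⟩
    have hi : ∀ g : G, CfsgH3.cj g θ.1 = θ.1 := fun g => mem_inertia.1 (hinv.ge (Subgroup.mem_top g))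
    obtain ⟨s, h6⟩ := exists_prop_over hi 1
    obtain ⟨r, h7⟩ := exists_prop_over hi t
    have h8 : ∀ g : G, ∃ c d : ℂ, ∀ ψ ∈ B, rg 2 ψ.1 g = c * ψ.1 s + d * ψ.1 r := fun g => by
      by_cases hg : 2 ∣ orderOf g
      · exact ⟨0, 0, fun ψ _ => by simp [rg_of_sing _ hg]⟩
      by_cases h : (g : G ⧸ pPrimeCore 2 G) = 1
      · obtain ⟨c, hc⟩ := h6 g (h ▸ IsConj.refl _)
        exact ⟨c, 0, fun ψ hψ => by simp [rg_of_reg _ hg, hc ψ ((h1 ψ).1 hψ)]⟩
      · obtain ⟨c, hc⟩ := h7 g (ht _ (Nat.not_even_iff_odd.1 fun e =>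
          reg_map hg (QuotientGroup.mk' _) e.two_dvd) h)
        exact ⟨0, c, fun ψ hψ => by simp [rg_of_reg _ hg, hc ψ ((h1 ψ).1 hψ)]⟩
    choose c d h8 using h8
    exact ⟨c, d, fun ψ hψ => ⟨ψ.1 s, ψ.1 r, funext fun g => by simp [h8 g ψ hψ, mul_comm]⟩⟩
  · have h := (le_inertia θ.2.isClassFunction).trans (inertia_le_stab hb rfl)
    obtain ⟨ψ, -, h2, h3⟩ := fr_surj hb le_rfl h hB ⟨χ, hχ, θ, rfl, ho⟩ hχ
    obtain ⟨D, hD⟩ := h3.1.exists_defectGroup
    obtain ⟨x, rfl⟩ := (fr_isDefectGroup hb rfl h h2 h3 hD).exists_conj hB hP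
    obtain ⟨F₁, F₂, h4⟩ := ih _ (hn ▸ CfsgH1.card_lt_of_ne_top hT) _ rfl
      (IsPSolvable.subgroup' hs _) _ _ h3.1 hD (hq.congr
      ((D.equivMapOfInjective _ (Subgroup.subtype_injective _)).trans (cjEquiv x _)).symm)
    refine ⟨indFun _ F₁, indFun _ F₂, fun η hη => ?_⟩
    obtain ⟨ζ, h5, h6⟩ := (fr_mem_iff hb rfl h h2 h3 η).1 hη
    obtain ⟨c, d, h7⟩ := h4 ζ h5
    exact ⟨c, d, by rw [h6, rg_indFun, h7, indFun_add, indFun_smul, indFun_smul]⟩

end CfsgH4
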