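import Cfsg.Agent.H4.P0
import Cfsg.Agent.L0.Bis6

/-! Tate's theorem in character-theoretic form. -/

set_option autoImplicit false
open Cfsg MonoidAlgebra CfsgL0 CfsgH1 CfsgH4 Function
open CfsgH3 hiding cj cj_cj

namespace CfsgH4

variable {G : Type*} [Group G] [Finite G] {p : ℕ} [Fact p.Prime]

theorem npc_of_comm_le (P : Sylow p G) (h : ∀ x ∈ P, ∀ g : G, g * x * g⁻¹ ∈ P →
    x⁻¹ * (g * x * g⁻¹) ∈ ⁅(P : Subgroup G), (P : Subgroup G)⁆) : HasNormalPComplement p G := by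
  have hS := CfsgH2.syl_top P
  refine CfsgH2.npc_top_iff.2 ((npc_iff_inner hS).2 (inner_of_hyp P.isPGroup' (sub_sat hS)
    (hyp_le_foc.trans ((foc_le_iff.2 fun Q f hf x hx => ?_).trans (comm_le_frattini P.isPGroup')))))
  obtain ⟨h1, h2, g, -, h3⟩ := M_sub.1 hf
  rw [h3 x hx]
  exact h x (h1 hx) g (h3 x hx ▸ h2 x hx)

theorem npc_of_lin_ext (P : Sylow p G)
    (h : ∀ l : P →* ℂˣ, ∃ χ : G → ℂ, IsClassFunction G χ ∧ ∀ x : P, χ x = l x) :
    HasNormalPComplement p G := npc_of_comm_le P fun x hx g hg => by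
  rw [← Subgroup.map_subtype_commutator]
  refine ⟨⟨x, hx⟩⁻¹ * ⟨_, hg⟩, by_contra fun e => ?_, rfl⟩
  obtain ⟨l, -, h1⟩ := exists_unitsHom_of_not_mem (N := commutator P) (fun a b =>
    Subgroup.commutator_mem_commutator (Subgroup.mem_top a) (Subgroup.mem_top b)) e
  obtain ⟨χ, h2, h3⟩ := h l
  refine h1 ?_
  rw [map_mul, map_inv, inv_mul_eq_one, ← Units.val_inj, ← h3, ← h3]
  exact (h2 x g).symm

end CfsgH4
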